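import Cfsg.Agent.Lib.BlockHeights.Galois
import Mathlib.RingTheory.Polynomial.Cyclotomic.Roots

/-!
Polynomial description of character values: algebraic conjugates via coprime powers.
-/

set_option autoImplicit false

namespace Cfsg.Agent.Lib.BlockHeights

open Cfsg Cfsg.Agent.Lib.Characters Polynomial

universe u

variable {G : Type u} [Group G] [Finite G]

/-- A character gives one rational polynomial evaluating to all values on powers of `g`. -/
theorem exists_poly_eval {χ : G → ℂ} (hχ : IsCharacter G χ) (g : G) :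
    ∃ P : ℚ[X], ∀ k : ℕ, aeval (zeta (Nat.card G) ^ k) P = χ (g ^ k) := by
  haveI : NeZero (Nat.card G) := ⟨Nat.card_pos.ne'⟩
  obtain ⟨ι, hι, μ, hμ, h⟩ := exists_eigen_sum hχ g
  obtain ⟨c, hc⟩ := orderOf_dvd_natCard g
  have hμn : ∀ i, μ i ^ Nat.card G = 1 := fun i => by rw [hc, pow_mul, hμ i, one_pow]
  choose e _ he using fun i =>
    (isPrimitiveRoot_zeta (Nat.card G)).eq_pow_of_pow_eq_one (hμn i)
  refine ⟨∑ i, X ^ e i, fun k => ?_⟩
  rw [h k, map_sum]
  refine Finset.sum_congr rfl fun i _ => ?_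
  rw [map_pow, aeval_X, ← pow_mul, mul_comm, pow_mul, he i]

/-- Coprime powers preserve the vanishing of a polynomial at a root of unity. -/
theorem aeval_zeta_eq_zero_iff {n : ℕ} [NeZero n] (P : ℚ[X]) {k : ℕ} (hk : Nat.Coprime k n) :
    aeval (zeta n ^ k) P = 0 ↔ aeval (zeta n) P = 0 := by
  have h1 := Polynomial.cyclotomic_eq_minpoly_rat (isPrimitiveRoot_zeta n) (NeZero.pos n)
  have h2 := Polynomial.cyclotomic_eq_minpoly_rat
    ((isPrimitiveRoot_zeta n).pow_of_coprime k hk) (NeZero.pos n)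
  rw [← minpoly.dvd_iff, ← minpoly.dvd_iff, ← h1, ← h2]

theorem eq_zero_of_pow_coprime {χ : G → ℂ} (hχ : IsCharacter G χ) {g : G} {k : ℕ}
    (hk : Nat.Coprime k (Nat.card G)) : χ (g ^ k) = 0 ↔ χ g = 0 := by
  haveI : NeZero (Nat.card G) := ⟨Nat.card_pos.ne'⟩
  obtain ⟨P, hP⟩ := exists_poly_eval hχ g
  rw [← hP k, aeval_zeta_eq_zero_iff P hk]
  have := hP 1
  rw [pow_one, pow_one] at this
  rw [this]

theorem exists_pow_inverse {k : ℕ} (hk : Nat.Coprime k (Nat.card G)) (g : G) :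
    ∃ m : ℕ, (g ^ k) ^ m = g :=
  exists_pow_eq_self_of_coprime (Nat.Coprime.coprime_dvd_right (orderOf_dvd_natCard g) hk)

end Cfsg.Agent.Lib.BlockHeights
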