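import Cfsg.Agent.Lib.BlockHeights.Heights

/-!
# The sum of the squares of the degrees in a block
-/

set_option autoImplicit false
set_option linter.unusedSectionVars false
set_option linter.style.haveILetI false

namespace Cfsg.Agent.Lib.BlockHeights

open Cfsg Cfsg.Agent.Lib.Blocks Cfsg.Agent.Lib.Characters
open scoped ComplexConjugate

universe u

variable {G : Type u} [Group G] [Fintype G] {p : ℕ} {M : Ideal AlgInt} [M.IsPrime]

/-- A central local integral function supported on the `p`-regular elements agrees there with a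
local integral combination of irreducible characters. -/
theorem exists_regular_expansion [Fintype (IrrCharacter G)] (hM : IsPModular p M) {f : G → ℂ}
    (hf : IsRCentral M f) (hsing : ∀ y, ¬ IsPRegular p y → f y = 0) :
    ∃ b : IrrCharacter G → ℂ, (∀ φ, MemLocalRing M (b φ)) ∧
      ∀ y, f y = regInd p y * ∑ φ : IrrCharacter G, b φ * conj ((φ : G → ℂ) y) := by
  classical
  haveI : Finite (ConjClasses G) := Finite.of_surjective _ ConjClasses.mk_surjective
  haveI := Fintype.ofFinite (ConjClasses G)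
  have hC : ∀ C : ConjClasses G, ∃ b : IrrCharacter G → ℂ, (∀ φ, MemLocalRing M (b φ)) ∧
      ∀ y, f (Quotient.out C) * classIndicator (Quotient.out C) y =
        regInd p y * ∑ φ : IrrCharacter G, b φ * conj ((φ : G → ℂ) y) := by
    intro C
    by_cases hreg : IsPRegular p (Quotient.out C)
    · obtain ⟨b, hb, hexp⟩ := exists_classIndicator_expansion hM hreg
      refine ⟨fun φ => f (Quotient.out C) * b φ, fun φ => memLocalRing_mul (hf.2 _) (hb φ),
        fun y => ?_⟩
      simp only [hexp, mul_assoc, ← Finset.mul_sum]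
      ring
    · exact ⟨fun _ => 0, fun _ => memLocalRing_zero, fun y => by simp [hsing _ hreg]⟩
  choose b hb hexp using hC
  refine ⟨fun φ => ∑ C, b C φ, fun φ => memLocalRing_sum _ fun C _ => hb C φ, fun y => ?_⟩
  conv_lhs => rw [classFunction_eq_sum_classes hf.1]
  simp only [Finset.sum_apply, Pi.smul_apply, smul_eq_mul, hexp, Finset.mul_sum, Finset.sum_mul]
  exact Finset.sum_comm

omit [M.IsPrime] in
theorem sum_pairing_mul_apply_one [Fintype (IrrCharacter G)] (hp : p.Prime) (φ : IrrCharacter G) :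
    ∑ χ : IrrCharacter G, (pairing p φ χ : ℂ) * (χ : G → ℂ) 1 =
      (p : ℂ) ^ (Nat.card G).factorization p * (φ : G → ℂ) 1 := by
  have hcl : IsClassFunction G (pPowReg p * (φ : G → ℂ)) :=
    IsGeneralizedCharacter.isClassFunction (IsGeneralizedCharacter.mul
      (isGeneralizedCharacter_pPowReg hp) (IsCharacter.isGeneralizedCharacter (irr_isCharacter φ)))
  have h := congrFun (eq_sum_classInner hcl) 1
  simp only [Pi.mul_apply, pPowReg_apply, regInd_of_regular (isPRegular_one (G := G) hp), mul_one,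
    Finset.sum_apply, Pi.smul_apply, smul_eq_mul, ← pairing_eq_classInner hp] at h
  exact h.symm

/-- **The exact power of `p` in the sum of the squares of the degrees of a block.** -/
theorem factorization_sum_degree_sq (hM : IsPModular p M) {B : Set (IrrCharacter G)}
    (hB : IsPBlock M B) :
    (∑ᶠ χ ∈ B, charDegree (χ : G → ℂ) ^ 2).factorization p =
      (Nat.card G).factorization p + minExp p B := by
  classical
  haveI := Fintype.ofFinite (IrrCharacter G)
  set a := (Nat.card G).factorization p with ha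
  obtain ⟨χ₀, hχ₀, hmin⟩ := exists_nu_eq_minExp (p := p) (IsPBlock.nonempty hB)
  obtain ⟨b, hb, hexp⟩ := exists_regular_expansion hM (isRCentral_blockCoeff hM hB)
    fun y => blockCoeff_eq_zero_of_singular hM hB
  set S := Finset.univ.filter (· ∈ B) with hS
  have hω : ∀ χ : IrrCharacter G, χ ∈ B →
      (χ : G → ℂ) 1 = (ordPart p G : ℂ) * ∑ φ ∈ S, b φ * (pairing p φ χ : ℂ) := by
    intro χ hχ
    have h := omega_mul_apply_one χ.2 (blockCoeff B)
    rw [omega_blockCoeff, if_pos hχ, one_mul] at h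
    rw [h]
    simp only [hexp, pairing_symm hM.1 _ χ, pairing_spec hM.1, Finset.mul_sum, Finset.sum_mul]
    rw [Finset.sum_comm]
    rw [← Finset.sum_subset (Finset.subset_univ S) fun φ _ hφ => ?_]
    · refine Finset.sum_congr rfl fun φ _ => Finset.sum_congr rfl fun y _ => ?_
      field_simp [ordPart_ne_zero (p := p) (G := G)]
    · have h0 := pairing_eq_zero hM hB hχ (ψ := φ) (by simpa [hS] using hφ)
      have h1 := pairing_spec hM.1 χ φ
      rw [h0, Int.cast_zero, eq_comm, mul_eq_zero] at h1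
      rw [← mul_zero (b φ), ← h1.resolve_left (inv_ne_zero ordPart_ne_zero), Finset.mul_sum]
      exact Finset.sum_congr rfl fun y _ => by ring
  set T : ℂ := ∑ φ ∈ S, b φ * (φ : G → ℂ) 1 with hT
  have htot : ((∑ᶠ χ ∈ B, charDegree (χ : G → ℂ) ^ 2 : ℕ) : ℂ) = (Nat.card G : ℂ) * T := by
    rw [finsum_mem_def, finsum_eq_sum_of_fintype]
    simp only [Set.indicator_apply]
    rw [← Finset.sum_filter, Nat.cast_sum, Finset.mul_sum]
    have hterm : ∀ χ ∈ S, ((charDegree (χ : G → ℂ) ^ 2 : ℕ) : ℂ) =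
        ∑ φ ∈ S, (ordPart p G : ℂ) * b φ * ((pairing p φ χ : ℂ) * (χ : G → ℂ) 1) := by
      intro χ hχ
      rw [Nat.cast_pow, ← irr_apply_one, pow_two]
      conv_lhs => enter [1]; rw [hω χ (Finset.mem_filter.1 hχ).2]
      rw [Finset.mul_sum, Finset.sum_mul]
      exact Finset.sum_congr rfl fun φ _ => by ring
    rw [Finset.sum_congr rfl hterm, Finset.sum_comm]
    refine Finset.sum_congr rfl fun φ hφ => ?_
    rw [← Finset.mul_sum, Finset.sum_subset (Finset.subset_univ S) fun χ _ hχ => ?_,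
      sum_pairing_mul_apply_one hM.1, natCard_eq_mul (p := p)]
    · ring
    · rw [pairing_eq_zero hM hB (Finset.mem_filter.1 hφ).2 (by simpa [hS] using hχ)]
      simp
  -- `T / χ₀ 1` is a unit
  have hχ0 := IsIrrCharacter.apply_one_ne_zero χ₀.2
  set u : ℂ := (pairing p χ₀ χ₀ : ℂ) / (χ₀ : G → ℂ) 1 with hu
  have hratio : ∀ φ ∈ S, MemLocalRing M (b φ * ((φ : G → ℂ) 1 / (χ₀ : G → ℂ) 1)) := by
    intro φ hφ
    refine memLocalRing_mul (hb φ) ?_
    rw [irr_apply_one χ₀, memLocalRing_div_natCast_iff hM (charDegree_irr_pos χ₀).ne',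
      show (charDegree (χ₀ : G → ℂ)).factorization p = minExp p B from hmin, irr_apply_one φ]
    obtain ⟨c, hc⟩ := (pow_dvd_pow p (minExp_le (p := p) (Finset.mem_filter.1 hφ).2)).trans
      (Nat.ordProj_dvd (charDegree (φ : G → ℂ)) p)
    rw [hc, Nat.cast_mul, Nat.cast_pow, mul_div_cancel_left₀ _
      (pow_ne_zero _ (Nat.cast_ne_zero.2 hM.1.ne_zero))]
    exact memLocalRing_natCast c
  have hTR : MemLocalRing M (T / (χ₀ : G → ℂ) 1) := by
    rw [hT, Finset.sum_div]
    exact memLocalRing_sum _ fun φ hφ => by rw [mul_div_assoc]; exact hratio φ hφ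
  have hTu : ¬ MemLocalIdeal M (T / (χ₀ : G → ℂ) 1) := by
    intro hT0
    have hdiff : MemLocalIdeal M (1 - (ordPart p G : ℂ) * u * (T / (χ₀ : G → ℂ) 1)) := by
      have h1 : (1 : ℂ) - (ordPart p G : ℂ) * u * (T / (χ₀ : G → ℂ) 1) =
          ∑ φ ∈ S, (ordPart p G : ℂ) * (b φ * ((φ : G → ℂ) 1 / (χ₀ : G → ℂ) 1)) *
            ((pairing p χ₀ φ : ℂ) / (φ : G → ℂ) 1 - u) := by
        conv_lhs => enter [1]; rw [← div_self hχ0]; enter [1]; rw [hω χ₀ hχ₀]
        rw [hT, Finset.mul_sum, Finset.sum_div, Finset.sum_div, Finset.mul_sum,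
          ← Finset.sum_sub_distrib]
        refine Finset.sum_congr rfl fun φ _ => ?_
        rw [pairing_symm hM.1 φ χ₀]
        have := IsIrrCharacter.apply_one_ne_zero φ.2
        field_simp
      rw [h1]
      exact memLocalIdeal_sum _ fun φ hφ => memLocalIdeal_mul_left
        (memLocalRing_mul (memLocalRing_natCast _) (hratio φ hφ))
        (pairing_congr hM χ₀ (IsPBlock.sameBlock hB (Finset.mem_filter.1 hφ).2 hχ₀))
    apply not_memLocalIdeal_one (M := M)
    have huR : MemLocalRing M u := by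
      rw [hu, ← omega_pairFun hM.1]
      exact memLocalRing_omega (isRCentral_pairFun hM χ₀) χ₀
    have := memLocalIdeal_add hdiff
      (memLocalIdeal_mul_left (memLocalRing_mul (memLocalRing_natCast (ordPart p G)) huR) hT0)
    simpa using this
  -- conclusion
  set N := ∑ᶠ χ ∈ B, charDegree (χ : G → ℂ) ^ 2 with hN
  have hp0 : (p : ℂ) ≠ 0 := Nat.cast_ne_zero.2 hM.1.ne_zero
  set c := charDegree (χ₀ : G → ℂ) / p ^ minExp p B with hc
  have hcnd : ¬ p ∣ c := by
    rw [hc, ← hmin]; exact Nat.not_dvd_ordCompl hM.1 (charDegree_irr_pos χ₀).ne'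
  have hNeq : ((N : ℤ) : ℂ) / (p : ℂ) ^ (a + minExp p B) =
      (ordPart p G : ℂ) * (c : ℂ) * (T / (χ₀ : G → ℂ) 1) := by
    have hdeg : (χ₀ : G → ℂ) 1 = (p : ℂ) ^ minExp p B * (c : ℂ) := by
      rw [irr_apply_one, hc]
      conv_lhs => rw [← Nat.ordProj_mul_ordCompl_eq_self (charDegree (χ₀ : G → ℂ)) p,
        show (charDegree (χ₀ : G → ℂ)).factorization p = minExp p B from hmin]
      push_cast
      rfl
    rw [Int.cast_natCast, htot, natCard_eq_mul (p := p), hdeg, pow_add]
    have : (c : ℂ) ≠ 0 := Nat.cast_ne_zero.2 fun h => hcnd (h ▸ dvd_zero p)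
    field_simp
    rw [ha]
    ring
  have hgu : ¬ p ∣ ordPart p G := Nat.not_dvd_ordCompl hM.1 Nat.card_pos.ne'
  have hR : MemLocalRing M ((ordPart p G : ℂ) * (c : ℂ)) :=
    memLocalRing_mul (memLocalRing_natCast _) (memLocalRing_natCast _)
  have h1 : p ^ (a + minExp p B) ∣ N := by
    have := pow_dvd_of_memLocalRing_div hM (a + minExp p B) (N : ℤ)
      (by rw [hNeq]; exact memLocalRing_mul hR hTR)
    exact_mod_cast this
  have h2 : ¬ p ^ (a + minExp p B + 1) ∣ N := by
    intro h
    have h3 := (memLocalIdeal_div_pow_iff hM (a + minExp p B) (N : ℤ)).2 (by exact_mod_cast h)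
    rw [hNeq] at h3
    exact not_memLocalIdeal_mul hR hTR (not_memLocalIdeal_mul (memLocalRing_natCast _)
      (memLocalRing_natCast _) (fun h => hgu ((memLocalIdeal_natCast_iff hM _).1 h))
      (fun h => hcnd ((memLocalIdeal_natCast_iff hM _).1 h))) hTu h3
  have hN0 : N ≠ 0 := fun h => h2 (h ▸ dvd_zero _)
  refine le_antisymm ?_ ((hM.1.pow_dvd_iff_le_factorization hN0).1 h1)
  by_contra hlt
  exact h2 ((hM.1.pow_dvd_iff_le_factorization hN0).2 (by omega))

end Cfsg.Agent.Lib.BlockHeights
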