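import Cfsg.Agent.Lib.Blocks.MainTheorems
import Cfsg.Agent.Lib.BrauerPairs.Nilpotent
import Cfsg.Agent.Lib.BrauerPairs.Relative

/-!
# Inertial groups of maximal pairs with abelian defect group
-/

set_option autoImplicit false
set_option linter.unusedSectionVars false
set_option linter.style.haveILetI false

namespace Cfsg.Agent.Lib.BlockHeights

open Cfsg Cfsg.Agent.Lib.Blocks Cfsg.Agent.Lib.Characters Cfsg.Agent.Lib.BrauerPairs

universe u

variable {G : Type u} [Group G] [Fintype G] {p : ℕ} {M : Ideal AlgInt} [hMp : M.IsPrime]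
  {P : Subgroup G} {B : Set (IrrCharacter G)}
  {c : Set (IrrCharacter (Subgroup.centralizer (P : Set G)))}

theorem isBrauerPairOf_of_induced (hM : IsPModular p M) (hP : IsPGroup p P)
    (hc : IsInducedBlock M (Subgroup.centralizer (P : Set G)) c B) :
    IsBrauerPairOf p M B P c := by
  classical
  haveI := Fintype.ofFinite (Subgroup.centralizer (P : Set G))
  obtain ⟨ξ, hξ⟩ := IsPBlock.nonempty hc.1
  obtain ⟨χ, hχ⟩ := IsPBlock.nonempty hc.2.1
  refine isBrauerPairOf_of_exists hM ⟨hP, hc.1⟩ hc.2.1 hξ ?_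
  have h := IsInducedBlock.omega_congr hc hξ hχ (isRCentral_blockCoeff hM hc.2.1)
  rw [omega_blockCoeff, if_pos hχ] at h
  rwa [brauerOmega_eq_omega]

theorem isMaximal_of_induced (hM : IsPModular p M) (hD : IsDefectGroup p M B P)
    (hc : IsInducedBlock M (Subgroup.centralizer (P : Set G)) c B) :
    IsMaximalBrauerPair p M B P c := by
  haveI := Fact.mk hM.1
  have hpair := isBrauerPairOf_of_induced hM (IsDefectGroup.isPGroup hD) hc
  obtain ⟨R, e', hmax, hle⟩ := exists_maximal_above hpair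
  have hRD := isDefectGroup_of_isMaximal hM hmax
  obtain rfl : P = R := Subgroup.eq_of_le_of_card_ge (subpairLE_le hle) (by
    rw [IsDefectGroup.card_eq hM hc.2.1 hRD, IsDefectGroup.card_eq hM hc.2.1 hD])
  rwa [eq_of_subpairLE_self hM hle]

/-- For an abelian defect group the inertial quotient has order prime to `p`. -/
theorem mem_centralizer_of_pow (hM : IsPModular p M) (hmax : IsMaximalBrauerPair p M B P c)
    (hab : ∀ x ∈ P, ∀ y ∈ P, x * y = y * x) {g : G} (hg : g ∈ pairStab P c) {k : ℕ}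
    (hk : g ^ p ^ k ∈ Subgroup.centralizer (P : Set G)) :
    g ∈ Subgroup.centralizer (P : Set G) := by
  classical
  haveI := Fact.mk hM.1
  have hrefl : SubpairLE p M P c P c := Relation.ReflTransGen.refl
  have hdvd := not_dvd_relIndex_stab hM hmax.1.1 hrefl
    (isDefectGroup_stab_of_le hM hmax hrefl Subgroup.le_normalizer)
  have hbot : ((P ⊓ Subgroup.normalizer (P : Set G)).subgroupOf (pairStab P c)).map
      (stabHom P c) = ⊥ := by
    rw [eq_bot_iff]
    rintro _ ⟨y, hy, rfl⟩
    exact Subgroup.mem_bot.2 (stabHom_eq_one_iff.2 (le_normalizer_of_comm hab le_rfl hy.1))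
  rw [hbot, Subgroup.relIndex_bot_left] at hdvd
  refine (stabHom_eq_one_iff (g := ⟨g, hg⟩)).1 ?_
  have hk' : stabHom P c ⟨g, hg⟩ ^ p ^ k = 1 := by
    rw [← map_pow]
    exact stabHom_eq_one_iff.2 hk
  have h1 : (⟨stabHom P c ⟨g, hg⟩, _, rfl⟩ : (stabHom P c).range) ^ p ^ k = 1 := Subtype.ext hk'
  have h2 := pow_gcd_eq_one.2 ⟨h1, pow_card_eq_one'⟩
  rw [Nat.Coprime.gcd_eq_one (Nat.Coprime.pow_left k (hM.1.coprime_iff_not_dvd.2 hdvd)),
    pow_one] at h2
  exact congrArg Subtype.val h2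

/-- An element of the inertial group of a cyclic defect group fixing a nontrivial element
centralises it. -/
theorem mem_centralizer_of_fix (hM : IsPModular p M) (hmax : IsMaximalBrauerPair p M B P c)
    [hcyc : IsCyclic P] {g : G} (hg : g ∈ pairStab P c) {x : G} (hx : x ∈ P) (hx1 : x ≠ 1)
    (hfix : g * x * g⁻¹ = x) : g ∈ Subgroup.centralizer (P : Set G) := by
  classical
  haveI := Fact.mk hM.1
  obtain ⟨x₀, hx₀⟩ := IsCyclic.exists_generator (α := P)
  obtain ⟨n, hn⟩ := IsPGroup.iff_orderOf.1 hmax.1.1.1 x₀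
  have hgN := hg.1
  have hmem : g * (x₀ : G) * g⁻¹ ∈ P := (Subgroup.mem_normalizer_iff.1 hgN x₀).1 x₀.2
  obtain ⟨a, ha⟩ := Subgroup.mem_zpowers_iff.1 (hx₀ ⟨_, hmem⟩)
  have ha' : g * (x₀ : G) * g⁻¹ = (x₀ : G) ^ a := by
    simpa using (congrArg Subtype.val ha).symm
  obtain ⟨i, hi⟩ := Subgroup.mem_zpowers_iff.1 (hx₀ ⟨x, hx⟩)
  have hi' : (x₀ : G) ^ i = x := by simpa using congrArg Subtype.val hi
  have hord : orderOf (x₀ : G) = p ^ n := by rw [Subgroup.orderOf_coe, hn]
  have hpow : ∀ (m : ℕ) (j : ℤ), g ^ m * (x₀ : G) ^ j * (g ^ m)⁻¹ = (x₀ : G) ^ (a ^ m * j) := by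
    intro m
    induction m with
    | zero => intro j; simp
    | succ m ih =>
      intro j
      calc g ^ (m + 1) * (x₀ : G) ^ j * (g ^ (m + 1))⁻¹
          = g ^ m * (g * (x₀ : G) ^ j * g⁻¹) * (g ^ m)⁻¹ := by
            rw [pow_succ, mul_inv_rev]; group
        _ = _ := by
          rw [← conj_zpow, ha', ← zpow_mul, ih, pow_succ, mul_assoc]
  -- `a` is one modulo `p`
  have hamod : (p : ℤ) ∣ a - 1 := by
    have h1 := hpow 1 i
    rw [pow_one, pow_one, hi', hfix] at h1
    have h2 : (x₀ : G) ^ (a * i - i) = 1 := by rw [zpow_sub, ← h1, hi', mul_inv_cancel]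
    rw [← orderOf_dvd_iff_zpow_eq_one, hord, ← sub_one_mul] at h2
    have hni : ¬ ((p ^ n : ℕ) : ℤ) ∣ i := fun h => hx1 (by
      rw [← hi', orderOf_dvd_iff_zpow_eq_one.1 (hord.symm ▸ h)])
    by_contra hna
    refine hni ?_
    have hco : IsCoprime ((p ^ n : ℕ) : ℤ) (a - 1) := by
      push_cast
      exact ((Nat.prime_iff_prime_int.1 hM.1).coprime_iff_not_dvd.2 hna).pow_left
    exact hco.dvd_of_dvd_mul_left h2
  refine mem_centralizer_of_pow hM hmax (fun y hy z hz => ?_) hg (k := n) ?_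
  · exact congrArg Subtype.val (IsCyclic.commGroup.mul_comm (⟨y, hy⟩ : P) ⟨z, hz⟩)
  have hx₀fix : g ^ p ^ n * (x₀ : G) * (g ^ p ^ n)⁻¹ = x₀ := by
    have h1 := hpow (p ^ n) 1
    rw [zpow_one, mul_one] at h1
    rw [h1]
    have h2 := dvd_sub_pow_of_dvd_sub hamod n
    rw [one_pow] at h2
    have h3 : (x₀ : G) ^ (a ^ p ^ n - 1) = 1 := by
      rw [← orderOf_dvd_iff_zpow_eq_one, hord]
      push_cast
      exact (pow_dvd_pow _ (Nat.le_succ n)).trans h2
    rw [zpow_sub, zpow_one, mul_inv_eq_one] at h3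
    exact h3
  rw [Subgroup.mem_centralizer_iff]
  intro y hy
  obtain ⟨j, hj⟩ := Subgroup.mem_zpowers_iff.1 (hx₀ ⟨y, hy⟩)
  have hj' : (x₀ : G) ^ j = y := by simpa using congrArg Subtype.val hj
  rw [← hj']
  exact ((show Commute (g ^ p ^ n) (x₀ : G) from mul_inv_eq_iff_eq_mul.1 hx₀fix).zpow_right j).eq.symm

theorem cyclic_inertial (hM : IsPModular p M) (hmax : IsMaximalBrauerPair p M B P c)
    [hcyc : IsCyclic P] (hP1 : P ≠ ⊥) (T : Subgroup G)
    (hT : ∀ g : G, g ∈ T ↔ g ∈ pairStab P c)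
    [hn : ((Subgroup.centralizer (P : Set G)).subgroupOf T).Normal] :
    IsCyclic (T ⧸ (Subgroup.centralizer (P : Set G)).subgroupOf T) ∧
      (Subgroup.centralizer (P : Set G)).relIndex T ∣ p - 1 := by
  classical
  haveI := Fact.mk hM.1
  obtain ⟨k, hk⟩ := IsPGroup.iff_card.1 hmax.1.1.1
  have hk0 : k ≠ 0 := fun h => hP1 (Subgroup.eq_bot_of_card_eq P (by rw [hk, h, pow_zero]))
  obtain ⟨y, hy⟩ := exists_prime_orderOf_dvd_card' p (G := P) (hk ▸ dvd_pow_self p hk0)
  let Y : Subgroup P := Subgroup.zpowers y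
  have hYcard : Nat.card Y = p := by rw [Nat.card_zpowers, hy]
  haveI : IsCyclic Y := inferInstance
  haveI : Y.Characteristic := by
    refine Subgroup.characteristic_iff_le_comap.2 fun φ z hz => ?_
    rw [Subgroup.mem_comap]
    have hsub : (Finset.univ.filter (· ∈ Y) : Finset P) ⊆ Finset.univ.filter (fun a => a ^ p = 1) :=
      fun a ha => by
        simp only [Finset.mem_filter, Finset.mem_univ, true_and] at ha ⊢
        rw [← hYcard]
        exact congrArg Subtype.val (pow_card_eq_one' (x := (⟨a, ha⟩ : Y)))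
    have heq := Finset.eq_of_subset_of_card_le hsub (by
      refine (IsCyclic.card_pow_eq_one_le hM.1.pos).trans (le_of_eq ?_)
      rw [← hYcard, Nat.card_eq_fintype_card, Fintype.card_subtype])
    have hmem : φ z ∈ Finset.univ.filter (fun a : P => a ^ p = 1) := by
      rw [Finset.mem_filter, ← map_pow]
      refine ⟨Finset.mem_univ _, ?_⟩
      rw [← hYcard, show z ^ Nat.card Y = 1 from
        congrArg Subtype.val (pow_card_eq_one' (x := (⟨z, hz⟩ : Y))), map_one]
    rw [← heq, Finset.mem_filter] at hmem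
    exact hmem.2
  let res : MulAut P →* MulAut Y :=
    { toFun := fun φ => (φ.subgroupMap Y).trans
        (MulEquiv.subgroupCongr (Subgroup.characteristic_iff_map_eq.1 inferInstance φ))
      map_one' := rfl
      map_mul' := fun _ _ => rfl }
  let Φ : T →* MulAut Y := res.comp ((stabHom P c).comp
    (Subgroup.inclusion fun g hg => (hT g).1 hg))
  have hker : Φ.ker = (Subgroup.centralizer (P : Set G)).subgroupOf T := by
    ext g
    rw [MonoidHom.mem_ker, Subgroup.mem_subgroupOf]
    constructor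
    · intro h
      have h1 := congrArg (fun ψ : MulAut Y => (((ψ ⟨y, Subgroup.mem_zpowers y⟩ : Y) : P) : G)) h
      refine mem_centralizer_of_fix hM hmax ((hT _).1 g.2) y.2 (fun h0 => ?_) h1
      have : y = 1 := Subtype.ext h0
      rw [this, orderOf_one] at hy
      exact hM.1.ne_one hy.symm
    · intro h
      refine MulEquiv.ext fun z => Subtype.ext (Subtype.ext ?_)
      show (g : G) * ((z : P) : G) * (g : G)⁻¹ = ((z : P) : G)
      rw [mul_inv_eq_iff_eq_mul]
      exact (Subgroup.mem_centralizer_iff.1 h _ (z : P).2).symm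
  let e : (T ⧸ (Subgroup.centralizer (P : Set G)).subgroupOf T) ≃* Φ.range :=
    (QuotientGroup.quotientMulEquivOfEq hker.symm).trans (QuotientGroup.quotientKerEquivRange Φ)
  have hAut : IsCyclic (MulAut Y) := by
    haveI : Fact (Nat.Prime (Nat.card Y)) := ⟨hYcard.symm ▸ hM.1⟩
    exact isCyclic_of_surjective (IsCyclic.mulAutMulEquiv Y).symm.toMonoidHom
      (IsCyclic.mulAutMulEquiv Y).symm.surjective
  refine ⟨isCyclic_of_surjective e.symm.toMonoidHom e.symm.surjective, ?_⟩
  have h1 := Subgroup.card_subgroup_dvd_card Φ.range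
  rw [← Nat.card_congr e.toEquiv, IsCyclic.card_mulAut, hYcard, Nat.totient_prime hM.1] at h1
  exact h1

/-! ### Blocks of intermediate centralisers -/

variable {H : Subgroup G} [Fintype H]

theorem inducedCentralCharIn_eq (hPH : P ≤ H) (hCH : Subgroup.centralizer (P : Set G) ≤ H)
    (ξ : IrrCharacter (Subgroup.centralizer (P : Set G))) (h : H) :
    inducedCentralCharIn H (Subgroup.centralizer (P : Set G))
        (ξ : Subgroup.centralizer (P : Set G) → ℂ) (h : G) =
      inducedCentralChar (Subgroup.centralizer (P.subgroupOf H : Set H))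
        (transIrr (relEquiv (Subgroup.map_subgroupOf_eq_of_le hPH) hCH).symm ξ : _ → ℂ) h := by
  set ε := relEquiv (Subgroup.map_subgroupOf_eq_of_le hPH) hCH
  rw [inducedCentralCharIn, inducedCentralChar, finsum_mem_def, finsum_mem_def]
  refine (finsum_comp_equiv ε.toEquiv).symm.trans (finsum_congr fun k => ?_)
  have hval : ∀ k' : Subgroup.centralizer (P.subgroupOf H : Set H),
      (ξ : Subgroup.centralizer (P : Set G) → ℂ) (ε k') =
        (transIrr ε.symm ξ : _ → ℂ) k' := fun k' => rfl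
  have hiff : (∃ x : H, (x : G) * ((ε k : Subgroup.centralizer (P : Set G)) : G) * (x : G)⁻¹ = h) ↔
      IsConj h (k : H) := by
    rw [isConj_iff, show ((ε k : Subgroup.centralizer (P : Set G)) : G) = ((k : H) : G) from rfl]
    constructor
    · rintro ⟨x, hx⟩
      refine ⟨x⁻¹, Subtype.ext ?_⟩
      simp [← hx, mul_assoc]
    · rintro ⟨x, hx⟩
      refine ⟨x⁻¹, ?_⟩
      simp [← hx, mul_assoc]
  simp only [MulEquiv.toEquiv_eq_coe, EquivLike.coe_coe]
  by_cases hk : IsConj h (k : H)
  · refine (Set.indicator_of_mem ?_ _).trans (Eq.trans ?_ (Set.indicator_of_mem ?_ _).symm)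
    · exact hiff.2 hk
    · show (ξ : Subgroup.centralizer (P : Set G) → ℂ) (ε k) /
        (ξ : Subgroup.centralizer (P : Set G) → ℂ) 1 = _
      rw [hval, ← map_one ε, hval]
    · exact hk
  · refine (Set.indicator_of_notMem ?_ _).trans (Set.indicator_of_notMem ?_ _).symm
    · exact fun hh => hk (hiff.1 hh)
    · exact hk

theorem isInducedBlockIn_iff (hPH : P ≤ H) (hCH : Subgroup.centralizer (P : Set G) ≤ H)
    (hc : IsPBlock M c) (f : Set (IrrCharacter H)) :
    IsInducedBlockIn M H (Subgroup.centralizer (P : Set G)) c f ↔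
      IsInducedBlock M (Subgroup.centralizer (P.subgroupOf H : Set H))
        (transBlock (relEquiv (Subgroup.map_subgroupOf_eq_of_le hPH) hCH).symm c) f := by
  constructor
  · rintro ⟨-, hf, h⟩
    refine ⟨isPBlock_transBlock _ hc, hf, ?_⟩
    rintro _ ⟨ξ, hξ, rfl⟩ χ hχ g
    rw [← inducedCentralCharIn_eq hPH hCH ξ g]
    exact h ξ hξ χ hχ g
  · rintro ⟨-, hf, h⟩
    refine ⟨hc, hf, fun ξ hξ χ hχ g => ?_⟩
    rw [inducedCentralCharIn_eq hPH hCH ξ g]
    exact h _ ⟨ξ, hξ, rfl⟩ χ hχ g

theorem exists_inducedIn (hM : IsPModular p M) (hP : IsPGroup p P) (hPH : P ≤ H)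
    (hab : ∀ x ∈ P, ∀ y ∈ P, x * y = y * x)
    (hCH : Subgroup.centralizer (P : Set G) ≤ H) (hc : IsPBlock M c) :
    ∃ f : Set (IrrCharacter H), IsInducedBlockIn M H (Subgroup.centralizer (P : Set G)) c f := by
  classical
  haveI := Fact.mk hM.1
  haveI := Fintype.ofFinite (Subgroup.centralizer (P.subgroupOf H : Set H))
  set c' := transBlock (relEquiv (Subgroup.map_subgroupOf_eq_of_le hPH) hCH).symm c
  have hc' : IsPBlock M c' := isPBlock_transBlock _ hc
  obtain ⟨ξ, hξ⟩ := IsPBlock.nonempty hc'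
  obtain ⟨ψ, hψ⟩ := exists_induced_char hM (hP.of_equiv (Subgroup.subgroupOfEquivOfLe hPH).symm)
    (P := P.subgroupOf H) (H := Subgroup.centralizer (P.subgroupOf H : Set H))
    (fun a ha => mem_centralizer_subgroup_iff.2 fun b hb => Subtype.ext
      (hab _ (Subgroup.mem_subgroupOf.1 hb) _ (Subgroup.mem_subgroupOf.1 ha)))
    le_rfl (centralizer_le_normalizer' _) ξ
  refine ⟨blockOf M (ψ : H → ℂ), (isInducedBlockIn_iff hPH hCH hc _).2
    (isInducedBlock_of_pair hc' (isPBlock_blockOf ψ) hξ (self_mem_blockOf ψ) fun a => ?_)⟩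
  have h := hψ _ (isRCentral_classIndicator (M := M) a)
  rwa [omega_classIndicator (irr_isClassFunction ψ)] at h

theorem isNilpotent_inducedIn_iff (hM : IsPModular p M) (hmax : IsMaximalBrauerPair p M B P c)
    (hab : ∀ x ∈ P, ∀ y ∈ P, x * y = y * x) {Q : Subgroup G} (hQP : Q ≤ P)
    [Fintype (Subgroup.centralizer (Q : Set G))]
    {f : Set (IrrCharacter (Subgroup.centralizer (Q : Set G)))}
    (hf : IsInducedBlockIn M (Subgroup.centralizer (Q : Set G))
      (Subgroup.centralizer (P : Set G)) c f) :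
    IsNilpotentBlock p M f ↔
      ∀ g ∈ Subgroup.centralizer (Q : Set G), g ∈ pairStab P c →
        g ∈ Subgroup.centralizer (P : Set G) := by
  classical
  haveI := Fact.mk hM.1
  have hPH : P ≤ Subgroup.centralizer (Q : Set G) := le_normalizer_of_comm hab hQP
  have hCH : Subgroup.centralizer (P : Set G) ≤ Subgroup.centralizer (Q : Set G) :=
    Subgroup.centralizer_le hQP
  have hV := Subgroup.map_subgroupOf_eq_of_le hPH
  let ε := relEquiv hV hCH
  let P' := P.subgroupOf (Subgroup.centralizer (Q : Set G))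
  let c' : Set (IrrCharacter (Subgroup.centralizer (P' : Set (Subgroup.centralizer (Q : Set G))))) :=
    transBlock ε.symm c
  have hind := (isInducedBlockIn_iff hPH hCH hmax.1.1.2 f).1 hf
  have hP'p : IsPGroup p P' := hmax.1.1.1.of_equiv (Subgroup.subgroupOfEquivOfLe hPH).symm
  have hpair := isBrauerPairOf_of_induced hM hP'p hind
  have hcoe : subgroupBlockCoeff (Subgroup.centralizer (P : Set G)) c =
      extendByZero (Subgroup.centralizer (Q : Set G))
        (subgroupBlockCoeff (Subgroup.centralizer (P' : Set _)) c') := by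
    rw [← subgroupBlockCoeff_relEquiv hV hCH c']
    congr 1
    ext ξ
    constructor
    · intro hξ
      exact ⟨transIrr ε.symm ξ, ⟨ξ, hξ, rfl⟩, transIrr_symm ε ξ⟩
    · rintro ⟨_, ⟨ξ', hξ', rfl⟩, rfl⟩
      exact (transIrr_symm ε ξ').symm ▸ hξ'
  have hpush : IsPush (⟨P', c'⟩ : BrauerPairIdx _) (⟨P, c⟩ : BrauerPairIdx G) := ⟨hV, hcoe⟩
  -- the pair is maximal
  have hmax' : IsMaximalBrauerPair p M f P' c' := by
    refine ⟨hpair, fun R r hR hle => ?_⟩
    have hPR : P' ≤ R := subpairLE_le hle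
    have hCR : Subgroup.centralizer ((R.map (Subgroup.centralizer (Q : Set G)).subtype :
        Subgroup G) : Set G) ≤ Subgroup.centralizer (Q : Set G) :=
      (Subgroup.centralizer_le ((hV ▸ Subgroup.map_mono hPR :
        P ≤ R.map (Subgroup.centralizer (Q : Set G)).subtype))).trans hCH
    obtain ⟨⟨R', r'⟩, hR'⟩ := exists_push (⟨R, r⟩ : BrauerPairIdx _) hCR
    have hR'1 : R.map (Subgroup.centralizer (Q : Set G)).subtype = R' := hR'.1
    have hle' : SubpairLE p M P c R' r' :=
      subpairLE_push (Q := P) hCH hpush hR' le_rfl hle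
    have hbr : IsBrauerPair p M R' r' :=
      isBrauerPair_push hR' (hR'1 ▸ hCR) hR.1
    have h1 := hmax.2 R' r'
      ((isBrauerPairOf_iff_of_subpairLE hM hbr hle' hmax.1.2.1).2 hmax.1) hle'
    exact Subgroup.map_injective (Subgroup.subtype_injective _) (hR'1.trans (h1.trans hV.symm))
  rw [isNilpotentBlock_iff_of_abelian hM hmax' fun x hx y hy =>
    Subtype.ext (hab _ hx _ hy)]
  have hstab : ∀ g : Subgroup.centralizer (Q : Set G), (g : G) ∈ pairStab P c ↔
      g ∈ pairStab P' c' := fun g => by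
    rw [mem_pairStab, mem_pairStab]
    refine and_congr ?_ ?_
    · rw [Subgroup.mem_normalizer_iff, Subgroup.mem_normalizer_iff]
      constructor
      · intro h z
        exact h (z : G)
      · intro h z
        by_cases hz : z ∈ Subgroup.centralizer (Q : Set G)
        · exact h ⟨z, hz⟩
        · exact ⟨fun h' => absurd (hPH h') hz, fun h' => absurd (by
            simpa [mul_assoc] using mul_mem (mul_mem (inv_mem g.2) (hPH h')) g.2) hz⟩
    · rw [hcoe, gconj_extendByZero]
      exact ⟨fun h => funext fun z => by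
        simpa [extendByZero_of_mem _ _ z.2] using congrFun h z, fun h => by rw [h]⟩
  constructor
  · intro h g hgQ hg
    have h' := (hstab ⟨g, hgQ⟩).1 hg
    rw [← hV]
    exact mem_centralizer_map_subtype.2
      (h ⟨g, hgQ⟩ h'.1 (mem_pairStab_iff.1 h').2)
  · intro h g hgN hgst
    have h' := (hstab g).2 (mem_pairStab_iff.2 ⟨hgN, hgst⟩)
    exact mem_centralizer_map_subtype.1 (hV.symm ▸ h g g.2 h')

theorem free_iff_nilpotent (hM : IsPModular p M) (hmax : IsMaximalBrauerPair p M B P c)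
    (hab : ∀ x ∈ P, ∀ y ∈ P, x * y = y * x) :
    (∀ g ∈ pairStab P c, ∀ x ∈ P, x ≠ 1 → g * x * g⁻¹ = x →
      g ∈ Subgroup.centralizer (P : Set G)) ↔
    ∀ Q : Subgroup G, Q ≤ P → Q ≠ ⊥ →
      ∀ f : Set (IrrCharacter (Subgroup.centralizer (Q : Set G))),
        IsInducedBlockIn M (Subgroup.centralizer (Q : Set G))
          (Subgroup.centralizer (P : Set G)) c f → IsNilpotentBlock p M f := by
  classical
  constructor
  · intro h Q hQP hQ1 f hf
    haveI := Fintype.ofFinite (Subgroup.centralizer (Q : Set G))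
    rw [isNilpotent_inducedIn_iff hM hmax hab hQP hf]
    intro g hgQ hg
    obtain ⟨x, hxQ, hx1⟩ := (Subgroup.bot_or_exists_ne_one Q).resolve_left hQ1
    exact h g hg x (hQP hxQ) hx1
      (by rw [← Subgroup.mem_centralizer_iff.1 hgQ x hxQ, mul_inv_cancel_right])
  · intro h g hg x hx hx1 hfix
    have hQP : Subgroup.zpowers x ≤ P := Subgroup.zpowers_le.2 hx
    haveI := Fintype.ofFinite (Subgroup.centralizer (Subgroup.zpowers x : Set G))
    obtain ⟨f, hf⟩ := exists_inducedIn hM hmax.1.1.1 (le_normalizer_of_comm hab hQP) hab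
      (Subgroup.centralizer_le hQP) hmax.1.1.2
    refine (isNilpotent_inducedIn_iff hM hmax hab hQP hf).1
      (h _ hQP (by simpa using hx1) f hf) g ?_ hg
    rw [Subgroup.mem_centralizer_iff]
    rintro _ ⟨j, rfl⟩
    exact ((show Commute g x from mul_inv_eq_iff_eq_mul.1 hfix).zpow_right j).eq.symm

end Cfsg.Agent.Lib.BlockHeights
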