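import Cfsg.Agent.Lib.BlockHeights.RegularPart
import Cfsg.Agent.Lib.BrauerPairs.CentralDefectZero
import Cfsg.Agent.Lib.Blocks.CentralDefect

/-!
# Blocks with central defect group
-/

set_option autoImplicit false
set_option linter.unusedSectionVars false
set_option linter.style.haveILetI false

namespace Cfsg.Agent.Lib.BlockHeights

open Cfsg Cfsg.Agent.Lib.Blocks Cfsg.Agent.Lib.Characters
open scoped ComplexConjugate

universe u

variable {G : Type u} [Group G] [Fintype G] {p : ℕ} {M : Ideal AlgInt} [hMp : M.IsPrime]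

theorem exists_central_scalar (ξ : IrrCharacter G) :
    ∃ ω : G → ℂ, ∀ z ∈ Subgroup.center G,
      (∀ x : G, (ξ : G → ℂ) (z * x) = ω z * (ξ : G → ℂ) x) ∧
      ∀ w ∈ Subgroup.center G, ω (z * w) = ω z * ω w := by
  classical
  refine ⟨fun z => (ξ : G → ℂ) z / (ξ : G → ℂ) 1, fun z hz => ?_⟩
  obtain ⟨n, ρ, hρ, hξ⟩ := ξ.2
  haveI := hρ
  obtain ⟨c, hc⟩ := exists_smul_of_commute ρ (ρ z) fun g => by
    rw [← map_mul, ← map_mul, Subgroup.mem_center_iff.mp hz g]
  have h : ∀ x : G, (ξ : G → ℂ) (z * x) = c * (ξ : G → ℂ) x := fun x => by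
    rw [← hξ]
    simp only [Representation.character, map_mul, hc, ← Module.End.one_eq_id, smul_mul_assoc,
      one_mul, map_smul, smul_eq_mul]
  have h0 : (ξ : G → ℂ) 1 ≠ 0 := IsIrrCharacter.apply_one_ne_zero ξ.2
  have hcz : c = (ξ : G → ℂ) z / (ξ : G → ℂ) 1 := by
    have h1 := h 1
    rw [mul_one] at h1
    rw [h1, mul_div_cancel_right₀ _ h0]
  refine ⟨fun x => by simp only [← hcz]; exact h x, fun w _ => ?_⟩
  show (ξ : G → ℂ) (z * w) / _ = _
  rw [h w, mul_div_assoc, hcz]

set_option maxHeartbeats 1000000 in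
theorem blockRank_eq_one_of_central (hM : IsPModular p M) {B : Set (IrrCharacter G)}
    (hB : IsPBlock M B) {P : Subgroup G} (hD : IsDefectGroup p M B P)
    (hPZ : P ≤ Subgroup.center G) : blockRank p B = 1 := by
  classical
  haveI := Fact.mk hM.1
  haveI : P.Normal := ⟨fun n hn g => by
    rw [Subgroup.mem_center_iff.1 (hPZ hn) g, mul_inv_cancel_right]; exact hn⟩
  haveI := Fintype.ofFinite (IrrCharacter G)
  haveI := Fintype.ofFinite P
  have hP : IsPGroup p P := IsDefectGroup.isPGroup hD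
  have hC : ∀ x : G, ¬ p ∣ orderOf x → x ∈ Subgroup.centralizer (P : Set G) := fun x _ =>
    mem_centralizer_subgroup_iff.2 fun u hu => (Subgroup.mem_center_iff.1 (hPZ hu) x).symm
  obtain ⟨θ, hθ, hker, hdeg⟩ := Cfsg.Agent.Lib.BrauerPairs.exists_defectZero_of_defectGroup hM hB hD
  obtain ⟨θq, hθq, hθeq⟩ := IsIrrCharacter.exists_quotient θ.2 P hker
  haveI := Fintype.ofFinite (G ⧸ P)
  have hsing : blockOf M θq = {(⟨θq, hθq⟩ : IrrCharacter (G ⧸ P))} := by
    refine blockOf_eq_singleton hM ⟨θq, hθq⟩ ?_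
    have h1 : charDegree (θ : G → ℂ) = charDegree θq := by simp [charDegree, hθeq]
    have h2 := Cfsg.Agent.Lib.BrauerPairs.factorization_index hM.1 P
    rw [h1] at hdeg
    obtain ⟨m, hm⟩ := charDegree_dvd_card (⟨θq, hθq⟩ : IrrCharacter (G ⧸ P))
    have hpos := charDegree_pos (⟨θq, hθq⟩ : IrrCharacter (G ⧸ P))
    change Nat.card (G ⧸ P) = charDegree θq * m at hm
    show ¬ p ∣ Nat.card (G ⧸ P) / charDegree θq
    rw [hm, Nat.mul_div_cancel_left m hpos]
    intro hd
    have hm0 : m ≠ 0 := fun h => Nat.card_pos.ne' (by rw [hm, h, mul_zero] : Nat.card (G ⧸ P) = 0)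
    have h3 := congrArg (fun k => k.factorization p) hm
    simp only [Nat.factorization_mul hpos.ne' hm0, Finsupp.coe_add, Pi.add_apply] at h3
    have := hM.1.factorization_pos_of_dvd hm0 hd
    omega
  -- members of the block trivial on `P`
  have huniq : ∀ ξ : IrrCharacter G, ξ ∈ B → (∀ u : G, u ∈ P → (ξ : G → ℂ) u = (ξ : G → ℂ) 1) →
      ξ = θ := fun ξ hξ hξker => by
    obtain ⟨η, hη, hξeq⟩ := IsIrrCharacter.exists_quotient ξ.2 P hξker
    have h1 : SameBlock M (θ : G → ℂ) (ξ : G → ℂ) := IsPBlock.sameBlock hB hθ hξ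
    rw [hθeq, hξeq] at h1
    have h2 := (sameBlock_comp_mk_iff P hM hP hC ⟨θq, hθq⟩ ⟨η, hη⟩).2 h1
    have h3 : (⟨η, hη⟩ : IrrCharacter (G ⧸ P)) ∈ blockOf M θq := h2
    rw [hsing, Set.mem_singleton_iff] at h3
    refine Subtype.ext ?_
    rw [hξeq, hθeq, show η = θq from congrArg Subtype.val h3]
  have key : ∀ χ ∈ B, ∃ c : ℂ, c • pRegularPart p (θ : G → ℂ) = pRegularPart p (χ : G → ℂ) := by
    intro χ hχ
    let F : G → ℂ := fun x =>
      ∑ u : P, ∑ y : {y : G // ¬ p ∣ orderOf y}, if (u : G) * y = x then (χ : G → ℂ) y else 0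
    have hFc : IsClassFunction G F := fun x g => by
      show F (g * x * g⁻¹) = F x
      refine Finset.sum_congr rfl fun u _ => ?_
      refine (Fintype.sum_equiv ((MulAut.conj g).toEquiv.subtypeEquiv
        (q := fun y : G => ¬ p ∣ orderOf y) fun y => by
          show ¬ p ∣ orderOf y ↔ ¬ p ∣ orderOf (MulAut.conj g y)
          rw [MulEquiv.orderOf_eq]) _ _ fun y => ?_).symm
      have hu : g * (u : G) = (u : G) * g := Subgroup.mem_center_iff.1 (hPZ u.2) g
      show _ = if (u : G) * (g * y * g⁻¹) = g * x * g⁻¹ then (χ : G → ℂ) (g * y * g⁻¹) else 0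
      rw [irr_isClassFunction χ, show (u : G) * (g * y * g⁻¹) = g * ((u : G) * y) * g⁻¹ by
        rw [← mul_assoc g, hu]; group]
      simp only [mul_left_inj, mul_right_inj]
    have hFreg : ∀ x : G, ¬ p ∣ orderOf x → F x = (χ : G → ℂ) x := fun x hx => by
      show ∑ u : P, ∑ y : {y : G // ¬ p ∣ orderOf y}, _ = _
      rw [Finset.sum_eq_single (1 : P), Finset.sum_eq_single (⟨x, hx⟩ : {y : G // ¬ p ∣ orderOf y})]
      · simp
      · intro y _ hy
        rw [if_neg fun h => hy (Subtype.ext (by simpa using h))]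
      · simp
      · intro u _ hu
        refine Finset.sum_eq_zero fun y _ => ?_
        rw [if_neg fun h => hu ?_]
        obtain ⟨k, hk⟩ := IsPGroup.iff_orderOf.1 hP u
        have h1 : IsPPart p x (u : G) := ⟨y, h,
          (Subgroup.mem_center_iff.1 (hPZ u.2) y).symm, ⟨k, by rwa [Subgroup.orderOf_coe]⟩, y.2⟩
        have h2 : IsPPart p x (1 : G) := ⟨x, one_mul x, Commute.one_left x, ⟨0, by simp⟩, hx⟩
        exact Subtype.ext (isPPart_unique hM.1 h1 h2)
      · simp
    have hinner : ∀ ξ : IrrCharacter G, ξ ≠ θ → classInner F (ξ : G → ℂ) = 0 := fun ξ hne => by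
      obtain ⟨ω, hω⟩ := exists_central_scalar ξ
      have e1 : ∑ x, F x * conj ((ξ : G → ℂ) x) = (∑ u : P, conj (ω u)) *
          ∑ y : {y : G // ¬ p ∣ orderOf y}, (χ : G → ℂ) y * conj ((ξ : G → ℂ) y) := by
        simp only [F, Finset.sum_mul, ite_mul, zero_mul]
        rw [Finset.sum_comm]
        refine Finset.sum_congr rfl fun u _ => ?_
        rw [Finset.sum_comm, Finset.mul_sum]
        refine Finset.sum_congr rfl fun y _ => ?_
        rw [Finset.sum_ite_eq, if_pos (Finset.mem_univ _), (hω u (hPZ u.2)).1, map_mul]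
        ring
      rw [classInner, e1]
      by_cases hξ : ξ ∈ B
      · suffices hS : ∑ u : P, conj (ω u) = 0 by rw [hS, zero_mul, mul_zero]
        by_contra hS
        refine hne (huniq ξ hξ fun u0 hu0 => ?_)
        have hmul : conj (ω u0) * ∑ u : P, conj (ω u) = ∑ u : P, conj (ω u) := by
          rw [Finset.mul_sum]
          refine Fintype.sum_equiv (Equiv.mulLeft ⟨u0, hu0⟩) _ _ fun u => ?_
          rw [← map_mul, ← (hω u0 (hPZ hu0)).2 u (hPZ u.2)]
          rfl
        have h1 : ω u0 = 1 := by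
          have := mul_right_cancel₀ hS (hmul.trans (one_mul _).symm)
          simpa using congrArg conj this
        have h2 := (hω u0 (hPZ hu0)).1 1
        rwa [mul_one, h1, one_mul] at h2
      · have h0 : ∑ y : {y : G // ¬ p ∣ orderOf y}, (χ : G → ℂ) y * conj ((ξ : G → ℂ) y) = 0 := by
          have h := classInner_pRegularPart hM.1 χ ξ
          rw [pairing_eq_zero hM hB hχ hξ, Int.cast_zero, zero_div, classInner, mul_eq_zero] at h
          have h' := h.resolve_left (inv_ne_zero natCard_ne_zero_complex)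
          rw [← h', ← Finset.sum_subset (Finset.subset_univ
              (Finset.univ.filter fun y : G => ¬ p ∣ orderOf y))
              (fun y _ hy => by
                have : ¬ IsPRegular p y := by simpa [IsPRegular] using hy
                simp [pRegularPart, if_neg this]),
            Finset.sum_subtype (p := fun y : G => ¬ p ∣ orderOf y) _ (fun y => by simp) fun y =>
              pRegularPart p (χ : G → ℂ) y * conj ((ξ : G → ℂ) y)]
          exact Finset.sum_congr rfl fun y _ => by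
            simp [pRegularPart, if_pos (show IsPRegular p (y : G) from y.2)]
        rw [h0, mul_zero, mul_zero]
    refine ⟨classInner F (θ : G → ℂ), funext fun g => ?_⟩
    by_cases hg : IsPRegular p g
    · have hdec := congrFun (eq_sum_classInner hFc) g
      rw [Finset.sum_eq_single θ (fun ξ _ hne => by rw [hinner ξ hne, zero_smul]) (by simp)] at hdec
      simp only [Pi.smul_apply, smul_eq_mul, pRegularPart, if_pos hg] at hdec ⊢
      rw [← hFreg g hg, hdec]
    · simp [pRegularPart, if_neg hg]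
  set S := Submodule.span ℂ ((fun χ : IrrCharacter G => pRegularPart p (χ : G → ℂ)) '' B) with hS
  have hv : pRegularPart p (θ : G → ℂ) ∈ S := Submodule.subset_span ⟨θ, hθ, rfl⟩
  have hvne : (⟨_, hv⟩ : S) ≠ 0 := fun h => by
    have h1 := congrFun (congrArg Subtype.val h) 1
    replace h1 : pRegularPart p (θ : G → ℂ) 1 = 0 := h1
    rw [pRegularPart, if_pos (show IsPRegular p (1 : G) by simp [IsPRegular, hM.1.ne_one])] at h1
    exact IsIrrCharacter.apply_one_ne_zero θ.2 h1
  rw [blockRank, ← hS]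
  refine (finrank_eq_one_iff_of_nonzero' (⟨_, hv⟩ : S) hvne).2 fun w => ?_
  have hle : S ≤ Submodule.span ℂ {pRegularPart p (θ : G → ℂ)} := by
    refine Submodule.span_le.2 ?_
    rintro _ ⟨χ, hχ, rfl⟩
    exact Submodule.mem_span_singleton.2 (key χ hχ)
  obtain ⟨c, hc⟩ := Submodule.mem_span_singleton.1 (hle w.2)
  exact ⟨c, Subtype.ext hc⟩

end Cfsg.Agent.Lib.BlockHeights
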