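import Cfsg.Agent.Lib.BlockHeights.Heights

/-!
# Characters of positive height

A character of positive height has height at most `d - 2`, and its presence bounds the number
of characters of the block by `p ^ (2 d - 2) / 2`.
-/

set_option autoImplicit false
set_option linter.unusedSectionVars false
set_option linter.style.haveILetI false

namespace Cfsg.Agent.Lib.BlockHeights

open Cfsg Cfsg.Agent.Lib.Blocks Cfsg.Agent.Lib.Characters

universe u

variable {G : Type u} [Group G] [Fintype G] {p : ℕ} {M : Ideal AlgInt} [M.IsPrime]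

theorem pairing_ne_zero_of_minimal (hM : IsPModular p M) {B : Set (IrrCharacter G)}
    (hB : IsPBlock M B) {χ ψ : IrrCharacter G} (hχ : χ ∈ B)
    (hmin : nu p (χ : G → ℂ) = minExp p B) (hψ : ψ ∈ B) : pairing p χ ψ ≠ 0 := fun h =>
  pairing_unit_of_minimal hM hB hχ hmin hψ (by rw [h]; simpa using memLocalIdeal_zero)

theorem pow_succ_nu_dvd_pairing_of_pos (hM : IsPModular p M) {B : Set (IrrCharacter G)}
    (hB : IsPBlock M B) {χ ψ : IrrCharacter G} (hχ : χ ∈ B)
    (hpos : minExp p B < nu p (χ : G → ℂ)) (hψ : ψ ∈ B) :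
    (p : ℤ) ^ (nu p (ψ : G → ℂ) + 1) ∣ pairing p χ ψ := by
  obtain ⟨ψ₀, hψ₀, hmin⟩ := exists_nu_eq_minExp (p := p) (IsPBlock.nonempty hB)
  rw [← memLocalIdeal_pairing_div_iff hM]
  refine (memLocalIdeal_iff_of_sub (pairing_congr hM χ (IsPBlock.sameBlock hB hψ hψ₀))).2 ?_
  rw [memLocalIdeal_pairing_div_iff hM, pairing_symm hM.1]
  exact dvd_trans (pow_dvd_pow _ (by omega)) (pow_nu_dvd_pairing hM ψ₀ χ)

theorem pairing_self_lt (hM : IsPModular p M) {B : Set (IrrCharacter G)}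
    (hB : IsPBlock M B) {χ : IrrCharacter G} (hχ : χ ∈ B)
    (hpos : minExp p B < nu p (χ : G → ℂ)) :
    pairing p χ χ < (p : ℤ) ^ (Nat.card G).factorization p := by
  classical
  haveI := Fintype.ofFinite (IrrCharacter G)
  obtain ⟨ψ₀, hψ₀, hmin⟩ := exists_nu_eq_minExp (p := p) (IsPBlock.nonempty hB)
  have hne : ψ₀ ≠ χ := fun h => by rw [h] at hmin; omega
  have h0 : pairing p χ ψ₀ ≠ 0 := by
    rw [pairing_symm hM.1]; exact pairing_ne_zero_of_minimal hM hB hψ₀ hmin hχ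
  have h1 := sum_pairing_sq hM.1 χ
  rw [← Finset.add_sum_erase _ _ (Finset.mem_univ χ)] at h1
  have h2 : pairing p χ ψ₀ ^ 2 ≤ ∑ ψ ∈ Finset.univ.erase χ, pairing p χ ψ ^ 2 :=
    Finset.single_le_sum (f := fun ψ => pairing p χ ψ ^ 2) (fun ψ _ => sq_nonneg _)
      (Finset.mem_erase.2 ⟨hne, Finset.mem_univ _⟩)
  have h3 := pairing_self_pos hM.1 χ
  have h4 : 0 < pairing p χ ψ₀ ^ 2 := sq_pos_iff.2 h0
  nlinarith

/-- A character of positive height has exponent at most `a - 2`. -/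
theorem nu_add_two_le (hM : IsPModular p M) {B : Set (IrrCharacter G)}
    (hB : IsPBlock M B) {χ : IrrCharacter G} (hχ : χ ∈ B)
    (hpos : minExp p B < nu p (χ : G → ℂ)) :
    nu p (χ : G → ℂ) + 2 ≤ (Nat.card G).factorization p := by
  have h1 := Int.le_of_dvd (pairing_self_pos hM.1 χ)
    (pow_succ_nu_dvd_pairing_of_pos hM hB hχ hpos hχ)
  have h2 := lt_of_le_of_lt h1 (pairing_self_lt hM hB hχ hpos)
  have h3 : p ^ (nu p (χ : G → ℂ) + 1) < p ^ (Nat.card G).factorization p := by exact_mod_cast h2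
  have := (Nat.pow_lt_pow_iff_right hM.1.one_lt).1 h3
  omega

/-- In the presence of positive height there are few characters of height zero. -/
theorem four_mul_card_height_zero_le (hM : IsPModular p M) {B : Set (IrrCharacter G)}
    (hB : IsPBlock M B) {χ : IrrCharacter G} (hχ : χ ∈ B)
    (hpos : minExp p B < nu p (χ : G → ℂ)) :
    4 * p ^ 2 * Nat.card {ψ : IrrCharacter G // ψ ∈ B ∧ nu p (ψ : G → ℂ) = minExp p B} ≤
      p ^ (2 * blockDefect p B) := by
  classical
  haveI := Fintype.ofFinite (IrrCharacter G)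
  set k := minExp p B with hk
  set d := blockDefect p B with hd
  have hdk : d + k = (Nat.card G).factorization p := blockDefect_add_minExp hB
  set S := Finset.univ.filter fun ψ : IrrCharacter G => ψ ∈ B ∧ nu p (ψ : G → ℂ) = k with hS
  rw [show Nat.card {ψ : IrrCharacter G // ψ ∈ B ∧ nu p (ψ : G → ℂ) = k} = S.card by
    rw [Nat.card_eq_fintype_card, Fintype.card_subtype]]
  have hterm : ∀ ψ ∈ S, ((p : ℤ) ^ (k + 1)) ^ 2 ≤ pairing p χ ψ ^ 2 := by
    intro ψ hψ
    obtain ⟨-, hψB, hψmin⟩ := Finset.mem_filter.1 hψ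
    have hne : pairing p χ ψ ≠ 0 := by
      rw [pairing_symm hM.1]; exact pairing_ne_zero_of_minimal hM hB hψB hψmin hχ
    obtain ⟨c, hc⟩ := pow_succ_nu_dvd_pairing_of_pos hM hB hχ hpos hψB
    have hc0 : c ≠ 0 := fun h => hne (by rw [hc, h, mul_zero])
    rw [hc, hψmin, mul_pow ((p : ℤ) ^ (k + 1))]
    exact le_mul_of_one_le_right (sq_nonneg _) (sq_pos_iff.2 hc0)
  have hnotin : χ ∉ S := fun h => by
    have := (Finset.mem_filter.1 h).2.2
    omega
  have hsum : (S.card : ℤ) * ((p : ℤ) ^ (k + 1)) ^ 2 + pairing p χ χ ^ 2 ≤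
      (p : ℤ) ^ (Nat.card G).factorization p * pairing p χ χ := by
    rw [← sum_pairing_sq hM.1 χ]
    calc (S.card : ℤ) * ((p : ℤ) ^ (k + 1)) ^ 2 + pairing p χ χ ^ 2
        ≤ ∑ ψ ∈ S, pairing p χ ψ ^ 2 + pairing p χ χ ^ 2 := by
          refine add_le_add ?_ le_rfl
          rw [← nsmul_eq_mul]
          exact Finset.card_nsmul_le_sum _ _ _ hterm
      _ = ∑ ψ ∈ insert χ S, pairing p χ ψ ^ 2 := by rw [Finset.sum_insert hnotin, add_comm]
      _ ≤ _ := Finset.sum_le_univ_sum_of_nonneg fun ψ => sq_nonneg _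
  have key : ((p : ℤ) ^ k) ^ 2 * (4 * (p : ℤ) ^ 2 * (S.card : ℤ)) ≤
      ((p : ℤ) ^ k) ^ 2 * (p : ℤ) ^ (2 * d) := by
    have e1 : ((p : ℤ) ^ k) ^ 2 * (p : ℤ) ^ (2 * d) =
        ((p : ℤ) ^ (Nat.card G).factorization p) ^ 2 := by rw [← hdk]; ring
    have e2 : ((p : ℤ) ^ k) ^ 2 * (4 * (p : ℤ) ^ 2 * (S.card : ℤ)) =
        4 * ((S.card : ℤ) * ((p : ℤ) ^ (k + 1)) ^ 2) := by ring
    rw [e1, e2]
    nlinarith [sq_nonneg ((p : ℤ) ^ (Nat.card G).factorization p - 2 * pairing p χ χ)]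
  have hp : (0 : ℤ) < ((p : ℤ) ^ k) ^ 2 := by
    have := hM.1.pos
    positivity
  exact_mod_cast le_of_mul_le_mul_left key hp

/-- In the presence of positive height the block is small. -/
theorem two_mul_card_le (hM : IsPModular p M) {B : Set (IrrCharacter G)}
    (hB : IsPBlock M B) {χ : IrrCharacter G} (hχ : χ ∈ B)
    (hpos : minExp p B < nu p (χ : G → ℂ)) :
    2 * Nat.card B ≤ p ^ (2 * blockDefect p B - 2) := by
  classical
  haveI := Fintype.ofFinite (IrrCharacter G)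
  set k := minExp p B with hk
  set d := blockDefect p B with hd
  have hdk : d + k = (Nat.card G).factorization p := blockDefect_add_minExp hB
  have hd2 : 2 ≤ d := by
    have := nu_add_two_le hM hB hχ hpos
    omega
  have h0 := four_mul_card_height_zero_le hM hB hχ hpos
  have hall := four_mul_sum_height_le hM hB
  rw [finsum_mem_def, finsum_eq_sum_of_fintype] at hall
  simp only [Set.indicator_apply] at hall
  rw [← Finset.sum_filter,
    ← Finset.sum_filter_add_sum_filter_not (Finset.univ.filter (· ∈ B))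
      (fun ψ : IrrCharacter G => nu p (ψ : G → ℂ) = k), Finset.filter_filter,
    Finset.filter_filter] at hall
  set S₀ := Finset.univ.filter fun ψ : IrrCharacter G => ψ ∈ B ∧ nu p (ψ : G → ℂ) = k with hS₀
  set S₁ := Finset.univ.filter fun ψ : IrrCharacter G => ψ ∈ B ∧ ¬ nu p (ψ : G → ℂ) = k with hS₁
  rw [show Nat.card {ψ : IrrCharacter G // ψ ∈ B ∧ nu p (ψ : G → ℂ) = k} = S₀.card by
    rw [Nat.card_eq_fintype_card, Fintype.card_subtype]] at h0
  have hB' : Nat.card B = S₀.card + S₁.card := by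
    rw [Nat.card_eq_fintype_card, Fintype.card_subtype, hS₀, hS₁,
      ← Finset.filter_filter, ← Finset.filter_filter,
      Finset.card_filter_add_card_filter_not]
  have hb0 : S₀.card ≤ ∑ ψ ∈ S₀, p ^ (2 * blockHeight p B (ψ : G → ℂ)) := by
    rw [Finset.card_eq_sum_ones]
    exact Finset.sum_le_sum fun ψ _ => Nat.one_le_pow _ _ hM.1.pos
  have hb1 : p ^ 2 * S₁.card ≤ ∑ ψ ∈ S₁, p ^ (2 * blockHeight p B (ψ : G → ℂ)) := by
    rw [mul_comm, ← smul_eq_mul]
    refine Finset.card_nsmul_le_sum _ _ _ fun ψ hψ => ?_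
    obtain ⟨-, hψB, hne⟩ := Finset.mem_filter.1 hψ
    have e := minExp_add_blockHeight (p := p) hψB
    exact Nat.pow_le_pow_right hM.1.pos (by omega)
  have hne0 : 1 ≤ S₀.card := by
    obtain ⟨ψ₀, hψ₀, hmin⟩ := exists_nu_eq_minExp (p := p) (IsPBlock.nonempty hB)
    exact Finset.card_pos.2 ⟨ψ₀, by simp [hS₀, hψ₀, hk, hmin]⟩
  have hpow : p ^ (2 * d) = p ^ 2 * p ^ (2 * d - 2) := by
    rw [← pow_add, Nat.add_sub_cancel' (by omega)]
  have hsum : p ^ 2 * (4 * (S₀.card + S₁.card)) ≤ p ^ 2 * (2 * p ^ (2 * d - 2)) := by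
    nlinarith
  have := Nat.le_of_mul_le_mul_left hsum (pow_pos hM.1.pos 2)
  omega

end Cfsg.Agent.Lib.BlockHeights
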