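import Cfsg.Agent.Lib.BlockHeights.Rank
import Mathlib.RingTheory.PrincipalIdealDomain

/-!
# Blocks of regular rank one
-/

set_option autoImplicit false
set_option linter.unusedSectionVars false
set_option linter.style.haveILetI false

namespace Cfsg.Agent.Lib.BlockHeights

open Cfsg Cfsg.Agent.Lib.Blocks Cfsg.Agent.Lib.Characters
open scoped ComplexConjugate

universe u

variable {G : Type u} [Group G] [Fintype G] {p : ℕ} {M : Ideal AlgInt} [M.IsPrime]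

theorem pRegularPart_one (hp : p.Prime) (χ : G → ℂ) : pRegularPart p χ 1 = χ 1 := by
  simp only [pRegularPart_eq, regInd_of_regular (isPRegular_one hp), one_mul]

/-- In rank one every member is proportional to any other on the regular elements. -/
theorem pRegularPart_proportional (hM : IsPModular p M) {B : Set (IrrCharacter G)}
    (hB : IsPBlock M B) (hl : blockRank p B = 1) {χ χ₀ : IrrCharacter G} (hχ : χ ∈ B)
    (hχ₀ : χ₀ ∈ B) (x : G) :
    pRegularPart p (χ : G → ℂ) x =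
      (χ : G → ℂ) 1 / (χ₀ : G → ℂ) 1 * pRegularPart p (χ₀ : G → ℂ) x := by
  set W := Submodule.span ℂ ((fun χ : IrrCharacter G => pRegularPart p (χ : G → ℂ)) '' B) with hW
  have h0 : (χ₀ : G → ℂ) 1 ≠ 0 := IsIrrCharacter.apply_one_ne_zero χ₀.2
  let v : W := ⟨_, Submodule.subset_span ⟨χ₀, hχ₀, rfl⟩⟩
  have hv : v ≠ 0 := fun h => h0 (by
    rw [← pRegularPart_one hM.1 (χ₀ : G → ℂ)]
    exact congrFun (congrArg Subtype.val h) 1)
  obtain ⟨c, hc⟩ := (finrank_eq_one_iff_of_nonzero' v hv).1 hl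
    ⟨_, Submodule.subset_span ⟨χ, hχ, rfl⟩⟩
  have hc' : ∀ y, c * pRegularPart p (χ₀ : G → ℂ) y = pRegularPart p (χ : G → ℂ) y := fun y =>
    congrFun (congrArg Subtype.val hc) y
  have h1 := hc' 1
  rw [pRegularPart_one hM.1, pRegularPart_one hM.1] at h1
  rw [← h1, mul_div_cancel_right₀ _ h0, hc']

theorem regInner_self_right (p : ℕ) (χ ψ : IrrCharacter G) :
    regInner p χ ψ =
      classInner (pRegularPart p (χ : G → ℂ)) (pRegularPart p (ψ : G → ℂ)) := by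
  rw [regInner, classInner, classInner]
  congr 1
  refine Finset.sum_congr rfl fun y _ => ?_
  simp only [pRegularPart_eq, map_mul, conj_regInd]
  linear_combination -((χ : G → ℂ) y * conj ((ψ : G → ℂ) y)) * regInd_mul_self p y

/-- **The Cartan invariant of a block of rank one is the order of its defect group.** -/
theorem rank_one_data (hM : IsPModular p M) {B : Set (IrrCharacter G)} (hB : IsPBlock M B)
    {P : Subgroup G} (hP : IsDefectGroup p M B P) (hl : blockRank p B = 1) :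
    ∃ φ : G → ℂ, ∃ d : IrrCharacter G → ℕ,
      (∃ n : IrrCharacter G → ℤ, ∀ x : G, IsPRegular p x →
        φ x = ∑ᶠ ψ ∈ B, (n ψ : ℂ) * (ψ : G → ℂ) x) ∧
      (∀ χ ∈ B, ∀ x : G, IsPRegular p x → (χ : G → ℂ) x = (d χ : ℂ) * φ x) ∧
      ∑ᶠ χ ∈ B, d χ ^ 2 = Nat.card P := by
  classical
  haveI := Fact.mk hM.1
  haveI := Fintype.ofFinite (IrrCharacter G)
  haveI : Fintype {χ // χ ∈ B} := Fintype.ofFinite _
  obtain ⟨χ₀, hχ₀, hmin⟩ := exists_nu_eq_minExp (p := p) (IsPBlock.nonempty hB)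
  set s := Finset.univ.filter (· ∈ B) with hs
  let f : IrrCharacter G → ℤ := fun χ => (charDegree (χ : G → ℂ) : ℤ)
  obtain ⟨n, hn⟩ := Finset.gcd_eq_sum_mul s f
  set g := s.gcd f with hg
  have hgd : ∀ χ ∈ B, g ∣ f χ := fun χ hχ => Finset.gcd_dvd (by simp [hs, hχ])
  have hg0 : 0 ≤ g := Int.nonneg_of_normalize_eq_self Finset.normalize_gcd
  have hgne : g ≠ 0 := fun h => by
    have := hgd χ₀ hχ₀
    rw [h, zero_dvd_iff] at this
    exact (charDegree_irr_pos χ₀).ne' (by simpa [f] using this)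
  obtain ⟨g', hg'⟩ := Int.eq_ofNat_of_zero_le hg0
  have hg'0 : g' ≠ 0 := fun h => hgne (by rw [hg', h]; rfl)
  have hd : ∀ χ ∈ B, g' ∣ charDegree (χ : G → ℂ) := fun χ hχ => by
    have := hgd χ hχ; rw [hg'] at this; exact Int.natCast_dvd_natCast.1 this
  let d : IrrCharacter G → ℕ := fun χ => charDegree (χ : G → ℂ) / g'
  have hdeg : ∀ χ ∈ B, charDegree (χ : G → ℂ) = d χ * g' := fun χ hχ =>
    (Nat.div_mul_cancel (hd χ hχ)).symm
  let φ : G → ℂ := fun x => ∑ ψ ∈ s, (n ψ : ℂ) * (ψ : G → ℂ) x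
  have hg'C : (g' : ℂ) ≠ 0 := Nat.cast_ne_zero.2 hg'0
  have hφ1 : ∑ ψ ∈ s, (n ψ : ℂ) * (d ψ : ℂ) = 1 := by
    have h1 : ((g : ℤ) : ℂ) = ((∑ ψ ∈ s, f ψ * n ψ : ℤ) : ℂ) := congrArg Int.cast hn
    rw [hg', Int.cast_natCast, Int.cast_sum] at h1
    apply mul_left_cancel₀ hg'C
    rw [mul_one]
    conv_rhs => rw [h1]
    rw [Finset.mul_sum]
    refine Finset.sum_congr rfl fun ψ hψ => ?_
    simp only [f, Int.cast_mul, Int.cast_natCast, hdeg ψ (Finset.mem_filter.1 hψ).2, Nat.cast_mul]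
    ring
  have hreg : ∀ χ ∈ B, ∀ x, pRegularPart p (χ : G → ℂ) x =
      (d χ : ℂ) * ((g' : ℂ) / (χ₀ : G → ℂ) 1 * pRegularPart p (χ₀ : G → ℂ) x) := fun χ hχ x => by
    rw [pRegularPart_proportional hM hB hl hχ hχ₀ x, irr_apply_one χ, hdeg χ hχ]
    push_cast
    ring
  have hφ : ∀ x, IsPRegular p x → φ x = (g' : ℂ) / (χ₀ : G → ℂ) 1 *
      pRegularPart p (χ₀ : G → ℂ) x := fun x hx => by
    have h1 : ∀ ψ ∈ s, (n ψ : ℂ) * (ψ : G → ℂ) x = (n ψ : ℂ) * (d ψ : ℂ) *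
        ((g' : ℂ) / (χ₀ : G → ℂ) 1 * pRegularPart p (χ₀ : G → ℂ) x) := fun ψ hψ => by
      rw [mul_assoc, ← hreg ψ (Finset.mem_filter.1 hψ).2 x, pRegularPart_eq]
      simp [regInd_of_regular hx]
    simp only [φ]
    rw [Finset.sum_congr rfl h1, ← Finset.sum_mul, hφ1, one_mul]
  have hval : ∀ χ ∈ B, ∀ x, IsPRegular p x → (χ : G → ℂ) x = (d χ : ℂ) * φ x := fun χ hχ x hx => by
    rw [hφ x hx, ← hreg χ hχ x, pRegularPart_eq]
    simp [regInd_of_regular hx]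
  refine ⟨φ, d, ⟨n, fun x _ => ?_⟩, hval, ?_⟩
  · rw [finsum_irr_eq_sum_ite, ← Finset.sum_filter]
  -- the inner products
  set r := pRegularPart p φ with hr
  set q := classInner r r with hq
  have hsc : ∀ χ ∈ B, pRegularPart p (χ : G → ℂ) = (d χ : ℂ) • r := fun χ hχ => by
    funext x
    simp only [hr, pRegularPart_eq, Pi.smul_apply, smul_eq_mul]
    by_cases hx : IsPRegular p x
    · rw [hval χ hχ x hx]; ring
    · simp [regInd_of_singular hx]
  have hin : ∀ χ ∈ B, ∀ ψ ∈ B, regInner p χ ψ = (d χ : ℂ) * (d ψ : ℂ) * q := fun χ hχ ψ hψ => by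
    rw [regInner_self_right, hsc χ hχ, hsc ψ hψ, classInner_smul_left, classInner_smul_right,
      Complex.conj_natCast]
    ring
  set S : ℕ := ∑ χ ∈ s, d χ ^ 2 with hS
  have hSq : (S : ℂ) * q = 1 := by
    have h1 := blockRank_eq_sum_regInner hM hB
    rw [hl, Nat.cast_one, ← Finset.sum_subtype (p := (· ∈ B)) s (fun x => by simp [hs])
      (fun χ => regInner p χ χ)] at h1
    rw [h1, hS, Nat.cast_sum, Finset.sum_mul]
    refine Finset.sum_congr rfl fun χ hχ => ?_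
    rw [hin χ (Finset.mem_filter.1 hχ).2 χ (Finset.mem_filter.1 hχ).2]
    push_cast
    ring
  set a := (Nat.card G).factorization p
  have hpair : ∀ χ ∈ B, ∀ ψ ∈ B,
      pairing p χ ψ * (S : ℤ) = (p : ℤ) ^ a * (d χ : ℤ) * (d ψ : ℤ) := fun χ hχ ψ hψ => by
    have hpa : (p : ℂ) ^ a ≠ 0 := pow_ne_zero _ (Nat.cast_ne_zero.2 hM.1.ne_zero)
    have h1 := hin χ hχ ψ hψ
    rw [regInner, classInner_pRegularPart hM.1, div_eq_iff hpa] at h1
    have h2 : ((pairing p χ ψ * (S : ℤ) : ℤ) : ℂ) =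
        (((p : ℤ) ^ a * (d χ : ℤ) * (d ψ : ℤ) : ℤ) : ℂ) := by
      push_cast
      rw [h1]
      linear_combination ((d χ : ℂ) * (d ψ : ℂ) * (p : ℂ) ^ a) * hSq
    exact_mod_cast h2
  have hbez : ∑ ψ ∈ s, n ψ * (d ψ : ℤ) = 1 := by
    have h2 : ((∑ ψ ∈ s, n ψ * (d ψ : ℤ) : ℤ) : ℂ) = ((1 : ℤ) : ℂ) := by
      push_cast; exact hφ1
    exact_mod_cast h2
  have hdvd : (S : ℤ) ∣ (p : ℤ) ^ a := by
    refine ⟨∑ χ ∈ s, ∑ ψ ∈ s, n χ * n ψ * pairing p χ ψ, ?_⟩
    calc (p : ℤ) ^ a = (p : ℤ) ^ a * ((∑ χ ∈ s, n χ * (d χ : ℤ)) *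
          ∑ ψ ∈ s, n ψ * (d ψ : ℤ)) := by rw [hbez, mul_one, mul_one]
      _ = _ := by
        rw [Finset.sum_mul_sum, Finset.mul_sum, Finset.mul_sum]
        refine Finset.sum_congr rfl fun χ hχ => ?_
        rw [Finset.mul_sum, Finset.mul_sum]
        refine Finset.sum_congr rfl fun ψ hψ => ?_
        linear_combination (-(n χ * n ψ)) *
          hpair χ (Finset.mem_filter.1 hχ).2 ψ (Finset.mem_filter.1 hψ).2
  obtain ⟨e, -, he⟩ := (Nat.dvd_prime_pow hM.1).1 (show S ∣ p ^ a by exact_mod_cast hdvd)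
  -- exponents at a character of height zero
  have hd0 : ¬ p ∣ d χ₀ := by
    intro hdiv
    obtain ⟨c, hc⟩ := hdiv
    have hk : (p : ℤ) ^ minExp p B ∣ g := Finset.dvd_gcd fun χ hχ => by
      simp only [f]
      have h1 := (pow_dvd_pow p (minExp_le (p := p) (Finset.mem_filter.1 hχ).2)).trans
        (Nat.ordProj_dvd (charDegree (χ : G → ℂ)) p)
      exact_mod_cast h1
    rw [hg', show ((p : ℤ) ^ minExp p B) = ((p ^ minExp p B : ℕ) : ℤ) by push_cast; rfl,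
      Int.natCast_dvd_natCast] at hk
    obtain ⟨c', hc'⟩ := hk
    have h1 : p ^ (minExp p B + 1) ∣ charDegree (χ₀ : G → ℂ) :=
      ⟨c * c', by rw [hdeg χ₀ hχ₀, hc, hc', pow_succ]; ring⟩
    rw [hM.1.pow_dvd_iff_le_factorization (charDegree_irr_pos χ₀).ne', ← hmin] at h1
    simp only [nu] at h1
    omega
  have hpp := hpair χ₀ hχ₀ χ₀ hχ₀
  have hne : pairing p χ₀ χ₀ ≠ 0 := (pairing_self_pos hM.1 χ₀).ne'
  have hv : padicValInt p (pairing p χ₀ χ₀) = minExp p B := by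
    have h1 := pow_nu_dvd_pairing hM χ₀ χ₀
    have h2 : ¬ (p : ℤ) ^ (nu p (χ₀ : G → ℂ) + 1) ∣ pairing p χ₀ χ₀ := fun h =>
      pairing_unit_of_minimal hM hB hχ₀ hmin hχ₀ ((memLocalIdeal_pairing_div_iff hM χ₀ χ₀).2 h)
    rw [padicValInt_dvd_iff] at h1 h2
    simp only [hne, false_or, hmin] at h1 h2
    omega
  have hd0ne : (d χ₀ : ℤ) ≠ 0 := by
    intro h; exact hd0 (by rw [show d χ₀ = 0 by exact_mod_cast h]; exact dvd_zero p)
  have hpz : ∀ k : ℕ, ((p : ℤ) ^ k) ≠ 0 := fun k =>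
    pow_ne_zero k (by exact_mod_cast hM.1.ne_zero)
  rw [he, Nat.cast_pow] at hpp
  have h3 := congrArg (padicValInt p) hpp
  have hvp : ∀ k : ℕ, padicValInt p ((p : ℤ) ^ k) = k := fun k => by
    rw [← Nat.cast_pow, padicValInt.of_nat, padicValNat.prime_pow]
  have hvd : padicValInt p (d χ₀ : ℤ) = 0 := by
    rw [padicValInt.of_nat]; exact padicValNat.eq_zero_of_not_dvd hd0
  rw [padicValInt.mul hne (hpz e), mul_assoc, padicValInt.mul (hpz a) (mul_ne_zero hd0ne hd0ne),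
    padicValInt.mul hd0ne hd0ne, hv, hvp, hvp, hvd] at h3
  rw [finsum_mem_eq_finite_toFinset_sum _ (Set.toFinite B),
    Finset.sum_congr (s₂ := s) (by ext; simp [hs])
    (fun _ _ => rfl), ← hS, he, IsDefectGroup.card_eq hM hB hP]
  congr 1
  have := blockDefect_add_minExp (p := p) hB
  omega

end Cfsg.Agent.Lib.BlockHeights
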