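import Cfsg.Agent.Lib.BlockHeights.SectionValues
import Cfsg.Agent.Lib.BlockHeights.RankOne
import Cfsg.Agent.Lib.BlockHeights.CentralRank
import Cfsg.Agent.Lib.BlockHeights.PositiveHeight
import Cfsg.Agent.Lib.BlockHeights.AbelianInertial
import Cfsg.Agent.Lib.BrauerPairs.Saturation

/-!
# `2`-blocks of defect one
-/

set_option autoImplicit false
set_option linter.unusedSectionVars false
set_option linter.style.haveILetI false

namespace Cfsg.Agent.Lib.BlockHeights

open Cfsg Cfsg.Agent.Lib.Blocks Cfsg.Agent.Lib.Characters Cfsg.Agent.Lib.BrauerPairs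
open scoped ComplexConjugate

universe u

variable {G : Type u} [Group G] [Fintype G] {p : ℕ} {M : Ideal AlgInt} [M.IsPrime]
  {B : Set (IrrCharacter G)}

/-- Only one block of `C(D)` induces `B` when `N(D) = C(D)`. -/
theorem inducing_unique (hM : IsPModular p M) {P : Subgroup G} (hD : IsDefectGroup p M B P)
    (hN : Subgroup.normalizer (P : Set G) ≤ Subgroup.centralizer (P : Set G)) :
    ∀ (C : Subgroup G), C = Subgroup.centralizer (P : Set G) →
      ∀ b b' : Set (IrrCharacter C), IsInducedBlock M C b B → IsInducedBlock M C b' B → b' = b := by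
  classical
  rintro C rfl b b' hb hb'
  obtain ⟨g, hg⟩ := exists_conjPair_eq hM (isMaximal_of_induced hM hD hb)
    (isMaximal_of_induced hM hD hb')
  have h1 : P.map (MulAut.conj g).toMonoidHom = P := congrArg Sigma.fst hg
  have hgC : g ∈ Subgroup.centralizer (P : Set G) :=
    hN (Subgroup.mem_normalizer_iff_map_conj_eq.2 h1)
  have h2 := congrArg pairCoeff hg
  rw [pairCoeff_conjPair] at h2
  change gconj g (subgroupBlockCoeff _ b') = subgroupBlockCoeff _ b at h2
  refine blockCoeff_injective (funext fun c => ?_)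
  have h3 := congrFun h2 (c : G)
  rw [gconj_apply, subgroupBlockCoeff_of_mem _ c.2, subgroupBlockCoeff_of_mem _
    (mul_mem (mul_mem (inv_mem hgC) c.2) hgC)] at h3
  rw [← h3, ← isClassFunction_blockCoeff b' c (⟨g, hgC⟩⁻¹)]
  exact congrArg _ (Subtype.ext (by simp))

open Classical in
/-- **`2`-blocks of defect one.** -/
theorem defect_one_two (hM : IsPModular 2 M) (hB : IsPBlock M B) {x : G} (hx : orderOf x = 2)
    (hBD : IsDefectGroup 2 M B (Subgroup.zpowers x))
    [Fintype (Subgroup.centralizer ({x} : Set G))]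
    {b : Set (IrrCharacter (Subgroup.centralizer ({x} : Set G)))}
    (hb : IsInducedBlock M (Subgroup.centralizer ({x} : Set G)) b B)
    {θ : IrrCharacter (Subgroup.centralizer ({x} : Set G))} (hθ : θ ∈ b) :
    Nat.card B = 2 ∧
      (∀ χ ∈ B, ∀ ψ ∈ B, ∀ g : G, ¬ 2 ∣ orderOf g → (χ : G → ℂ) g = (ψ : G → ℂ) g) ∧
      ∃ χ₁ ∈ B, ∃ χ₂ ∈ B, χ₁ ≠ χ₂ ∧ ∃ ε₁ ε₂ : ℤ, (ε₁ = 1 ∨ ε₁ = -1) ∧ (ε₂ = 1 ∨ ε₂ = -1) ∧
        ε₁ * ε₂ = -1 ∧ ∀ y : Subgroup.centralizer ({x} : Set G), ¬ 2 ∣ orderOf y →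
          (χ₁ : G → ℂ) (x * y) =
              (ε₁ : ℂ) * (θ : Subgroup.centralizer ({x} : Set G) → ℂ) y ∧
            (χ₂ : G → ℂ) (x * y) =
              (ε₂ : ℂ) * (θ : Subgroup.centralizer ({x} : Set G) → ℂ) y := by
  haveI := Fintype.ofFinite (IrrCharacter G)
  haveI := Fintype.ofFinite (IrrCharacter (Subgroup.centralizer ({x} : Set G)))
  haveI : Fact (Nat.Prime 2) := ⟨hM.1⟩
  have hC : ∀ g, g ∈ Subgroup.centralizer ({x} : Set G) ↔ Commute x g := fun g =>
    ⟨fun h => (Subgroup.mem_centralizer_singleton_iff.1 h).symm,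
      fun h => Subgroup.mem_centralizer_singleton_iff.2 h.eq.symm⟩
  have hx2 : ∃ k : ℕ, orderOf x = 2 ^ k := ⟨1, by rw [hx, pow_one]⟩
  have hxC : x ∈ Subgroup.centralizer ({x} : Set G) := (hC x).2 (Commute.refl x)
  have hP : IsPGroup 2 (Subgroup.zpowers x) := isPGroup_zpowers_of_orderOf hx2
  -- the defect group of `b`
  have hPC : Subgroup.zpowers x ≤ Subgroup.centralizer ({x} : Set G) := Subgroup.zpowers_le.2 hxC
  have hPZ : (Subgroup.zpowers x).subgroupOf (Subgroup.centralizer ({x} : Set G)) ≤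
      Subgroup.center (Subgroup.centralizer ({x} : Set G)) := by
    intro a ha
    obtain ⟨n, hn⟩ := Subgroup.mem_subgroupOf.1 ha
    refine Subgroup.mem_center_iff.2 fun c => Subtype.ext ?_
    show (c : G) * (a : G) = (a : G) * (c : G)
    rw [← hn]
    exact (((hC _).1 c.2).zpow_left n).symm.eq
  haveI : ((Subgroup.zpowers x).subgroupOf (Subgroup.centralizer ({x} : Set G))).Normal :=
    ⟨fun n hn g => by rw [Subgroup.mem_center_iff.1 (hPZ hn) g, mul_inv_cancel_right]; exact hn⟩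
  obtain ⟨Db, hDb⟩ := exists_isDefectGroup hM hb.1
  have hle : (Subgroup.zpowers x).subgroupOf (Subgroup.centralizer ({x} : Set G)) ≤ Db :=
    le_of_isDefectGroup hM (hP.of_equiv (Subgroup.subgroupOfEquivOfLe hPC).symm) hb.1 hDb
  obtain ⟨E, hE, hDE⟩ := exists_le_defectGroup hM hb hDb
  have hcardP : Nat.card (Subgroup.zpowers x) = 2 := by rw [Nat.card_zpowers, hx]
  have hBd : blockDefect 2 B = 1 := by
    have h := IsDefectGroup.card_eq hM hB hBD
    rw [hcardP] at h
    exact (Nat.pow_right_injective le_rfl (by simpa using h)).symm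
  have hDbeq : Db = (Subgroup.zpowers x).subgroupOf (Subgroup.centralizer ({x} : Set G)) := by
    refine (Subgroup.eq_of_le_of_card_ge hle ?_).symm
    rw [Nat.card_congr (Subgroup.subgroupOfEquivOfLe hPC).toEquiv, hcardP,
      Nat.card_congr (Db.equivMapOfInjective _ (Subgroup.subtype_injective _)).toEquiv]
    refine (Subgroup.card_le_of_le hDE).trans (le_of_eq ?_)
    rw [IsDefectGroup.card_eq hM hB hE, hBd, pow_one]
  subst hDbeq
  have hbd : blockDefect 2 b = 1 := by
    have h := IsDefectGroup.card_eq hM hb.1 hDb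
    rw [Nat.card_congr (Subgroup.subgroupOfEquivOfLe hPC).toEquiv, hcardP] at h
    exact (Nat.pow_right_injective le_rfl (by simpa using h)).symm
  have hl : blockRank 2 b = 1 := blockRank_eq_one_of_central hM hb.1 hDb hPZ
  -- all members have height zero
  have hh : ∀ χ ∈ B, blockHeight 2 B (χ : G → ℂ) = 0 := fun χ hχ => by
    by_contra hne
    have h1 := minExp_add_blockHeight (p := 2) hχ
    have h2 := nu_add_two_le hM hB hχ (by omega)
    have h3 := blockDefect_add_minExp (p := 2) hB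
    omega
  -- the members of `b`
  obtain ⟨φ, d, -, hval, hdsum⟩ := rank_one_data hM hb.1 hDb hl
  rw [Nat.card_congr (Subgroup.subgroupOfEquivOfLe hPC).toEquiv, hcardP,
    finsum_mem_eq_finite_toFinset_sum _ (Set.toFinite b)] at hdsum
  have hd1 : ∀ η ∈ b, d η = 1 := fun η hη => by
    have h1 : d η ^ 2 ≤ 2 := le_trans (Finset.single_le_sum (f := fun η => d η ^ 2)
      (fun _ _ => Nat.zero_le _) ((Set.toFinite b).mem_toFinset.2 hη)) hdsum.le
    have h2 : d η ≠ 0 := fun h0 => by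
      have h3 := hval η hη 1 (isPRegular_one hM.1)
      rw [h0, Nat.cast_zero, zero_mul] at h3
      exact IsIrrCharacter.apply_one_ne_zero η.2 h3
    nlinarith [Nat.pos_of_ne_zero h2]
  have hbcard : (Set.toFinite b).toFinset.card = 2 := by
    rw [← hdsum, Finset.card_eq_sum_ones]
    refine Finset.sum_congr rfl fun η hη => ?_
    rw [hd1 η ((Set.toFinite b).mem_toFinset.1 hη), one_pow]
  have hreg : ∀ η ∈ b, ∀ s, IsPRegular 2 s →
      (η : Subgroup.centralizer ({x} : Set G) → ℂ) s =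
        (θ : Subgroup.centralizer ({x} : Set G) → ℂ) s := fun η hη s hs => by
    rw [hval η hη s hs, hval θ hθ s hs, hd1 η hη, hd1 θ hθ]
  -- the decompositions
  have hdec : ∀ χ : IrrCharacter G, ∃ a : ℤ, ∀ s, IsPRegular 2 s →
      blockPart b (shiftRes (Subgroup.centralizer ({x} : Set G)) x (χ : G → ℂ)) s =
        (a : ℂ) * (θ : Subgroup.centralizer ({x} : Set G) → ℂ) s := by
    intro χ
    have hroot : ∀ η : IrrCharacter (Subgroup.centralizer ({x} : Set G)), ∃ e : ℤ,
        centralRoot x hxC η * resMult (Subgroup.centralizer ({x} : Set G)) χ η = (e : ℂ) := by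
      intro η
      obtain ⟨m, hm⟩ := exists_resMult_nat χ η
      have h2 := centralRoot_pow hC hxC η (m := 2) (by rw [← hx, pow_orderOf_eq_one])
      rcases sq_eq_one_iff.1 h2 with h | h
      · exact ⟨m, by rw [h, hm, one_mul]; norm_num⟩
      · exact ⟨-m, by rw [h, hm]; push_cast; ring⟩
    choose e he using hroot
    refine ⟨∑ η ∈ Finset.univ.filter (· ∈ b), e η, fun s hs => ?_⟩
    rw [blockPart_eq_sum, Finset.sum_apply, Int.cast_sum, Finset.sum_mul, Finset.sum_filter]
    refine Finset.sum_congr rfl fun η _ => ?_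
    by_cases hη : η ∈ b
    · rw [if_pos hη, if_pos hη, Pi.smul_apply, smul_eq_mul, classInner_shiftRes hC hxC, he,
        hreg η hη s hs]
    · simp [hη]
  choose a ha using hdec
  have hsect : ∀ χ : IrrCharacter G, sect 2 x b (χ : G → ℂ) = fun s =>
      (a χ : ℂ) * pRegularPart 2 (θ : Subgroup.centralizer ({x} : Set G) → ℂ) s := fun χ => by
    funext s
    simp only [sect, pRegularPart_eq]
    by_cases hs : IsPRegular 2 s
    · rw [ha χ s hs]; ring
    · rw [regInd_of_singular hs]; ring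
  have hθ1 : (θ : Subgroup.centralizer ({x} : Set G) → ℂ) 1 ≠ 0 :=
    IsIrrCharacter.apply_one_ne_zero θ.2
  -- the norm
  have hsum : ∑ χ ∈ (Set.toFinite B).toFinset, (a χ) ^ 2 = 2 := by
    have h := sum_sect_block hM hC hx2 hb 1 1
    rw [finsum_mem_eq_finite_toFinset_sum _ (Set.toFinite B)] at h
    simp only [hsect, pRegularPart_one hM.1, map_mul, map_intCast] at h
    rw [← Finset.sum_filter, show Finset.univ.filter (· ∈ b) = (Set.toFinite b).toFinset by
      ext η; simp] at h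
    rw [Finset.sum_congr (s₁ := (Set.toFinite b).toFinset) rfl (fun η hη => by
      rw [hreg η ((Set.toFinite b).mem_toFinset.1 hη) 1 (isPRegular_one hM.1)]), Finset.sum_const,
      hbcard, nsmul_eq_mul] at h
    have hne : (θ : Subgroup.centralizer ({x} : Set G) → ℂ) 1 *
        conj ((θ : Subgroup.centralizer ({x} : Set G) → ℂ) 1) ≠ 0 :=
      mul_ne_zero hθ1 (by simpa using hθ1)
    have h' : ((∑ χ ∈ (Set.toFinite B).toFinset, a χ ^ 2 : ℤ) : ℂ) *
        ((θ : Subgroup.centralizer ({x} : Set G) → ℂ) 1 *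
          conj ((θ : Subgroup.centralizer ({x} : Set G) → ℂ) 1)) =
        ((2 : ℤ) : ℂ) * ((θ : Subgroup.centralizer ({x} : Set G) → ℂ) 1 *
          conj ((θ : Subgroup.centralizer ({x} : Set G) → ℂ) 1)) := by
      rw [Int.cast_sum, Finset.sum_mul]
      convert h using 1
      · refine Finset.sum_congr rfl fun χ _ => ?_
        push_cast
        ring
      · norm_num
    exact_mod_cast mul_right_cancel₀ hne h'
  have hne : ∀ χ ∈ B, a χ ≠ 0 := fun χ hχ h0 => by
    refine ne_zero_of_not_memLocalIdeal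
      (contrib_unit hM hC hx2 hb hχ (hh χ hχ) hχ (hh χ hχ)) ?_
    rw [contrib, show sect 2 x b (χ : G → ℂ) = 0 from by
      rw [hsect, h0]; funext s; simp]
    simp [classInner]
  have hsq : ∀ χ ∈ B, a χ ^ 2 = 1 := fun χ hχ => by
    have h1 : a χ ^ 2 ≤ 2 := le_trans (Finset.single_le_sum (f := fun χ => a χ ^ 2)
      (fun _ _ => sq_nonneg _) ((Set.toFinite B).mem_toFinset.2 hχ)) hsum.le
    have h2 := hne χ hχ
    have h3 : a χ ≤ 1 ∧ -1 ≤ a χ := ⟨by nlinarith, by nlinarith⟩
    rcases lt_or_gt_of_ne h2 with h | h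
    · rw [show a χ = -1 by omega]; norm_num
    · rw [show a χ = 1 by omega]; norm_num
  have hBcard : (Set.toFinite B).toFinset.card = 2 := by
    rw [Finset.sum_congr rfl fun χ hχ => hsq χ ((Set.toFinite B).mem_toFinset.1 hχ),
      Finset.sum_const, nsmul_eq_mul, mul_one] at hsum
    exact_mod_cast hsum
  -- values on the section
  have hN : Subgroup.normalizer (Subgroup.zpowers x : Set G) ≤
      Subgroup.centralizer (Subgroup.zpowers x : Set G) := fun g hg => by
    rw [mem_centralizer_zpowers_iff]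
    have h1 := (Subgroup.mem_normalizer_iff.1 hg x).1 (Subgroup.mem_zpowers x)
    obtain ⟨n, hn⟩ := h1
    rcases Int.even_or_odd n with ⟨m, hm⟩ | ⟨m, hm⟩
    · exfalso
      have h2 : g * x * g⁻¹ = 1 := by
        rw [← hn]
        show x ^ n = 1
        rw [hm, ← two_mul, zpow_mul, zpow_ofNat, ← hx, pow_orderOf_eq_one, one_zpow]
      rw [conj_eq_one_iff] at h2
      rw [h2, orderOf_one] at hx
      omega
    · have h2 : g * x * g⁻¹ = x := by
        rw [← hn]
        show x ^ n = x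
        rw [hm, zpow_add, zpow_mul, zpow_ofNat, ← hx, pow_orderOf_eq_one, one_zpow, one_mul,
          zpow_one]
      exact (mul_inv_eq_iff_eq_mul.1 h2).symm
  have huniq : ∀ b' : Set (IrrCharacter (Subgroup.centralizer ({x} : Set G))),
      IsInducedBlock M (Subgroup.centralizer ({x} : Set G)) b' B → b' = b := fun b' hb' =>
    inducing_unique hM hBD hN _ (Subgroup.ext fun g => by
      rw [hC, mem_centralizer_zpowers_iff]) b b' hb hb'
  have hvals : ∀ χ ∈ B, ∀ y : Subgroup.centralizer ({x} : Set G), ¬ 2 ∣ orderOf y →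
      (χ : G → ℂ) (x * y) = (a χ : ℂ) * (θ : Subgroup.centralizer ({x} : Set G) → ℂ) y := by
    intro χ hχ y hy
    rw [← ha χ y hy, show (χ : G → ℂ) (x * y) =
        shiftRes (Subgroup.centralizer ({x} : Set G)) x (χ : G → ℂ) y from rfl,
      ← sum_blockPart (M := M) (isClassFunction_shiftRes hC (irr_isClassFunction χ)) y]
    rw [Finset.sum_eq_single b]
    · intro b' hb' hne'
      obtain ⟨η, -, rfl⟩ := Finset.mem_image.1 hb'
      exact blockPart_eq_zero hM hx2 hB hχ (isPBlock_blockOf η) (fun h => hne' (huniq _ h)) hy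
    · intro h
      exact absurd (Finset.mem_image.2 ⟨θ, Finset.mem_univ _,
        (IsPBlock.eq_blockOf hb.1 hθ).symm⟩) h
  obtain ⟨χ₁, χ₂, h12, hfin⟩ := Finset.card_eq_two.1 hBcard
  have hmem : ∀ χ, χ ∈ B ↔ χ = χ₁ ∨ χ = χ₂ := fun χ => by
    rw [← (Set.toFinite B).mem_toFinset, hfin]; simp
  have h1B : χ₁ ∈ B := (hmem _).2 (Or.inl rfl)
  have h2B : χ₂ ∈ B := (hmem _).2 (Or.inr rfl)
  have hxdvd : 2 ∣ orderOf (x * ((1 : Subgroup.centralizer ({x} : Set G)) : G)) := by
    rw [Subgroup.coe_one, mul_one, hx]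
  have h1reg : ¬ 2 ∣ orderOf (1 : Subgroup.centralizer ({x} : Set G)) := by simp
  -- weak orthogonality
  have horth : ∀ g : G, ¬ 2 ∣ orderOf g →
      (a χ₁ : ℂ) * (χ₁ : G → ℂ) g + (a χ₂ : ℂ) * (χ₂ : G → ℂ) g = 0 := by
    intro g hg
    have h := finsum_regular_singular_eq_zero hM hB hg hxdvd
    rw [finsum_mem_eq_finite_toFinset_sum _ (Set.toFinite B), hfin, Finset.sum_pair h12,
      hvals χ₁ h1B 1 h1reg, hvals χ₂ h2B 1 h1reg, map_mul, map_mul, map_intCast,
      map_intCast] at h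
    have hc : conj ((θ : Subgroup.centralizer ({x} : Set G) → ℂ) 1) ≠ 0 := by simpa using hθ1
    refine (mul_eq_zero.1 (?_ : _ * conj ((θ : Subgroup.centralizer ({x} : Set G) → ℂ) 1) = 0)).resolve_right hc
    rw [← h]
    ring
  have hsgn : ∀ χ ∈ B, a χ = 1 ∨ a χ = -1 := fun χ hχ => sq_eq_one_iff.1 (hsq χ hχ)
  have hprod : a χ₁ * a χ₂ = -1 := by
    have h := horth 1 (by simp)
    rw [← charDegree_eq χ₁, ← charDegree_eq χ₂] at h
    have h' : a χ₁ * (charDegree (χ₁ : G → ℂ) : ℤ) + a χ₂ * (charDegree (χ₂ : G → ℂ) : ℤ) = 0 := by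
      exact_mod_cast h
    have p1 := charDegree_pos χ₁
    have p2 := charDegree_pos χ₂
    rcases hsgn χ₁ h1B with e1 | e1 <;> rcases hsgn χ₂ h2B with e2 | e2 <;>
      rw [e1, e2] at h' ⊢ <;> omega
  have heq : ∀ g : G, ¬ 2 ∣ orderOf g → (χ₁ : G → ℂ) g = (χ₂ : G → ℂ) g := fun g hg => by
    have h := horth g hg
    rcases hsgn χ₁ h1B with e1 | e1 <;> rcases hsgn χ₂ h2B with e2 | e2 <;>
      rw [e1, e2] at hprod h <;> norm_num at hprod <;> push_cast at h
    · linear_combination h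
    · linear_combination -h
  refine ⟨?_, fun χ hχ ψ hψ g hg => ?_, χ₁, h1B, χ₂, h2B, h12, a χ₁, a χ₂, hsgn χ₁ h1B,
    hsgn χ₂ h2B, hprod, fun y hy => ⟨hvals χ₁ h1B y hy, hvals χ₂ h2B y hy⟩⟩
  · rw [Nat.card_eq_card_toFinset] at *
    convert hBcard using 2
    ext; simp
  · rcases (hmem χ).1 hχ with rfl | rfl <;> rcases (hmem ψ).1 hψ with rfl | rfl
    · rfl
    · exact heq g hg
    · exact (heq g hg).symm
    · rfl

end Cfsg.Agent.Lib.BlockHeights
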