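import Cfsg.Agent.Lib.BlockHeights.RankUnion
import Cfsg.Agent.Lib.BlockHeights.DefectOneTwo
import Cfsg.Agent.Lib.Blocks.Quotient2
import Cfsg.Agent.Lib.BrauerPairs.DefectPairs

/-!
# Regular rank across a central `p`-subgroup

A block is spanned on the regular elements by the inflations it contains.
-/

set_option autoImplicit false
set_option linter.unusedSectionVars false
set_option linter.style.haveILetI false

namespace Cfsg.Agent.Lib.BlockHeights

open Cfsg Cfsg.Agent.Lib.Blocks Cfsg.Agent.Lib.Characters Cfsg.Agent.Lib.BrauerPairs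

universe u

variable {G : Type u} [Group G] [Fintype G] {M : Ideal AlgInt} [M.IsPrime] {p : ℕ}

/-- The regular part of a member lies in the span of the inflations inside the block. -/
theorem pRegularPart_mem_span_infl (hM : IsPModular p M) (K : Subgroup G) [K.Normal]
    [Fintype (G ⧸ K)] (hK : IsPGroup p K) (hKZ : K ≤ Subgroup.center G)
    {B : Set (IrrCharacter G)} (hB : IsPBlock M B) {χ : IrrCharacter G} (hχ : χ ∈ B) :
    pRegularPart p (χ : G → ℂ) ∈ Submodule.span ℂ
      ((fun η : IrrCharacter (G ⧸ K) => pRegularPart p (inflIrr K η : G → ℂ)) ''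
        {η | inflIrr K η ∈ B}) := by
  classical
  haveI := Fintype.ofFinite (IrrCharacter (G ⧸ K))
  let F : G ⧸ K → ℂ := fun c => ∑ x : G,
    if ¬ p ∣ orderOf x ∧ QuotientGroup.mk' K x = c then (χ : G → ℂ) x else 0
  have hFc : IsClassFunction (G ⧸ K) F := by
    intro c d
    obtain ⟨y, rfl⟩ := QuotientGroup.mk'_surjective K d
    show ∑ x : G, _ = ∑ x : G, _
    rw [← Equiv.sum_comp (MulAut.conj y).toEquiv]
    refine Finset.sum_congr rfl fun x _ => ?_
    simp only [MulEquiv.toEquiv_eq_coe, MulEquiv.coe_toEquiv, MulAut.conj_apply, map_mul, map_inv,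
      irr_isClassFunction χ x y, mul_left_inj, mul_right_inj,
      show orderOf (y * x * y⁻¹) = orderOf x from
        orderOf_injective (MulAut.conj y).toMonoidHom (MulAut.conj y).injective x]
  have hFval : ∀ x : G, ¬ p ∣ orderOf x → F (QuotientGroup.mk' K x) = (χ : G → ℂ) x := by
    intro x hx
    show ∑ z : G, _ = _
    rw [Finset.sum_eq_single x]
    · rw [if_pos ⟨hx, rfl⟩]
    · intro z _ hzx
      rw [if_neg]
      rintro ⟨hz, he⟩
      exact hzx (eq_of_regular_of_commute K hM.1 hK hx (mem_centralizer_subgroup_iff.2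
        fun u hu => (Subgroup.mem_center_iff.1 (hKZ hu) x).symm) hz he)
    · simp
  have hexp : pRegularPart p (χ : G → ℂ) = ∑ η : IrrCharacter (G ⧸ K),
      classInner F (η : G ⧸ K → ℂ) • pRegularPart p (inflIrr K η : G → ℂ) := by
    funext x
    rw [Finset.sum_apply]
    simp only [Pi.smul_apply, smul_eq_mul, pRegularPart_eq]
    by_cases hx : IsPRegular p x
    · simp only [regInd_of_regular hx, one_mul]
      rw [← hFval x hx, congrFun (eq_sum_classInner hFc) (QuotientGroup.mk' K x), Finset.sum_apply]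
      exact Finset.sum_congr rfl fun η _ => by rw [Pi.smul_apply, smul_eq_mul]; rfl
    · simp [regInd_of_singular hx]
  set s := Finset.univ.filter (fun η : IrrCharacter (G ⧸ K) => inflIrr K η ∈ B) with hs
  have hin : ∑ η ∈ s, classInner F (η : G ⧸ K → ℂ) • pRegularPart p (inflIrr K η : G → ℂ) ∈
      Submodule.span ℂ ((fun η : IrrCharacter (G ⧸ K) => pRegularPart p (inflIrr K η : G → ℂ)) ''
        {η | inflIrr K η ∈ B}) :=
    Submodule.sum_mem _ fun η hη => Submodule.smul_mem _ _
      (Submodule.subset_span ⟨η, (Finset.mem_filter.1 hη).2, rfl⟩)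
  have hout : ∑ η ∈ sᶜ, classInner F (η : G ⧸ K → ℂ) • pRegularPart p (inflIrr K η : G → ℂ) ∈
      Submodule.span ℂ ((fun ψ : IrrCharacter G => pRegularPart p (ψ : G → ℂ)) '' {ψ | ψ ∉ B}) :=
    Submodule.sum_mem _ fun η hη => Submodule.smul_mem _ _
      (Submodule.subset_span ⟨inflIrr K η, fun h => by simp [hs, h] at hη, rfl⟩)
  have hBspan : pRegularPart p (χ : G → ℂ) -
      ∑ η ∈ s, classInner F (η : G ⧸ K → ℂ) • pRegularPart p (inflIrr K η : G → ℂ) ∈
      Submodule.span ℂ ((fun ψ : IrrCharacter G => pRegularPart p (ψ : G → ℂ)) '' B) := by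
    refine Submodule.sub_mem _ (Submodule.subset_span ⟨χ, hχ, rfl⟩) ?_
    exact Submodule.sum_mem _ fun η hη => Submodule.smul_mem _ _
      (Submodule.subset_span ⟨inflIrr K η, (Finset.mem_filter.1 hη).2, rfl⟩)
  have heq : pRegularPart p (χ : G → ℂ) -
      ∑ η ∈ s, classInner F (η : G ⧸ K → ℂ) • pRegularPart p (inflIrr K η : G → ℂ) =
      ∑ η ∈ sᶜ, classInner F (η : G ⧸ K → ℂ) • pRegularPart p (inflIrr K η : G → ℂ) := by
    rw [hexp, ← Finset.sum_add_sum_compl s, add_sub_cancel_left]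
  have h0 := Submodule.disjoint_def.1 (disjoint_span_of_notMem (p := p) hM hB
    (S := {ψ | ψ ∉ B}) fun ψ hψ => hψ) _ hBspan (heq ▸ hout)
  rwa [sub_eq_zero.1 h0]

theorem isInducedBlock_zpowers_iff (hM : IsPModular p M) {B : Set (IrrCharacter G)} {x : G}
    (hx : ∃ k : ℕ, orderOf x = p ^ k)
    (γ : Set (IrrCharacter (Subgroup.centralizer (Subgroup.zpowers x : Set G)))) :
    IsInducedBlock M (Subgroup.centralizer (Subgroup.zpowers x : Set G)) γ B ↔
      IsBrauerPairOf p M B (Subgroup.zpowers x) γ :=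
  ⟨fun h => isBrauerPairOf_of_induced hM (isPGroup_zpowers_of_orderOf hx) h,
    fun h => isInducedBlock_of_isBrauerPairOf_zpowers hM h⟩

theorem centralizer_singleton_eq_zpowers (x : G) :
    Subgroup.centralizer ({x} : Set G) = Subgroup.centralizer (Subgroup.zpowers x : Set G) := by
  ext g
  rw [mem_centralizer_zpowers_iff, Subgroup.mem_centralizer_singleton_iff]
  exact ⟨fun h => h.symm, fun h => h.symm⟩

/-- A `2`-block of defect one has regular rank one. -/
theorem blockRank_eq_one_of_defect_one (hM : IsPModular 2 M) {B : Set (IrrCharacter G)}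
    (hB : IsPBlock M B) {D : Subgroup G} (hD : IsDefectGroup 2 M B D) (hD2 : Nat.card D = 2) :
    blockRank 2 B = 1 := by
  classical
  haveI : Fact (Nat.Prime 2) := ⟨hM.1⟩
  obtain ⟨⟨x, hxD⟩, hx⟩ := exists_prime_orderOf_dvd_card' 2 (G := D) (hD2 ▸ dvd_rfl)
  have hxo : orderOf x = 2 := by rwa [Subgroup.orderOf_mk] at hx
  have hDx : D = Subgroup.zpowers x := (Subgroup.eq_of_le_of_card_ge
    (Subgroup.zpowers_le.2 hxD) (by rw [Nat.card_zpowers, hxo, hD2])).symm
  subst hDx
  obtain ⟨e, he⟩ := exists_maximal_defect hM hB hD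
  have hind := isInducedBlock_of_isBrauerPairOf_zpowers hM he.1
  obtain ⟨b, hb⟩ : ∃ b : Set (IrrCharacter (Subgroup.centralizer ({x} : Set G))),
      IsInducedBlock M (Subgroup.centralizer ({x} : Set G)) b B := by
    rw [centralizer_singleton_eq_zpowers]
    exact ⟨e, hind⟩
  haveI := Fintype.ofFinite (Subgroup.centralizer ({x} : Set G))
  obtain ⟨θ, hθ⟩ := IsPBlock.nonempty hb.1
  obtain ⟨-, hreg, -⟩ := defect_one_two hM hB hxo hD hb hθ
  obtain ⟨χ₀, hχ₀⟩ := IsPBlock.nonempty hB
  refine le_antisymm ?_ (blockRank_pos hM hB)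
  have himg : (fun χ : IrrCharacter G => pRegularPart 2 (χ : G → ℂ)) '' B ⊆
      {pRegularPart 2 (χ₀ : G → ℂ)} := by
    rintro _ ⟨χ, hχ, rfl⟩
    refine Set.mem_singleton_iff.2 (funext fun g => ?_)
    simp only [pRegularPart_eq]
    by_cases hg : IsPRegular 2 g
    · rw [hreg χ hχ χ₀ hχ₀ g hg]
    · rw [regInd_of_singular hg, zero_mul, zero_mul]
  rw [blockRank]
  refine (Submodule.finrank_mono (Submodule.span_mono himg)).trans ?_
  refine (finrank_span_le_card _).trans ?_
  simp

open Classical in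
/-- **Rank one above a central involution with image of defect one.** -/
theorem blockRank_eq_one_of_central_two (hM : IsPModular 2 M) {B : Set (IrrCharacter G)}
    (hB : IsPBlock M B) {D : Subgroup G} (hD : IsDefectGroup 2 M B D) (hD4 : Nat.card D = 4)
    (K : Subgroup G) [K.Normal] (hKZ : K ≤ Subgroup.center G) (hK : Nat.card K = 2) :
    blockRank 2 B = 1 := by
  haveI : Fact (Nat.Prime 2) := ⟨hM.1⟩
  haveI := Fintype.ofFinite (G ⧸ K)
  have hKp : IsPGroup 2 K := IsPGroup.of_card (n := 1) (by rw [hK, pow_one])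
  have hC : ∀ x : G, ¬ 2 ∣ orderOf x → x ∈ Subgroup.centralizer (K : Set G) := fun x _ =>
    mem_centralizer_subgroup_iff.2 fun u hu => (Subgroup.mem_center_iff.1 (hKZ hu) x).symm
  obtain ⟨Bbar, hBbar, hinfl, hdef⟩ := exists_block_image_defect hM hKp hB
  have hKD : K ≤ D := le_of_isDefectGroup hM hKp hB hD
  have hcard : Nat.card (D.map (QuotientGroup.mk' K)) = 2 := by
    have h : Nat.card (K.subgroupOf D) * K.relIndex D = Nat.card D :=
      (K.subgroupOf D).card_mul_index
    rw [Nat.card_congr (Subgroup.subgroupOfEquivOfLe hKD).toEquiv, hK, hD4] at h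
    have h2 : Nat.card (D.map (QuotientGroup.mk' K)) = K.relIndex D := by
      rw [← Subgroup.relIndex_ker (f := QuotientGroup.mk' K), QuotientGroup.ker_mk']
    omega
  have hbar := blockRank_eq_one_of_defect_one hM hBbar ((hdef _).2 ⟨D, hD, rfl⟩) hcard
  refine le_antisymm ?_ (blockRank_pos hM hB)
  obtain ⟨η₀, hη₀⟩ := IsPBlock.nonempty hBbar
  have hall : ∀ η : IrrCharacter (G ⧸ K), inflIrr K η ∈ B → η ∈ Bbar := fun η hη =>
    (IsPBlock.mem_iff hBbar hη₀).2 ((sameBlock_comp_mk_iff K hM hKp hC η₀ η).2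
      (IsPBlock.sameBlock hB (hinfl η₀ hη₀) hη))
  obtain ⟨w, hw⟩ : ∃ w : G ⧸ K → ℂ, ∀ η ∈ Bbar,
      ∃ c : ℂ, pRegularPart 2 (η : G ⧸ K → ℂ) = c • w := by
    obtain ⟨⟨w, hw⟩, -, hgen⟩ := finrank_eq_one_iff'.1 hbar
    refine ⟨w, fun η hη => ?_⟩
    obtain ⟨c, hc⟩ := hgen ⟨_, Submodule.subset_span ⟨η, hη, rfl⟩⟩
    exact ⟨c, (congrArg Subtype.val hc).symm⟩
  have hspan : (fun χ : IrrCharacter G => pRegularPart 2 (χ : G → ℂ)) '' B ⊆
      (Submodule.span ℂ {fun x : G => regInd 2 x * w (QuotientGroup.mk' K x)} : Set (G → ℂ)) := by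
    rintro _ ⟨χ, hχ, rfl⟩
    refine Submodule.span_le.2 ?_ (pRegularPart_mem_span_infl hM K hKp hKZ hB hχ)
    rintro _ ⟨η, hη, rfl⟩
    obtain ⟨c, hc⟩ := hw η (hall η hη)
    refine Submodule.mem_span_singleton.2 ⟨c, funext fun x => ?_⟩
    simp only [Pi.smul_apply, smul_eq_mul, pRegularPart_eq]
    by_cases hx : IsPRegular 2 x
    · have h1 := congrFun hc (QuotientGroup.mk' K x)
      simp only [pRegularPart_eq, Pi.smul_apply, smul_eq_mul] at h1
      rw [regInd_of_regular (show IsPRegular 2 (QuotientGroup.mk' K x) from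
        fun hd => hx (hd.trans (orderOf_map_dvd _ x))), one_mul] at h1
      rw [regInd_of_regular hx, one_mul, one_mul, ← h1]
      rfl
    · simp [regInd_of_singular hx]
  rw [blockRank]
  exact (Submodule.finrank_mono (Submodule.span_le.2 hspan)).trans
    ((finrank_span_le_card _).trans (le_of_eq (by rw [Set.toFinset_card, Fintype.card_unique])))

end Cfsg.Agent.Lib.BlockHeights
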