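import Mathlib

/-!
# Alternating sums over chains of `p`-subgroups

Normal chains may replace arbitrary chains, and a sum over the elements stabilising a chain
collapses to the chains `{⟨u⟩}`.
-/

set_option autoImplicit false
set_option linter.unusedSectionVars false

namespace Cfsg.Agent.Lib.BlockHeights

universe u

variable {G : Type u} [Group G] [Finite G] {p : ℕ} [Fact p.Prime]

/-- A nonempty chain of nontrivial `p`-subgroups. -/
def IsPChain (p : ℕ) (s : Finset (Subgroup G)) : Prop :=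
  s.Nonempty ∧ (∀ Q ∈ s, ∀ R ∈ s, Q ≤ R ∨ R ≤ Q) ∧ ∀ Q ∈ s, Q ≠ ⊥ ∧ IsPGroup p Q

/-- Each member of the chain normalises the smaller ones. -/
def IsNormalPairwise (s : Finset (Subgroup G)) : Prop :=
  ∀ Q ∈ s, ∀ R ∈ s, Q ≤ R → R ≤ Subgroup.normalizer ((Q : Subgroup G) : Set G)

/-- The stabiliser of a chain. -/
def chainStab (s : Finset (Subgroup G)) : Subgroup G :=
  ⨅ Q ∈ s, Subgroup.normalizer ((Q : Subgroup G) : Set G)

theorem mem_chainStab {s : Finset (Subgroup G)} {x : G} :
    x ∈ chainStab s ↔ ∀ Q ∈ s, x ∈ Subgroup.normalizer ((Q : Subgroup G) : Set G) := by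
  simp [chainStab, Subgroup.mem_iInf]

theorem isNormalPairwise_iff {s : Finset (Subgroup G)} (hne : s.Nonempty)
    (hch : ∀ Q ∈ s, ∀ R ∈ s, Q ≤ R ∨ R ≤ Q) :
    (∃ T ∈ s, ∀ Q ∈ s, Q ≤ T ∧ T ≤ Subgroup.normalizer ((Q : Subgroup G) : Set G)) ↔
      IsNormalPairwise s := by
  constructor
  · rintro ⟨T, -, hT⟩ Q hQ R hR -
    exact (hT R hR).1.trans (hT Q hQ).2
  · intro h
    obtain ⟨T, hT, hmax⟩ := s.exists_max_image (fun Q => Nat.card Q) hne
    have hle : ∀ Q ∈ s, Q ≤ T := fun Q hQ => (hch Q hQ T hT).elim id fun h' =>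
      (Subgroup.eq_of_le_of_card_ge h' (hmax Q hQ)).ge
    exact ⟨T, hT, fun Q hQ => ⟨hle Q hQ, h Q hQ T hT (hle Q hQ)⟩⟩

open Classical in
/-- Insert or remove a member. -/
noncomputable def toggle (R : Subgroup G) (s : Finset (Subgroup G)) : Finset (Subgroup G) :=
  if R ∈ s then s.erase R else insert R s

theorem toggle_toggle (R : Subgroup G) (s : Finset (Subgroup G)) :
    toggle R (toggle R s) = s := by
  classical
  by_cases h : R ∈ s
  · rw [toggle, toggle, if_pos h, if_neg (Finset.notMem_erase R s), Finset.insert_erase h]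
  · rw [toggle, toggle, if_neg h, if_pos (Finset.mem_insert_self R s), Finset.erase_insert h]

theorem toggle_ne (R : Subgroup G) (s : Finset (Subgroup G)) : toggle R s ≠ s := by
  classical
  intro h
  by_cases hR : R ∈ s
  · rw [toggle, if_pos hR] at h
    exact Finset.notMem_erase R s (h.symm ▸ hR)
  · rw [toggle, if_neg hR] at h
    exact hR (h ▸ Finset.mem_insert_self R s)

theorem mem_toggle_of_ne {R Q : Subgroup G} {s : Finset (Subgroup G)} (h : Q ≠ R) :
    Q ∈ toggle R s ↔ Q ∈ s := by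
  classical
  unfold toggle
  split_ifs <;> simp [h]

theorem neg_one_pow_toggle {R : Subgroup G} {s : Finset (Subgroup G)} (hs : s.Nonempty)
    (ht : (toggle R s).Nonempty) :
    (-1 : ℤ) ^ (s.card - 1) + (-1 : ℤ) ^ ((toggle R s).card - 1) = 0 := by
  classical
  by_cases h : R ∈ s
  · rw [toggle, if_pos h] at ht ⊢
    obtain ⟨k, hk⟩ := Nat.exists_eq_succ_of_ne_zero (Finset.card_pos.2 ht).ne'
    rw [Finset.card_erase_of_mem h] at hk ⊢
    obtain ⟨hk1, hk2⟩ : s.card - 1 = k + 1 ∧ s.card - 1 - 1 = k := by omega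
    rw [hk1, Nat.add_sub_cancel, pow_succ]
    ring
  · rw [toggle, if_neg h, Finset.card_insert_of_notMem h, Nat.add_sub_cancel]
    obtain ⟨k, hk⟩ := Nat.exists_eq_succ_of_ne_zero (Finset.card_pos.2 hs).ne'
    rw [hk, Nat.succ_sub_one, pow_succ]
    ring

/-- Toggling a member normalised by every element of a subgroup of the stabiliser. -/
theorem mem_chainStab_toggle {R : Subgroup G} {s : Finset (Subgroup G)} {x : G}
    (hx : x ∈ chainStab s) (hR : x ∈ Subgroup.normalizer (R : Set G)) :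
    x ∈ chainStab (toggle R s) := by
  rw [mem_chainStab] at hx ⊢
  intro Q hQ
  by_cases h : Q = R
  · exact h ▸ hR
  · exact hx Q ((mem_toggle_of_ne h).1 hQ)

theorem normalizer_map_eq {Q : Subgroup G} {x : G}
    (h : x ∈ Subgroup.normalizer (Q : Set G)) : Q.map (MulAut.conj x).toMonoidHom = Q := by
  ext y
  rw [Subgroup.mem_normalizer_iff] at h
  constructor
  · rintro ⟨z, hz, rfl⟩
    exact (h z).1 hz
  · intro hy
    refine ⟨x⁻¹ * y * x, (h _).2 ?_, by simp [mul_assoc]⟩
    rwa [show x * (x⁻¹ * y * x) * x⁻¹ = y by group]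

theorem mem_normalizer_of_map_eq {Q : Subgroup G} {x : G}
    (h : Q.map (MulAut.conj x).toMonoidHom = Q) : x ∈ Subgroup.normalizer (Q : Set G) := by
  rw [Subgroup.mem_normalizer_iff]
  intro y
  refine ⟨fun hy => h ▸ ⟨y, hy, rfl⟩, fun hy => ?_⟩
  rw [← h] at hy
  obtain ⟨z, hz, hzy⟩ := hy
  exact (MulAut.conj x).injective hzy ▸ hz

/-! ### From normal chains to all chains -/

/-- `B` is the smallest member not normalising all the members below it. -/
def IsFirstBad (s : Finset (Subgroup G)) (B : Subgroup G) : Prop :=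
  B ∈ s ∧ (∃ Q ∈ s, Q ≤ B ∧ ¬ B ≤ Subgroup.normalizer ((Q : Subgroup G) : Set G)) ∧
    ∀ R ∈ s, (∃ Q ∈ s, Q ≤ R ∧ ¬ R ≤ Subgroup.normalizer ((Q : Subgroup G) : Set G)) → B ≤ R

theorem IsFirstBad.unique {s : Finset (Subgroup G)} {B B' : Subgroup G} (h : IsFirstBad s B)
    (h' : IsFirstBad s B') : B = B' :=
  le_antisymm (h.2.2 _ h'.1 h'.2.1) (h'.2.2 _ h.1 h.2.1)

theorem exists_isFirstBad {s : Finset (Subgroup G)} (hch : ∀ Q ∈ s, ∀ R ∈ s, Q ≤ R ∨ R ≤ Q)
    (h : ¬ IsNormalPairwise s) : ∃ B, IsFirstBad s B := by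
  classical
  simp only [IsNormalPairwise, not_forall] at h
  obtain ⟨Q, hQ, R, hR, hle, hn⟩ := h
  obtain ⟨B, hB, hmin⟩ := (s.filter fun R => ∃ Q ∈ s, Q ≤ R ∧
    ¬ R ≤ Subgroup.normalizer ((Q : Subgroup G) : Set G)).exists_min_image
      (fun Q => Nat.card Q) ⟨R, Finset.mem_filter.2 ⟨hR, Q, hQ, hle, hn⟩⟩
  rw [Finset.mem_filter] at hB
  refine ⟨B, hB.1, hB.2, fun T hT hTbad => (hch B hB.1 T hT).elim id fun h' => ?_⟩
  exact (Subgroup.eq_of_le_of_card_ge h' (hmin T (Finset.mem_filter.2 ⟨hT, hTbad⟩))).ge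

/-- The elements of `B` normalising the members below `B`. -/
def innerStab (s : Finset (Subgroup G)) (B : Subgroup G) : Subgroup G :=
  B ⊓ ⨅ Q ∈ {Q | Q ∈ s ∧ Q < B}, Subgroup.normalizer ((Q : Subgroup G) : Set G)

theorem mem_innerStab {s : Finset (Subgroup G)} {B : Subgroup G} {x : G} :
    x ∈ innerStab s B ↔
      x ∈ B ∧ ∀ Q ∈ s, Q < B → x ∈ Subgroup.normalizer ((Q : Subgroup G) : Set G) := by
  simp [innerStab, Subgroup.mem_inf, Subgroup.mem_iInf]

theorem innerStab_lt {s : Finset (Subgroup G)} {B : Subgroup G} (h : IsFirstBad s B) :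
    innerStab s B < B := by
  refine lt_of_le_of_ne inf_le_left fun heq => ?_
  obtain ⟨-, ⟨Q, hQ, hle, hn⟩, -⟩ := h
  refine hn fun x hx => ?_
  rcases eq_or_lt_of_le hle with rfl | hlt
  · exact Subgroup.le_normalizer hx
  · rw [← heq] at hx
    exact (mem_innerStab.1 hx).2 Q hQ hlt

theorem le_innerStab {s : Finset (Subgroup G)} (hch : ∀ Q ∈ s, ∀ R ∈ s, Q ≤ R ∨ R ≤ Q)
    {B : Subgroup G} (h : IsFirstBad s B) {Q : Subgroup G} (hQ : Q ∈ s) (hlt : Q < B) :
    Q ≤ innerStab s B := by
  intro x hx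
  refine mem_innerStab.2 ⟨hlt.le hx, fun Q' hQ' _ => ?_⟩
  rcases hch Q hQ Q' hQ' with h1 | h1
  · exact Subgroup.le_normalizer (h1 hx)
  · by_contra hn
    exact absurd (h.2.2 Q hQ ⟨Q', hQ', h1, fun h' => hn (h' hx)⟩) hlt.not_ge

theorem isFirstBad_toggle {s : Finset (Subgroup G)} (hs : IsPChain p s) {B : Subgroup G}
    (h : IsFirstBad s B) :
    IsPChain p (toggle (innerStab s B) s) ∧ IsFirstBad (toggle (innerStab s B) s) B ∧
      innerStab (toggle (innerStab s B) s) B = innerStab s B := by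
  classical
  obtain ⟨hne, hch, hp⟩ := hs
  set R := innerStab s B with hR
  have hlt : R < B := innerStab_lt h
  obtain ⟨hB, ⟨Q₀, hQ₀, hQ₀B, hbad⟩, hmin⟩ := id h
  have hQ₀lt : Q₀ < B := lt_of_le_of_ne hQ₀B fun he => hbad (he ▸ Subgroup.le_normalizer)
  have hbelow : ∀ Q ∈ s, Q < B → Q ≤ R := fun Q hQ hq => le_innerStab hch h hQ hq
  have hRne : R ≠ ⊥ := fun he => (hp Q₀ hQ₀).1 (eq_bot_iff.2 (he ▸ hbelow Q₀ hQ₀ hQ₀lt))
  have hcompR : ∀ Q ∈ s, Q ≤ R ∨ R ≤ Q := fun Q hQ => by
    rcases hch Q hQ B hB with h1 | h1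
    · rcases eq_or_lt_of_le h1 with rfl | h2
      · exact Or.inr hlt.le
      · exact Or.inl (hbelow Q hQ h2)
    · exact Or.inr (hlt.le.trans h1)
  have hmem : ∀ Q ∈ toggle R s, Q = R ∨ Q ∈ s := fun Q hQ =>
    (_root_.em (Q = R)).imp_right fun hn => (mem_toggle_of_ne hn).1 hQ
  have hBt : B ∈ toggle R s := (mem_toggle_of_ne hlt.ne').2 hB
  have hchain : IsPChain p (toggle R s) := by
    refine ⟨⟨B, hBt⟩, fun Q hQ T hT => ?_, fun Q hQ => ?_⟩
    · rcases hmem Q hQ with rfl | hQs <;> rcases hmem T hT with rfl | hTs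
      · exact Or.inl le_rfl
      · exact (hcompR T hTs).symm
      · exact hcompR Q hQs
      · exact hch Q hQs T hTs
    · rcases hmem Q hQ with rfl | hQs
      · exact ⟨hRne, (hp B hB).2.to_le hlt.le⟩
      · exact hp Q hQs
  -- the elements of `B` normalising the lower members other than `R` form `R` again
  have hinner : innerStab (toggle R s) B = R := by
    refine le_antisymm ?_ fun x hx => mem_innerStab.2 ⟨hlt.le hx, fun Q hQ hq => ?_⟩
    · by_cases hRs : R ∈ s
      · by_contra hn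
        have hge : R < innerStab (toggle R s) B :=
          lt_of_le_not_ge (fun x hx => mem_innerStab.2 ⟨hlt.le hx, fun Q hQ hq =>
            (hmem Q hQ).elim (fun e => e ▸ Subgroup.le_normalizer hx)
              fun hQs => (mem_innerStab.1 hx).2 Q hQs hq⟩) hn
        haveI : Group.IsNilpotent (innerStab (toggle R s) B) :=
          ((hp B hB).2.to_le inf_le_left).isNilpotent
        have h1 := Group.normalizerCondition_of_isNilpotent
          (R.subgroupOf (innerStab (toggle R s) B)) (lt_top_iff_ne_top.2 fun he =>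
            hge.not_ge (Subgroup.subgroupOf_eq_top.1 he))
        obtain ⟨⟨y, hy⟩, hyN, hyR⟩ := SetLike.exists_of_lt h1
        refine hyR (Subgroup.mem_subgroupOf.2 (mem_innerStab.2
          ⟨(mem_innerStab.1 hy).1, fun Q hQs hq => ?_⟩))
        by_cases he : Q = R
        · subst he
          refine mem_normalizer_of_map_eq (Subgroup.eq_of_le_of_card_ge ?_
            (Subgroup.card_map_of_injective (f := (MulAut.conj y).toMonoidHom)
              (MulAut.conj y).injective).ge)
          rintro _ ⟨z, hz, rfl⟩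
          exact ((Subgroup.mem_normalizer_iff.1 hyN) ⟨z, hge.le hz⟩).1 hz
        · exact (mem_innerStab.1 hy).2 Q ((mem_toggle_of_ne he).2 hQs) hq
      · intro x hx
        refine mem_innerStab.2 ⟨(mem_innerStab.1 hx).1, fun Q hQ hq => ?_⟩
        exact (mem_innerStab.1 hx).2 Q ((mem_toggle_of_ne fun he : Q = R => hRs (he ▸ hQ)).2 hQ) hq
    · rcases hmem Q hQ with rfl | hQs
      · exact Subgroup.le_normalizer hx
      · exact (mem_innerStab.1 hx).2 Q hQs hq
  refine ⟨hchain, ⟨hBt, ?_, fun T hT hTbad => ?_⟩, hinner⟩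
  · by_contra hgood
    simp only [not_exists, not_and, not_not] at hgood
    have : B ≤ innerStab (toggle R s) B := fun x hx =>
      mem_innerStab.2 ⟨hx, fun Q hQ hq => hgood Q hQ hq.le hx⟩
    rw [hinner] at this
    exact hlt.not_ge this
  · obtain ⟨Q, hQ, hQT, hn⟩ := hTbad
    rcases hmem T hT with rfl | hTs
    · exfalso
      rcases hmem Q hQ with rfl | hQs
      · exact hn Subgroup.le_normalizer
      · exact hn fun x hx => (mem_innerStab.1 hx).2 Q hQs (lt_of_le_of_lt hQT hlt)
    · rcases hmem Q hQ with rfl | hQs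
      · -- `R ≤ T` not normalised by `T`
        rcases hch T hTs B hB with h1 | h1
        · rcases eq_or_lt_of_le h1 with rfl | h2
          · exact le_rfl
          · exact absurd (le_antisymm hQT (hbelow T hTs h2) ▸ Subgroup.le_normalizer) hn
        · exact h1
      · exact hmin T hTs ⟨Q, hQs, hQT, hn⟩

theorem chainStab_le_normalizer_innerStab {s : Finset (Subgroup G)} {B : Subgroup G}
    (hB : B ∈ s) : chainStab s ≤ Subgroup.normalizer ((innerStab s B : Subgroup G) : Set G) := by
  intro x hx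
  rw [mem_chainStab] at hx
  rw [Subgroup.mem_normalizer_iff]
  intro y
  rw [mem_innerStab, mem_innerStab, Subgroup.mem_normalizer_iff.1 (hx B hB) y]
  refine and_congr_right fun _ => forall₂_congr fun Q hQ => imp_congr_right fun _ => ?_
  have h1 := hx Q hQ
  constructor
  · exact fun h => mul_mem (mul_mem h1 h) (inv_mem h1)
  · intro h
    have := mul_mem (mul_mem (inv_mem h1) h) h1
    simpa [mul_assoc] using this

open Classical in
/-- Chains that are not normal cancel. -/
theorem sum_normal_eq_sum_all [Fintype (Subgroup G)] (Φ : Subgroup G → ℤ) :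
    ∑ s ∈ (Finset.univ : Finset (Finset (Subgroup G))).filter
        (fun s => IsPChain p s ∧ IsNormalPairwise s),
      (-1 : ℤ) ^ (s.card - 1) * Φ (chainStab s) =
    ∑ s ∈ (Finset.univ : Finset (Finset (Subgroup G))).filter (fun s => IsPChain p s),
      (-1 : ℤ) ^ (s.card - 1) * Φ (chainStab s) := by
  rw [← Finset.sum_filter_add_sum_filter_not
    ((Finset.univ : Finset (Finset (Subgroup G))).filter (fun s => IsPChain p s))
    IsNormalPairwise, Finset.filter_filter, Finset.filter_filter, eq_comm, add_eq_left]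
  have hex : ∀ s ∈ (Finset.univ : Finset (Finset (Subgroup G))).filter
      (fun s => IsPChain p s ∧ ¬ IsNormalPairwise s), ∃ B, IsFirstBad s B := fun s hs =>
    exists_isFirstBad (Finset.mem_filter.1 hs).2.1.2.1 (Finset.mem_filter.1 hs).2.2
  refine Finset.sum_involution (fun s hs => toggle (innerStab s (hex s hs).choose) s)
    (fun s hs => ?_) (fun s _ _ => toggle_ne _ s) (fun s hs => ?_) (fun s hs => ?_)
  · have hB := (hex s hs).choose_spec
    have hc := (Finset.mem_filter.1 hs).2.1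
    obtain ⟨h1, h2, h3⟩ := isFirstBad_toggle hc hB
    set R := innerStab s (hex s hs).choose with hR
    have hst : chainStab (toggle R s) = chainStab s := by
      refine le_antisymm (fun x hx => ?_) fun x hx =>
        mem_chainStab_toggle hx (chainStab_le_normalizer_innerStab hB.1 hx)
      have := mem_chainStab_toggle (R := R) hx
        (h3 ▸ chainStab_le_normalizer_innerStab h2.1 hx)
      rwa [toggle_toggle] at this
    rw [hst, ← add_mul, neg_one_pow_toggle hc.1 h1.1, zero_mul]
  · obtain ⟨h1, h2, -⟩ := isFirstBad_toggle (Finset.mem_filter.1 hs).2.1 (hex s hs).choose_spec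
    refine Finset.mem_filter.2 ⟨Finset.mem_univ _, h1, fun hn => ?_⟩
    obtain ⟨Q, hQ, hle, hb⟩ := h2.2.1
    exact hb (hn Q hQ _ h2.1 hle)
  · obtain ⟨-, h2, h3⟩ := isFirstBad_toggle (Finset.mem_filter.1 hs).2.1 (hex s hs).choose_spec
    generalize_proofs pf pf'
    rw [(pf'.choose_spec).unique h2, h3, toggle_toggle]

/-! ### Collapsing at a fixed element -/

open Classical in
/-- The join of the members avoiding `u`. -/
noncomputable def lowerPart (s : Finset (Subgroup G)) (u : G) : Subgroup G :=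
  (s.filter fun Q => u ∉ Q).sup id

theorem lowerPart_mem {s : Finset (Subgroup G)} (hch : ∀ Q ∈ s, ∀ R ∈ s, Q ≤ R ∨ R ≤ Q)
    (u : G) : lowerPart s u = ⊥ ∨ lowerPart s u ∈ s ∧ u ∉ lowerPart s u := by
  classical
  rcases (s.filter fun Q => u ∉ Q).eq_empty_or_nonempty with h | h
  · left; rw [lowerPart, h]; rfl
  · right
    obtain ⟨T, hT, hmax⟩ := (s.filter fun Q => u ∉ Q).exists_max_image (fun Q => Nat.card Q) h
    have hle : ∀ Q ∈ s.filter (fun Q => u ∉ Q), Q ≤ T := fun Q hQ =>
      (hch Q (Finset.mem_filter.1 hQ).1 T (Finset.mem_filter.1 hT).1).elim id fun h' =>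
        (Subgroup.eq_of_le_of_card_ge h' (hmax Q hQ)).ge
    have : lowerPart s u = T := le_antisymm (Finset.sup_le hle) (Finset.le_sup (f := id) hT)
    rw [this]
    exact Finset.mem_filter.1 hT

theorem lowerPart_toggle {R : Subgroup G} {u : G} (hu : u ∈ R) (s : Finset (Subgroup G)) :
    lowerPart (toggle R s) u = lowerPart s u := by
  classical
  rw [lowerPart, lowerPart]
  congr 1
  ext Q
  simp only [Finset.mem_filter]
  refine ⟨fun h => ⟨(mem_toggle_of_ne ?_).1 h.1, h.2⟩, fun h => ⟨(mem_toggle_of_ne ?_).2 h.1, h.2⟩⟩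
  · rintro rfl; exact h.2 hu
  · rintro rfl; exact h.2 hu

open Classical in
/-- **The chains fixed by `u` cancel down to `{⟨u⟩}`.** -/
theorem sum_fixed_chains [Fintype (Subgroup G)] {u : G} (hu : ∃ k : ℕ, orderOf u = p ^ k)
    (hu1 : u ≠ 1) (g : Subgroup G → ℤ) :
    ∑ s ∈ (Finset.univ : Finset (Finset (Subgroup G))).filter
        (fun s => IsPChain p s ∧ u ∈ chainStab s),
      (-1 : ℤ) ^ (s.card - 1) * g (Subgroup.centralizer ({u} : Set G) ⊓ chainStab s) =
    g (Subgroup.centralizer ({u} : Set G)) := by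
  set Z : Subgroup G := Subgroup.zpowers u with hZ
  have hZp : IsPGroup p Z := by
    obtain ⟨k, hk⟩ := hu
    exact IsPGroup.of_card (n := k) (by rw [hZ, Nat.card_zpowers, hk])
  have hZne : Z ≠ ⊥ := fun h => hu1 (Subgroup.zpowers_eq_bot.1 h)
  have huZ : u ∈ Z := Subgroup.mem_zpowers u
  have hcZ : ∀ c ∈ Subgroup.centralizer ({u} : Set G), c ∈ Subgroup.normalizer (Z : Set G) := by
    intro c hc
    refine mem_normalizer_of_map_eq ?_
    rw [hZ, MonoidHom.map_zpowers]
    congr 1
    show c * u * c⁻¹ = u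
    rw [Subgroup.mem_centralizer_singleton_iff.1 hc, mul_inv_cancel_right]
  have huC : u ∈ Subgroup.centralizer ({u} : Set G) := Subgroup.mem_centralizer_singleton_iff.2 rfl
  have hmemF : {Z} ∈ (Finset.univ : Finset (Finset (Subgroup G))).filter
      (fun s => IsPChain p s ∧ u ∈ chainStab s) := by
    refine Finset.mem_filter.2 ⟨Finset.mem_univ _, ⟨Finset.singleton_nonempty Z, ?_, ?_⟩, ?_⟩
    · simp
    · simp [hZne, hZp]
    · simpa [mem_chainStab] using hcZ u huC
  rw [← Finset.add_sum_erase _ _ hmemF]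
  have hfirst : Subgroup.centralizer ({u} : Set G) ⊓ chainStab {Z} =
      Subgroup.centralizer ({u} : Set G) :=
    inf_eq_left.2 fun c hc => mem_chainStab.2 fun Q hQ => Finset.mem_singleton.1 hQ ▸ hcZ c hc
  rw [Finset.card_singleton, Nat.sub_self, pow_zero, one_mul, hfirst, add_eq_left]
  -- the involution
  have key : ∀ s : Finset (Subgroup G), IsPChain p s → u ∈ chainStab s → s ≠ {Z} →
      (IsPChain p (toggle (lowerPart s u ⊔ Z) s) ∧
        u ∈ chainStab (toggle (lowerPart s u ⊔ Z) s) ∧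
        toggle (lowerPart s u ⊔ Z) s ≠ {Z}) ∧
      ∀ c ∈ Subgroup.centralizer ({u} : Set G), c ∈ chainStab s →
        c ∈ Subgroup.normalizer ((lowerPart s u ⊔ Z : Subgroup G) : Set G) := by
    intro s hs hus hsZ
    set L := lowerPart s u with hL
    set R := L ⊔ Z with hR
    have hLN : ∀ c ∈ chainStab s, c ∈ Subgroup.normalizer (L : Set G) := fun c hc => by
      rcases lowerPart_mem hs.2.1 u with h | h
      · rw [hL, h, Subgroup.mem_normalizer_iff]
        intro y
        simp only [Subgroup.mem_bot]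
        exact ⟨fun h1 => by rw [h1, mul_one, mul_inv_cancel], fun h1 => conj_eq_one_iff.1 h1⟩
      · exact mem_chainStab.1 hc L h.1
    have hcent : ∀ c ∈ Subgroup.centralizer ({u} : Set G), c ∈ chainStab s →
        c ∈ Subgroup.normalizer (R : Set G) := fun c hc hcs =>
      mem_normalizer_of_map_eq (by
        rw [hR, Subgroup.map_sup, normalizer_map_eq (hLN c hcs), normalizer_map_eq (hcZ c hc)])
    have hLp : IsPGroup p L := by
      rcases lowerPart_mem hs.2.1 u with h | h
      · rw [hL, h]; exact IsPGroup.of_bot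
      · exact (hs.2.2 L h.1).2
    have hRp : IsPGroup p R := by
      rw [hR, sup_comm]
      refine IsPGroup.to_sup_of_normal_right' hZp hLp ?_
      rw [hZ, Subgroup.zpowers_le]
      exact hLN u hus
    have hRne : R ≠ ⊥ := fun h => hZne (eq_bot_iff.2 (h ▸ le_sup_right))
    have huR : u ∈ R := Subgroup.mem_sup_right huZ
    have hcomp : ∀ Q ∈ s, Q ≤ R ∨ R ≤ Q := by
      intro Q hQ
      by_cases huQ : u ∈ Q
      · refine Or.inr (sup_le (Finset.sup_le fun T hT => ?_) (Subgroup.zpowers_le.2 huQ))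
        rw [Finset.mem_filter] at hT
        exact (hs.2.1 T hT.1 Q hQ).elim id fun h => absurd (h huQ) hT.2
      · exact Or.inl (le_sup_of_le_left (Finset.le_sup (f := id)
          (Finset.mem_filter.2 ⟨hQ, huQ⟩)))
    have hmem : ∀ Q ∈ toggle R s, Q = R ∨ Q ∈ s := fun Q hQ =>
      (_root_.em (Q = R)).imp_right fun hn => (mem_toggle_of_ne hn).1 hQ
    have hnonempty : (toggle R s).Nonempty := by
      by_contra hn
      rw [Finset.not_nonempty_iff_eq_empty] at hn
      have hs' := toggle_toggle R s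
      rw [hn, toggle, if_neg (Finset.notMem_empty R)] at hs'
      refine hsZ ?_
      have hLbot : L = ⊥ := by
        rw [hL, lowerPart, ← hs']
        simp [Finset.filter_singleton, huR]
      rw [← hs', hR, hLbot, bot_sup_eq]
      rfl
    refine ⟨⟨⟨hnonempty, fun Q hQ T hT => ?_, fun Q hQ => ?_⟩,
      mem_chainStab_toggle hus (hcent u huC hus), fun heq => ?_⟩, hcent⟩
    · rcases hmem Q hQ with rfl | hQs <;> rcases hmem T hT with rfl | hTs
      · exact Or.inl le_rfl
      · exact (hcomp T hTs).symm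
      · exact hcomp Q hQs
      · exact hs.2.1 Q hQs T hTs
    · rcases hmem Q hQ with rfl | hQs
      · exact ⟨hRne, hRp⟩
      · exact hs.2.2 Q hQs
    · -- the exceptional chain is not an image
      have hLbot : L = ⊥ := by
        rw [hL, ← lowerPart_toggle huR, heq]
        simp [lowerPart, Finset.filter_singleton, huZ]
      have hRZ : R = Z := by rw [hR, hLbot, bot_sup_eq]
      have hs' := toggle_toggle R s
      rw [heq, hRZ, toggle, if_pos (Finset.mem_singleton_self Z), Finset.erase_singleton] at hs'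
      exact hs.1.ne_empty hs'.symm
  refine Finset.sum_involution (fun s _ => toggle (lowerPart s u ⊔ Z) s)
    (fun s hs => ?_) (fun s _ _ => toggle_ne _ s) (fun s hs => ?_) (fun s hs => ?_)
  · obtain ⟨hne, hs⟩ := Finset.mem_erase.1 hs
    obtain ⟨-, hc, hus⟩ := Finset.mem_filter.1 hs
    obtain ⟨⟨h1, h2, h3⟩, hcent⟩ := key s hc hus hne
    have hlow : lowerPart (toggle (lowerPart s u ⊔ Z) s) u = lowerPart s u :=
      lowerPart_toggle (Subgroup.mem_sup_right huZ) s
    have hst : Subgroup.centralizer ({u} : Set G) ⊓ chainStab (toggle (lowerPart s u ⊔ Z) s) =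
        Subgroup.centralizer ({u} : Set G) ⊓ chainStab s := by
      refine le_antisymm (fun c hc' => ⟨hc'.1, ?_⟩) fun c hc' =>
        ⟨hc'.1, mem_chainStab_toggle hc'.2 (hcent c hc'.1 hc'.2)⟩
      have hcent' := (key _ h1 h2 h3).2 c hc'.1 hc'.2
      rw [hlow] at hcent'
      have := mem_chainStab_toggle (R := lowerPart s u ⊔ Z) hc'.2 hcent'
      rwa [toggle_toggle] at this
    rw [hst, ← add_mul, neg_one_pow_toggle hc.1 h1.1, zero_mul]
  · obtain ⟨hne, hs⟩ := Finset.mem_erase.1 hs
    obtain ⟨-, hc, hus⟩ := Finset.mem_filter.1 hs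
    obtain ⟨⟨h1, h2, h3⟩, -⟩ := key s hc hus hne
    exact Finset.mem_erase.2 ⟨h3, Finset.mem_filter.2 ⟨Finset.mem_univ _, h1, h2⟩⟩
  · rw [lowerPart_toggle (Subgroup.mem_sup_right huZ), toggle_toggle]

open Classical in
/-- **The alternating sum of a sum over stabilising elements.** -/
theorem sum_normal_chains [Fintype G] [Fintype (Subgroup G)] (g : Subgroup G → ℤ)
    (Φ : Subgroup G → ℤ)
    (hΦ : ∀ X : Subgroup G, Φ X = ∑ u ∈ Finset.univ.filter
      (fun u : G => u ∈ X ∧ u ≠ 1 ∧ ∃ k : ℕ, orderOf u = p ^ k),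
      g (Subgroup.centralizer ({u} : Set G) ⊓ X)) :
    ∑ s ∈ (Finset.univ : Finset (Finset (Subgroup G))).filter
        (fun s => IsPChain p s ∧ IsNormalPairwise s),
      (-1 : ℤ) ^ (s.card - 1) * Φ (chainStab s) =
    ∑ u ∈ Finset.univ.filter (fun u : G => u ≠ 1 ∧ ∃ k : ℕ, orderOf u = p ^ k),
      g (Subgroup.centralizer ({u} : Set G)) := by
  rw [sum_normal_eq_sum_all]
  simp only [hΦ, Finset.mul_sum]
  rw [Finset.sum_comm' (t' := Finset.univ.filter (fun u : G => u ≠ 1 ∧ ∃ k : ℕ, orderOf u = p ^ k))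
    (s' := fun u => (Finset.univ : Finset (Finset (Subgroup G))).filter
      (fun s => IsPChain p s ∧ u ∈ chainStab s)) (by
        intro s u
        simp only [Finset.mem_filter, Finset.mem_univ, true_and]
        tauto)]
  refine Finset.sum_congr rfl fun u hu => ?_
  rw [Finset.mem_filter] at hu
  exact sum_fixed_chains hu.2.2 hu.2.1 g

end Cfsg.Agent.Lib.BlockHeights
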