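import Cfsg.Agent.Lib.BlockHeights.RankUnion
import Cfsg.Agent.Lib.BlockHeights.ChainSums
import Cfsg.Agent.Lib.Blocks.Principal

/-!
# `k - l` of a block through chains of `p`-subgroups
-/

set_option autoImplicit false
set_option linter.unusedSectionVars false
set_option linter.style.haveILetI false

namespace Cfsg.Agent.Lib.BlockHeights

open Cfsg Cfsg.Agent.Lib.Blocks Cfsg.Agent.Lib.Characters Cfsg.Agent.Lib.BrauerPairs

universe u

theorem blockRank_transBlock {H K : Type u} [Group H] [Group K] [Fintype H] [Fintype K] {p : ℕ}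
    (e : H ≃* K) (S : Set (IrrCharacter H)) : blockRank p (transBlock e S) = blockRank p S := by
  set E := LinearEquiv.funCongrLeft ℂ ℂ e.symm.toEquiv with hE
  have hfun : ∀ ξ : IrrCharacter H, E (pRegularPart p (ξ : H → ℂ)) =
      pRegularPart p (transIrr e ξ : K → ℂ) := fun ξ => by
    funext y
    obtain ⟨h, rfl⟩ := e.surjective y
    show pRegularPart p (ξ : H → ℂ) (e.symm (e h)) = _
    rw [e.symm_apply_apply, pRegularPart_eq, pRegularPart_eq]
    show _ = regInd p (e h) * (transIrr e ξ : K → ℂ) (e h)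
    rw [transIrr_apply]
    show regInd p h * (ξ : H → ℂ) h = _
    congr 1
    by_cases hh : IsPRegular p h
    · rw [regInd_of_regular hh, regInd_of_regular]
      show ¬ p ∣ orderOf (e h)
      rwa [e.orderOf_eq]
    · rw [regInd_of_singular hh, regInd_of_singular]
      show ¬ ¬ p ∣ orderOf (e h)
      rwa [e.orderOf_eq]
  rw [blockRank, blockRank, transBlock, Set.image_image,
    show (fun ξ : IrrCharacter H => pRegularPart p (transIrr e ξ : K → ℂ)) '' S =
      E.toLinearMap '' ((fun ξ : IrrCharacter H => pRegularPart p (ξ : H → ℂ)) '' S) by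
        rw [Set.image_image]; exact Set.image_congr fun ξ _ => (hfun ξ).symm,
    Submodule.span_image]
  exact LinearEquiv.finrank_map_eq E _

variable {G : Type u} [Group G] {p : ℕ} {M : Ideal AlgInt}

/-- The characters of a subgroup whose central character induces that of `b`. -/
def liesOver (M : Ideal AlgInt) (b : Set (IrrCharacter G)) (X : Subgroup G) :
    Set (IrrCharacter X) :=
  {ψ | ∀ χ ∈ b, ∀ g : G,
    MemLocalIdeal M (inducedCentralChar X (ψ : X → ℂ) g - centralChar (χ : G → ℂ) g)}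

/-- The weight of a subgroup. -/
noncomputable def chainWeight (p : ℕ) (M : Ideal AlgInt) (b : Set (IrrCharacter G))
    (X : Subgroup G) : ℤ :=
  (Nat.card X : ℤ) * (blockRank p (liesOver M b X) : ℤ)

variable [Fintype G] [M.IsPrime]

theorem liesOver_iff {b : Set (IrrCharacter G)} {χ₀ : IrrCharacter G} (hb : IsPBlock M b)
    (hχ₀ : χ₀ ∈ b) (X : Subgroup G) [Fintype X] (ψ : IrrCharacter X) :
    ψ ∈ liesOver M b X ↔ ∀ f : G → ℂ, IsRCentral M f →
      MemLocalIdeal M (omega (ψ : X → ℂ) (resFun X f) - omega (χ₀ : G → ℂ) f) := by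
  constructor
  · exact fun h f hf => omega_resFun_congr_of_forall X (h χ₀ hχ₀) hf
  · intro h χ hχ g
    have h1 := h _ (isRCentral_classIndicator (M := M) g)
    rw [← inducedCentralChar_eq_omega, omega_classIndicator (irr_isClassFunction χ₀)] at h1
    simpa using memLocalIdeal_add h1 (IsPBlock.sameBlock hb hχ₀ hχ g)

open Classical in
/-- The blocks inside a union of blocks. -/
noncomputable def blocksIn {K : Type u} [Group K] [Fintype K] (M : Ideal AlgInt)
    (S : Set (IrrCharacter K)) : Finset (Set (IrrCharacter K)) :=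
  haveI := Fintype.ofFinite (IrrCharacter K)
  (Finset.univ.filter (· ∈ S)).image fun ψ : IrrCharacter K => blockOf M (ψ : K → ℂ)

theorem blocksIn_spec {K : Type u} [Group K] [Fintype K] {S : Set (IrrCharacter K)}
    (hS : ∀ ψ ψ' : IrrCharacter K, SameBlock M (ψ : K → ℂ) (ψ' : K → ℂ) → ψ ∈ S → ψ' ∈ S) :
    (∀ β, β ∈ blocksIn M S ↔ IsPBlock M β ∧ ∃ ψ ∈ β, ψ ∈ S) ∧
      S = {ψ | ∃ β ∈ blocksIn M S, ψ ∈ β} := by
  classical
  haveI := Fintype.ofFinite (IrrCharacter K)
  have h1 : ∀ β, β ∈ blocksIn M S ↔ IsPBlock M β ∧ ∃ ψ ∈ β, ψ ∈ S := fun β => by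
    simp only [blocksIn, Finset.mem_image, Finset.mem_filter, Finset.mem_univ, true_and]
    constructor
    · rintro ⟨ψ, hψ, rfl⟩
      exact ⟨isPBlock_blockOf (M := M) ψ, ψ, self_mem_blockOf ψ, hψ⟩
    · rintro ⟨hβ, ψ, hψβ, hψ⟩
      exact ⟨ψ, hψ, (IsPBlock.eq_blockOf hβ hψβ).symm⟩
  refine ⟨h1, Set.ext fun ψ => ⟨fun hψ => ⟨_, (h1 _).2 ⟨isPBlock_blockOf ψ, ψ,
    self_mem_blockOf ψ, hψ⟩, self_mem_blockOf ψ⟩, ?_⟩⟩
  rintro ⟨β, hβ, hψβ⟩
  obtain ⟨hb, ψ', hψ', hS'⟩ := (h1 β).1 hβ
  exact hS ψ' ψ (IsPBlock.sameBlock hb hψ' hψβ) hS'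

theorem card_union_blocks {K : Type u} [Group K] [Fintype K] (T : Finset (Set (IrrCharacter K)))
    (hT : ∀ β ∈ T, IsPBlock M β) :
    Nat.card {ψ : IrrCharacter K | ∃ β ∈ T, ψ ∈ β} = ∑ β ∈ T, Nat.card β := by
  classical
  haveI := Fintype.ofFinite (IrrCharacter K)
  have h1 : ∀ β : Set (IrrCharacter K), Nat.card β = (Finset.univ.filter (· ∈ β)).card := fun β => by
    rw [Nat.card_eq_fintype_card, Fintype.card_subtype]
  rw [Finset.sum_congr rfl fun β _ => h1 β, h1, ← Finset.card_biUnion (fun β hβ γ hγ hne => by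
    rw [Function.onFun, Finset.disjoint_filter]
    exact fun ψ _ hψ hψ' => hne (IsPBlock.eq_of_mem (hT β hβ) (hT γ hγ) hψ hψ'))]
  congr 1
  ext ψ
  simp

open Classical in
/-- **`k - l` of the characters over `b` in a subgroup.** -/
theorem card_mul_sub_liesOver (hM : IsPModular p M) {b : Set (IrrCharacter G)}
    (hb : IsPBlock M b) (H : Subgroup G) :
    (Nat.card H : ℤ) * ((Nat.card (liesOver M b H) : ℤ) - (blockRank p (liesOver M b H) : ℤ)) =
      ∑ u ∈ Finset.univ.filter (fun u : G => u ∈ H ∧ u ≠ 1 ∧ ∃ k : ℕ, orderOf u = p ^ k),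
        chainWeight p M b (Subgroup.centralizer ({u} : Set G) ⊓ H) := by
  haveI := Fintype.ofFinite H
  obtain ⟨χ₀, hχ₀⟩ := IsPBlock.nonempty hb
  set S := liesOver M b H with hS
  have hSblock : ∀ ψ ψ' : IrrCharacter H, SameBlock M (ψ : H → ℂ) (ψ' : H → ℂ) →
      ψ ∈ S → ψ' ∈ S := fun ψ ψ' hs hψ => by
    rw [hS, liesOver_iff hb hχ₀] at hψ ⊢
    intro f hf
    simpa using memLocalIdeal_sub (hψ f hf)
      (omega_congr_of_sameBlock hs (isRCentral_resFun H hf))
  obtain ⟨hmem, hunion⟩ := blocksIn_spec hSblock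
  set T := blocksIn M S
  have hT : ∀ β ∈ T, IsPBlock M β := fun β hβ => ((hmem β).1 hβ).1
  rw [hunion, card_union_blocks T hT, blockRank_union hM T hT, Nat.cast_sum, Nat.cast_sum,
    ← Finset.sum_sub_distrib, Finset.mul_sum,
    Finset.sum_congr rfl fun β hβ => card_mul_sub_blockRank hM (hT β hβ), Finset.sum_comm]
  refine Finset.sum_bij (fun v _ => (v : G)) (fun v hv => ?_) (fun a _ b _ h => Subtype.ext h)
    (fun u hu => ?_) (fun v hv => ?_)
  · simp only [Finset.mem_filter, Finset.mem_univ, true_and] at hv ⊢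
    exact ⟨v.2, fun h => hv.1 (Subtype.ext h), by rw [Subgroup.orderOf_coe]; exact hv.2⟩
  · simp only [Finset.mem_filter, Finset.mem_univ, true_and] at hu ⊢
    exact ⟨⟨u, hu.1⟩, ⟨fun h => hu.2.1 (congrArg Subtype.val h),
      by rw [← Subgroup.orderOf_coe]; exact hu.2.2⟩, rfl⟩
  simp only [Finset.mem_filter, Finset.mem_univ, true_and] at hv
  obtain ⟨-, hvp⟩ := hv
  set C := Subgroup.centralizer ({v} : Set H) with hCdef
  set X := Subgroup.centralizer ({(v : G)} : Set G) ⊓ H with hXdef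
  let e : C ≃* X :=
    { toFun := fun c => ⟨((c : H) : G), Subgroup.mem_centralizer_singleton_iff.2
          (congrArg Subtype.val (Subgroup.mem_centralizer_singleton_iff.1 c.2)), (c : H).2⟩
      invFun := fun x => ⟨⟨(x : G), x.2.2⟩, Subgroup.mem_centralizer_singleton_iff.2
          (Subtype.ext (Subgroup.mem_centralizer_singleton_iff.1 x.2.1))⟩
      left_inv := fun _ => rfl
      right_inv := fun _ => rfl
      map_mul' := fun _ _ => rfl }
  -- the characters of `C` over `b`
  set S' : Set (IrrCharacter C) := {ξ | ∀ f : G → ℂ, IsRCentral M f →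
    MemLocalIdeal M (omega (ξ : C → ℂ) (resFun C (resFun H f)) - omega (χ₀ : G → ℂ) f)} with hS'
  have hS'e : liesOver M b X = transBlock e S' := by
    ext ψ
    rw [liesOver_iff hb hχ₀]
    constructor
    · intro h
      refine ⟨transIrr e.symm ψ, fun f hf => ?_, transIrr_symm e ψ⟩
      have h1 := h f hf
      rw [← transIrr_symm e ψ, omega_transIrr] at h1
      exact h1
    · rintro ⟨ξ, hξ, rfl⟩ f hf
      rw [omega_transIrr]
      exact hξ f hf
  have hS'block : ∀ ξ ξ' : IrrCharacter C, SameBlock M (ξ : C → ℂ) (ξ' : C → ℂ) →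
      ξ ∈ S' → ξ' ∈ S' := fun ξ ξ' hs hξ f hf => by
    simpa using memLocalIdeal_sub (hξ f hf)
      (omega_congr_of_sameBlock hs (isRCentral_resFun C (isRCentral_resFun H hf)))
  obtain ⟨hmem', hunion'⟩ := blocksIn_spec hS'block
  set T' := blocksIn M S'
  have hsets : T' = T.biUnion fun β => (Set.toFinite
      {γ : Set (IrrCharacter C) | IsInducedBlock M C γ β}).toFinset := by
    ext γ
    rw [Finset.mem_biUnion, hmem']
    constructor
    · rintro ⟨hγ, ξ, hξ, hξS⟩
      obtain ⟨β, hβ⟩ := inducedBlockDefined_centralizer (x := v) hM hvp hγ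
      refine ⟨β, (hmem β).2 ⟨hβ.2.1, ?_⟩, (Set.Finite.mem_toFinset _).2 hβ⟩
      obtain ⟨ψ, hψ⟩ := IsPBlock.nonempty hβ.2.1
      refine ⟨ψ, hψ, ?_⟩
      rw [hS, liesOver_iff hb hχ₀]
      intro f hf
      have h2 : MemLocalIdeal M (omega (ξ : C → ℂ) (resFun C (resFun H f)) -
          omega (ψ : H → ℂ) (resFun H f)) :=
        IsInducedBlock.omega_congr hβ hξ hψ (isRCentral_resFun H hf)
      simpa using memLocalIdeal_sub (hξS f hf) h2
    · rintro ⟨β, hβ, hγ⟩
      rw [Set.Finite.mem_toFinset] at hγ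
      obtain ⟨hβb, ψ, hψ, hψS⟩ := (hmem β).1 hβ
      obtain ⟨ξ, hξ⟩ := IsPBlock.nonempty hγ.1
      rw [hS, liesOver_iff hb hχ₀] at hψS
      refine ⟨hγ.1, ξ, hξ, fun f hf => ?_⟩
      have h2 : MemLocalIdeal M (omega (ξ : C → ℂ) (resFun C (resFun H f)) -
          omega (ψ : H → ℂ) (resFun H f)) :=
        IsInducedBlock.omega_congr hγ hξ hψ (isRCentral_resFun H hf)
      simpa using memLocalIdeal_add h2 (hψS f hf)
  have hrank : blockRank p (liesOver M b X) = ∑ β ∈ T,
      ∑ᶠ γ ∈ {γ : Set (IrrCharacter C) | IsInducedBlock M C γ β}, blockRank p γ := by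
    rw [hS'e, blockRank_transBlock, hunion', blockRank_union hM T' fun γ hγ => ((hmem' γ).1 hγ).1,
      hsets, Finset.sum_biUnion]
    · exact Finset.sum_congr rfl fun β _ => (finsum_mem_eq_finite_toFinset_sum _ _).symm
    · intro β _ β' _ hne
      rw [Function.onFun, Finset.disjoint_left]
      intro γ h h'
      rw [Set.Finite.mem_toFinset] at h h'
      exact hne (IsInducedBlock.unique h h')
  rw [chainWeight, hrank, Nat.card_congr e.symm.toEquiv, Nat.cast_sum, Finset.mul_sum]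

open Classical in
/-- **The alternating sum.** -/
theorem chain_alternating (hM : IsPModular p M) {b : Set (IrrCharacter G)} (hb : IsPBlock M b)
    [Fintype (Subgroup G)] :
    (Nat.card G : ℤ) * ((Nat.card b : ℤ) - (blockRank p b : ℤ)) =
      ∑ s ∈ (Finset.univ : Finset (Finset (Subgroup G))).filter
        (fun s => IsPChain p s ∧ IsNormalPairwise s),
        (-1 : ℤ) ^ (s.card - 1) * ((Nat.card (chainStab s) : ℤ) *
          ((Nat.card (liesOver M b (chainStab s)) : ℤ) -
            (blockRank p (liesOver M b (chainStab s)) : ℤ))) := by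
  haveI := Fact.mk hM.1
  rw [sum_normal_chains (p := p) (chainWeight p M b)
    (fun X => (Nat.card X : ℤ) * ((Nat.card (liesOver M b X) : ℤ) -
      (blockRank p (liesOver M b X) : ℤ))) (fun X => card_mul_sub_liesOver hM hb X),
    card_mul_sub_blockRank hM hb]
  refine Finset.sum_congr rfl fun u hu => ?_
  rw [Finset.mem_filter] at hu
  set C := Subgroup.centralizer ({u} : Set G) with hC
  obtain ⟨χ₀, hχ₀⟩ := IsPBlock.nonempty hb
  have hblock : ∀ ξ ξ' : IrrCharacter C, SameBlock M (ξ : C → ℂ) (ξ' : C → ℂ) →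
      ξ ∈ liesOver M b C → ξ' ∈ liesOver M b C := fun ξ ξ' hs hξ => by
    rw [liesOver_iff hb hχ₀] at hξ ⊢
    intro f hf
    simpa using memLocalIdeal_sub (hξ f hf)
      (omega_congr_of_sameBlock hs (isRCentral_resFun C hf))
  obtain ⟨hmem, hunion⟩ := blocksIn_spec hblock
  have hsets : blocksIn M (liesOver M b C) = (Set.toFinite
      {γ : Set (IrrCharacter C) | IsInducedBlock M C γ b}).toFinset := by
    ext γ
    rw [Set.Finite.mem_toFinset, hmem]
    constructor
    · rintro ⟨hγ, ξ, hξ, hl⟩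
      exact ⟨hγ, hb, fun ξ' hξ' => hblock ξ ξ' (IsPBlock.sameBlock hγ hξ hξ') hl⟩
    · intro h
      obtain ⟨ξ, hξ⟩ := IsPBlock.nonempty h.1
      exact ⟨h.1, ξ, hξ, h.2.2 ξ hξ⟩
  rw [chainWeight, hunion, blockRank_union hM _ fun γ hγ => ((hmem γ).1 hγ).1, hsets,
    finsum_mem_eq_finite_toFinset_sum _ (Set.toFinite _)]

end Cfsg.Agent.Lib.BlockHeights
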