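import Cfsg.Agent.Lib.Characters
import Cfsg.Prelude.Def_Blocks
import Mathlib.Algebra.CharP.Lemmas

/-!
Small character-theoretic tools: degrees as naturals, eigenvalue sums, and the convolution
identity for irreducible characters.
-/

set_option autoImplicit false

namespace Cfsg.Agent.Lib.BlockHeights

open Cfsg Cfsg.Agent.Lib.Characters
open scoped ComplexConjugate

universe u

variable {G : Type u} [Group G]

theorem charDegree_of_apply_one {χ : G → ℂ} {n : ℕ} (h : χ 1 = (n : ℂ)) : charDegree χ = n := by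
  simp [charDegree, h]

theorem apply_one_eq_charDegree {χ : G → ℂ} (h : IsCharacter G χ) :
    χ 1 = (charDegree χ : ℂ) := by
  obtain ⟨n, hn⟩ := IsCharacter.exists_apply_one h
  rw [hn, charDegree_of_apply_one hn]

theorem irr_apply_one (χ : IrrCharacter G) :
    (χ : G → ℂ) 1 = (charDegree (χ : G → ℂ) : ℂ) :=
  apply_one_eq_charDegree (irr_isCharacter χ)

theorem irr_apply_one_ne (χ : IrrCharacter G) : (χ : G → ℂ) 1 ≠ 0 :=
  IsIrrCharacter.apply_one_ne_zero χ.2

theorem charDegree_irr_pos (χ : IrrCharacter G) : 0 < charDegree (χ : G → ℂ) := by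
  refine Nat.pos_of_ne_zero fun h => irr_apply_one_ne χ ?_
  rw [irr_apply_one, h, Nat.cast_zero]

theorem charDegree_dvd_card [Finite G] (χ : IrrCharacter G) :
    charDegree (χ : G → ℂ) ∣ Nat.card G := by
  obtain ⟨n, _, hn, hd⟩ := IsIrrCharacter.exists_degree_dvd χ.2
  rwa [charDegree_of_apply_one hn]

theorem charDegree_trivIrr : charDegree ((trivIrr G : IrrCharacter G) : G → ℂ) = 1 := by
  refine charDegree_of_apply_one ?_
  simp [trivIrr]

/-- All values on powers of one element come from one family of roots of unity. -/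
theorem exists_eigen_sum [Finite G] {χ : G → ℂ} (h : IsCharacter G χ) (g : G) :
    ∃ (ι : Type) (_ : Fintype ι) (μ : ι → ℂ),
      (∀ i, μ i ^ orderOf g = 1) ∧ ∀ k : ℕ, χ (g ^ k) = ∑ i, μ i ^ k := by
  obtain ⟨n, ρ, rfl⟩ := h
  have hn : orderOf g ≠ 0 := (orderOf_pos g).ne'
  have hf : ρ g ^ orderOf g = 1 := by rw [← map_pow, pow_orderOf_eq_one, map_one]
  obtain ⟨ι, hι, b, μ, hμ, hμn⟩ := exists_eigenbasis (ρ g) hn hf
  refine ⟨ι, hι, μ, hμn, fun k => ?_⟩
  rw [Representation.character, map_pow]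
  exact trace_pow_eq_sum_eigen b _ μ hμ k

/-- In a commutative ring, the `p^k`-th power is additive modulo `p`. -/
theorem exists_sum_pow_prime_pow {R : Type*} [CommRing R] {p : ℕ} (hp : p.Prime) {ι : Type*}
    (s : Finset ι) (f : ι → R) (k : ℕ) :
    ∃ r : R, (∑ i ∈ s, f i) ^ p ^ k = (∑ i ∈ s, f i ^ p ^ k) + p * r := by
  classical
  induction s using Finset.induction_on with
  | empty => exact ⟨0, by simp [zero_pow (pow_pos hp.pos k).ne']⟩
  | insert a s ha ih =>
    obtain ⟨r, hr⟩ := ih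
    obtain ⟨r', hr'⟩ := exists_add_pow_prime_pow_eq hp (f a) (∑ i ∈ s, f i) k
    refine ⟨r + f a * (∑ i ∈ s, f i) * r', ?_⟩
    rw [Finset.sum_insert ha, Finset.sum_insert ha, hr', hr]
    ring

/-- Convolution of an irreducible character with a class function. -/
theorem sum_classFun_mul_char [Fintype G] (χ : IrrCharacter G) {f : G → ℂ}
    (hf : IsClassFunction G f) (w : G) :
    ∑ x, f x * (χ : G → ℂ) (w * x) =
      (∑ x, f x * (χ : G → ℂ) x) / (χ : G → ℂ) 1 * (χ : G → ℂ) w := by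
  have hne := irr_apply_one_ne χ
  obtain ⟨χ, n, ρ, hρ, rfl⟩ := χ
  haveI := hρ
  obtain ⟨c, hc⟩ := exists_smul_of_commute ρ (opSum ρ f) (opSum_comm ρ f hf)
  have h1 : ∑ x, f x * ρ.character x = c * ρ.character 1 := by
    rw [← trace_opSum, hc, ρ.char_one, map_smul, LinearMap.trace_id, smul_eq_mul]
  have h2 : ∑ x, f x * ρ.character (w * x) = c * ρ.character w := by
    have : LinearMap.trace ℂ _ (ρ w * opSum ρ f) = c * ρ.character w := by
      rw [hc, mul_smul_comm, map_smul, smul_eq_mul]; rfl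
    rw [← this]
    simp [opSum, Representation.character, Finset.mul_sum, map_mul]
  simp only [h2, h1, mul_div_assoc, div_self hne, mul_one]

/-- Generalised orthogonality: `∑ φ(x) ψ(x⁻¹ g) = δ |G| ψ(g) / ψ(1)`. -/
theorem sum_irr_mul_irr_inv_mul [Fintype G] (φ ψ : IrrCharacter G) [Decidable (φ = ψ)] (g : G) :
    ∑ x, (φ : G → ℂ) x * (ψ : G → ℂ) (x⁻¹ * g) =
      if φ = ψ then (Nat.card G : ℂ) * (ψ : G → ℂ) g / (ψ : G → ℂ) 1 else 0 := by
  have hf : IsClassFunction G fun x => (φ : G → ℂ) x⁻¹ := by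
    intro x h
    have := irr_isClassFunction φ x⁻¹ h
    simpa [mul_assoc] using this
  have e : ∑ x, (φ : G → ℂ) x * (ψ : G → ℂ) (x⁻¹ * g) =
      ∑ x, (φ : G → ℂ) x⁻¹ * (ψ : G → ℂ) (g * x) := by
    refine Fintype.sum_equiv (Equiv.inv G) _ _ fun x => ?_
    have := irr_isClassFunction ψ (x⁻¹ * g) x⁻¹⁻¹
    simp only [Equiv.inv_apply, inv_inv] at this ⊢
    rw [← this]
    simp [mul_assoc]
  rw [e, sum_classFun_mul_char ψ hf g]
  have h1 : ∑ x, (φ : G → ℂ) x⁻¹ * (ψ : G → ℂ) x = (Nat.card G : ℂ) * classInner (ψ : G → ℂ) φ := by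
    rw [classInner_eq_sum_inv (irr_isCharacter φ), ← mul_assoc,
      mul_inv_cancel₀ natCard_ne_zero_complex, one_mul]
    exact Finset.sum_congr rfl fun x _ => mul_comm _ _
  rw [h1]
  split_ifs with h
  · subst h
    rw [IsIrrCharacter.classInner_self φ.2]
    ring
  · rw [IsIrrCharacter.classInner_ne ψ.2 φ.2 (fun e => h (Subtype.ext e.symm))]
    simp

/-- `∑_x φ(x⁻¹) ψ(w x)` for `φ = ψ`. -/
theorem sum_irr_inv_mul_irr [Fintype G] (χ : IrrCharacter G) (g : G) :
    ∑ x, (χ : G → ℂ) x * (χ : G → ℂ) (x⁻¹ * g) =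
      (Nat.card G : ℂ) * (χ : G → ℂ) g / (χ : G → ℂ) 1 := by
  classical
  rw [sum_irr_mul_irr_inv_mul χ χ g, if_pos rfl]

end Cfsg.Agent.Lib.BlockHeights
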