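import Cfsg.Agent.Lib.Characters.BrauerMain
import Cfsg.Prelude.Def_Blocks
import Mathlib.GroupTheory.SchurZassenhaus

/-!
# The function `p ^ a` on `p`-regular elements is a generalized character

`regInd p` is the indicator of the `p`-regular elements and `pPowReg p` its multiple by the
`p`-part of the group order.
-/

set_option autoImplicit false
set_option linter.unusedSectionVars false
set_option linter.style.haveILetI false

namespace Cfsg.Agent.Lib.BlockHeights

open Cfsg
open Cfsg.Agent.Lib.Characters (isCharacter_one)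
open scoped ComplexConjugate

universe u

variable {G : Type u} [Group G]

theorem isPRegular_conj_iff (p : ℕ) (g h : G) : IsPRegular p (h * g * h⁻¹) ↔ IsPRegular p g := by
  have := (MulAut.conj h).orderOf_eq g
  simp only [MulAut.conj_apply] at this
  rw [IsPRegular, IsPRegular, this]

theorem isPRegular_one {p : ℕ} (hp : p.Prime) : IsPRegular p (1 : G) := by
  rw [IsPRegular, orderOf_one]; exact hp.not_dvd_one

open Classical in
/-- The indicator of the `p`-regular elements. -/
noncomputable def regInd (p : ℕ) : G → ℂ := fun g => if IsPRegular p g then 1 else 0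

theorem regInd_of_regular {p : ℕ} {g : G} (h : IsPRegular p g) : regInd p g = 1 := if_pos h

theorem regInd_of_singular {p : ℕ} {g : G} (h : ¬ IsPRegular p g) : regInd p g = 0 := if_neg h

theorem conj_regInd (p : ℕ) (g : G) : conj (regInd p g) = regInd p g := by
  classical
  unfold regInd; split_ifs <;> simp

theorem regInd_mul_self (p : ℕ) (g : G) : regInd p g * regInd p g = regInd p g := by
  classical
  unfold regInd; split_ifs <;> simp

theorem isClassFunction_regInd (p : ℕ) : IsClassFunction G (regInd p : G → ℂ) := by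
  classical
  intro g h
  unfold regInd
  simp only [isPRegular_conj_iff]

theorem regInd_subgroup (p : ℕ) (H : Subgroup G) (h : H) :
    regInd p (h : G) = regInd p h := by
  classical
  unfold regInd IsPRegular
  rw [Subgroup.orderOf_coe]

/-- The `p`-part of the group order times the indicator of the `p`-regular elements. -/
noncomputable def pPowReg (p : ℕ) : G → ℂ :=
  ((p : ℂ) ^ (Nat.card G).factorization p) • regInd p

theorem pPowReg_apply (p : ℕ) (g : G) :
    pPowReg p g = (p : ℂ) ^ (Nat.card G).factorization p * regInd p g := rfl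

variable [Finite G]

/-- A normal subgroup of `p`-power index and order prime to `p` consists of the `p`-regular
elements. -/
theorem mem_iff_isPRegular {p : ℕ} (hp : p.Prime) (K : Subgroup G) [K.Normal] {j : ℕ}
    (hidx : K.index = p ^ j) (hK : ¬ p ∣ Nat.card K) (g : G) : g ∈ K ↔ IsPRegular p g := by
  constructor
  · intro hg h
    exact hK (h.trans (Subgroup.orderOf_dvd_natCard K hg))
  · intro hg
    have h1 : orderOf (QuotientGroup.mk' K g) ∣ orderOf g := orderOf_map_dvd _ g
    have h2 : orderOf (QuotientGroup.mk' K g) ∣ p ^ j := by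
      rw [← hidx, Subgroup.index_eq_card]; exact orderOf_dvd_natCard _
    have h3 : Nat.Coprime (orderOf g) (p ^ j) :=
      ((hp.coprime_iff_not_dvd.2 hg).symm).pow_right j
    have h4 := orderOf_eq_one_iff.1 (Nat.eq_one_of_dvd_coprimes h3 h1 h2)
    exact (QuotientGroup.eq_one_iff g).1 h4

/-- An elementary group has a normal subgroup of `p`-power index consisting of the `p`-regular
elements, for every prime `p`. -/
theorem exists_regular_subgroup {p q : ℕ} (hp : p.Prime) (hq : q.Prime)
    (hE : IsElementary q G) :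
    ∃ K : Subgroup G, K.Normal ∧ ∃ j : ℕ, K.index = p ^ j ∧ ¬ p ∣ Nat.card K := by
  haveI := Fact.mk hp
  obtain ⟨x, hx, hxq, k, hk⟩ := hE
  have hN : (Subgroup.zpowers x).Normal := ⟨fun n hn g => by
    obtain ⟨i, rfl⟩ := Subgroup.mem_zpowers_iff.1 hn
    rw [Subgroup.mem_center_iff.1 (Subgroup.zpow_mem _ hx i) g, mul_inv_cancel_right]
    exact Subgroup.zpow_mem_zpowers x i⟩
  by_cases hpq : p = q
  · subst hpq
    refine ⟨Subgroup.zpowers x, hN, k, hk, ?_⟩
    rw [Nat.card_zpowers]
    exact (hp.coprime_iff_not_dvd).1 hxq.symm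
  -- otherwise a Sylow `p`-subgroup is central
  let S : Sylow p G := default
  have hScent : (S : Subgroup G) ≤ Subgroup.center G := by
    intro s hs
    have hsx : s ∈ Subgroup.zpowers x := by
      obtain ⟨i, hi⟩ := S.2 ⟨s, hs⟩
      have hsi : s ^ p ^ i = 1 := congrArg Subtype.val hi
      have h1 : orderOf (QuotientGroup.mk' (Subgroup.zpowers x) s) ∣ p ^ i :=
        (orderOf_map_dvd _ s).trans (orderOf_dvd_of_pow_eq_one hsi)
      have h2 : orderOf (QuotientGroup.mk' (Subgroup.zpowers x) s) ∣ q ^ k := by
        rw [← hk, Subgroup.index_eq_card]; exact orderOf_dvd_natCard _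
      have h3 : Nat.Coprime (p ^ i) (q ^ k) := ((Nat.coprime_primes hp hq).2 hpq).pow i k
      exact (QuotientGroup.eq_one_iff s).1
        (orderOf_eq_one_iff.1 (Nat.eq_one_of_dvd_coprimes h3 h1 h2))
    obtain ⟨i, rfl⟩ := Subgroup.mem_zpowers_iff.1 hsx
    exact Subgroup.zpow_mem _ hx i
  haveI : (S : Subgroup G).Normal := ⟨fun n hn g => by
    rw [Subgroup.mem_center_iff.1 (hScent hn) g, mul_inv_cancel_right]; exact hn⟩
  obtain ⟨K, hK⟩ := Subgroup.exists_right_complement'_of_coprime S.card_coprime_index
  have hKn : K.Normal := ⟨fun n hn g => by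
    obtain ⟨⟨⟨s, hs⟩, ⟨r, hr⟩⟩, rfl⟩ := hK.2 g
    show s * r * n * (s * r)⁻¹ ∈ K
    have hmem : r * n * r⁻¹ ∈ K := K.mul_mem (K.mul_mem hr hn) (K.inv_mem hr)
    have hc := Subgroup.mem_center_iff.1 (hScent hs) (r * n * r⁻¹)
    rw [show s * r * n * (s * r)⁻¹ = s * (r * n * r⁻¹) * s⁻¹ by group, ← hc,
      mul_inv_cancel_right]
    exact hmem⟩
  obtain ⟨b, hb⟩ := S.2.exists_card_eq
  refine ⟨K, hKn, b, ?_, ?_⟩
  · rw [hK.index_eq_card, hb]
  · rw [← hK.symm.index_eq_card]
    exact S.not_dvd_index

/-- **`p ^ a` times the indicator of the `p`-regular elements is a generalized character.** -/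
theorem isGeneralizedCharacter_pPowReg {p : ℕ} (hp : p.Prime) :
    IsGeneralizedCharacter G (pPowReg p : G → ℂ) := by
  classical
  haveI := Fintype.ofFinite G
  refine Cfsg.Agent.Lib.Characters.isGeneralizedCharacter_of_elementary (fun g h => by
    rw [pPowReg_apply, pPowReg_apply, isClassFunction_regInd p g h]) fun E q hq hE => ?_
  haveI := Fintype.ofFinite E
  obtain ⟨K, hKn, j, hj, hKc⟩ := exists_regular_subgroup hp hq hE
  have hja : j ≤ (Nat.card G).factorization p := by
    rw [← hp.pow_dvd_iff_le_factorization Nat.card_pos.ne', ← hj]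
    exact K.index_dvd_card.trans (Subgroup.card_subgroup_dvd_card E)
  have hind : ∀ e : E, indFun K (fun _ => (1 : ℂ)) e = (p : ℂ) ^ j * regInd p e := by
    intro e
    rw [Cfsg.Agent.Lib.Characters.indFun_apply]
    have hval : ∀ t : E, extendByZero K (fun _ => (1 : ℂ)) (t⁻¹ * e * t) = regInd p e := by
      intro t
      have hiff : t⁻¹ * e * t ∈ K ↔ IsPRegular p e := by
        rw [mem_iff_isPRegular hp K hj hKc, ← isPRegular_conj_iff p e t⁻¹, inv_inv]
      by_cases hm : t⁻¹ * e * t ∈ K
      · rw [Cfsg.Agent.Lib.Characters.extendByZero_of_mem _ _ hm, regInd_of_regular (hiff.1 hm)]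
      · rw [Cfsg.Agent.Lib.Characters.extendByZero_of_not_mem _ _ hm,
          regInd_of_singular fun h => hm (hiff.2 h)]
    rw [Finset.sum_congr rfl fun t _ => hval t, Finset.sum_const, Finset.card_univ, nsmul_eq_mul,
      ← Nat.card_eq_fintype_card, ← K.index_mul_card, hj]
    have : (Nat.card K : ℂ) ≠ 0 := Cfsg.Agent.Lib.Characters.natCard_ne_zero_complex
    push_cast
    field_simp
  have heq : (fun e : E => pPowReg p (e : G)) =
      (((p : ℤ) ^ ((Nat.card G).factorization p - j) : ℤ) : ℂ) •
        indFun K (fun _ => (1 : ℂ)) := by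
    funext e
    rw [Pi.smul_apply, smul_eq_mul, hind, pPowReg_apply, regInd_subgroup, ← mul_assoc]
    push_cast
    rw [← pow_add, Nat.sub_add_cancel hja]
  rw [heq]
  exact Cfsg.Agent.Lib.Characters.IsGeneralizedCharacter.intCast_smul
    (Cfsg.Agent.Lib.Characters.IsGeneralizedCharacter.indFun K
      (Cfsg.Agent.Lib.Characters.IsCharacter.isGeneralizedCharacter isCharacter_one)) _

end Cfsg.Agent.Lib.BlockHeights
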