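import Cfsg.Agent.Lib.Blocks.Central
import Cfsg.Agent.Lib.BlockHeights.RegInd

/-!
# Averages of characters over `p`-subgroups and indicators of `p`-regular classes

The indicator of a `p`-regular class agrees on the `p`-regular elements with a combination of
irreducible characters with coefficients in the local ring.
-/

set_option autoImplicit false
set_option linter.unusedSectionVars false
set_option linter.style.haveILetI false

namespace Cfsg.Agent.Lib.BlockHeights

open Cfsg Cfsg.Agent.Lib.Blocks Cfsg.Agent.Lib.Characters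
open scoped ComplexConjugate

universe u

variable {G : Type u} [Group G]

/-- The average of a character over a coset `c P`, with `c` centralising the subgroup `P`, is an
algebraic integer. -/
theorem isIntegral_avg [Finite G] {φ : G → ℂ} (hφ : IsCharacter G φ) (P : Subgroup G) [Fintype P]
    (c : G) (hc : ∀ w ∈ P, Commute c w) :
    IsIntegral ℤ ((Nat.card P : ℂ)⁻¹ * ∑ w : P, φ (c * w)) := by
  obtain ⟨n, ρ, rfl⟩ := hφ
  set N := (Nat.card P : ℂ)⁻¹ with hN
  have hN0 : (Nat.card P : ℂ) ≠ 0 := natCard_ne_zero_complex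
  set e : Module.End ℂ (Fin n → ℂ) := N • ∑ w : P, ρ (w : G) with he
  have hwe : ∀ w : P, ρ (w : G) * e = e := by
    intro w
    rw [he, mul_smul_comm, Finset.mul_sum]
    congr 1
    exact Fintype.sum_equiv (Equiv.mulLeft w) _ _ fun v => by
      simp [map_mul]
  have hee : e * e = e := by
    conv_lhs => enter [1]; rw [he]
    rw [smul_mul_assoc, Finset.sum_mul]
    simp only [hwe, Finset.sum_const, Finset.card_univ, ← Nat.card_eq_fintype_card]
    rw [← Nat.cast_smul_eq_nsmul ℂ, smul_smul, hN, inv_mul_cancel₀ hN0, one_smul]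
  have hce : Commute (ρ c) e := by
    rw [he]
    refine Commute.smul_right ?_ _
    exact Commute.sum_right _ _ _ fun w _ => (hc w w.2).map ρ
  -- the trace of an idempotent is a natural number
  have htre : ∃ k : ℕ, LinearMap.trace ℂ _ e = (k : ℂ) := by
    refine ⟨Module.finrank ℂ (LinearMap.range e), ?_⟩
    refine LinearMap.IsProj.trace ⟨fun x => LinearMap.mem_range_self e x, ?_⟩
    rintro _ ⟨y, rfl⟩
    exact congrArg (fun t : Module.End ℂ (Fin n → ℂ) => t y) hee
  obtain ⟨k, hk⟩ := htre
  set U : Module.End ℂ (Fin n → ℂ) := ρ c * e + (1 - e) with hU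
  have he1 : e * (1 - e) = 0 := by rw [mul_sub, mul_one, hee, sub_self]
  have he2 : (1 - e) * e = 0 := by rw [sub_mul, one_mul, hee, sub_self]
  have he3 : (1 - e) * (1 - e) = 1 - e := by rw [sub_mul, one_mul, he1, sub_zero]
  have hUpow : ∀ i : ℕ, U ^ (i + 1) = ρ c ^ (i + 1) * e + (1 - e) := by
    intro i
    induction i with
    | zero => simp [hU]
    | succ i ih =>
      rw [pow_succ, ih, hU, mul_add, add_mul, add_mul, he3]
      rw [show ρ c ^ (i + 1) * e * (ρ c * e) = ρ c ^ (i + 1) * (e * ρ c) * e by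
        simp only [mul_assoc], ← hce.eq]
      rw [show ρ c ^ (i + 1) * (ρ c * e) * e = ρ c ^ (i + 1 + 1) * (e * e) by
        rw [pow_succ _ (i + 1)]; simp only [mul_assoc], hee]
      rw [show ρ c ^ (i + 1) * e * (1 - e) = 0 by rw [mul_assoc, he1, mul_zero]]
      rw [show (1 - e) * (ρ c * e) = 0 by
        rw [hce.eq, ← mul_assoc, he2, zero_mul]]
      simp
  have hord : orderOf c ≠ 0 := (orderOf_pos c).ne'
  have hU1 : U ^ orderOf c = 1 := by
    obtain ⟨i, hi⟩ := Nat.exists_eq_succ_of_ne_zero hord
    rw [hi, hUpow, ← Nat.succ_eq_add_one, ← hi, ← map_pow, pow_orderOf_eq_one, map_one, one_mul]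
    abel
  have htr : N * ∑ w : P, ρ.character (c * w) =
      LinearMap.trace ℂ _ U - (n : ℂ) + (k : ℂ) := by
    rw [hU, map_add, map_sub, hk, LinearMap.trace_one, Module.finrank_fin_fun, he, mul_smul_comm,
      map_smul, Finset.mul_sum (a := ρ c), map_sum, smul_eq_mul]
    simp only [← map_mul]
    rw [show ∑ w : P, ρ.character (c * w) = ∑ w : P, LinearMap.trace ℂ _ (ρ (c * w)) from rfl]
    ring
  rw [htr]
  have hnat : ∀ i : ℕ, IsIntegral ℤ (i : ℂ) := fun i => by
    simpa using (isIntegral_algebraMap : IsIntegral ℤ (algebraMap ℤ ℂ (i : ℤ)))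
  exact ((isIntegral_trace_of_pow_eq_one U hord hU1).sub (hnat n)).add (hnat k)

variable [Fintype G]

/-- The indicator of a `p`-regular class is, on the `p`-regular elements, a combination of
irreducible characters with local integral coefficients. -/
theorem exists_classIndicator_expansion [Fintype (IrrCharacter G)] {p : ℕ} {M : Ideal AlgInt}
    [M.IsPrime] (hM : IsPModular p M) {c : G} (hc : IsPRegular p c) :
    ∃ b : IrrCharacter G → ℂ, (∀ φ, MemLocalRing M (b φ)) ∧
      ∀ y, classIndicator c y = regInd p y * ∑ φ : IrrCharacter G, b φ * conj ((φ : G → ℂ) y) := by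
  classical
  haveI := Fact.mk hM.1
  set L : Subgroup G := Subgroup.centralizer ({c} : Set G) with hL
  let P : Sylow p L := default
  let PG : Subgroup G := (P : Subgroup L).map L.subtype
  have hPc : ∀ w ∈ PG, Commute c w := by
    rintro _ ⟨w, -, rfl⟩
    exact (Subgroup.mem_centralizer_singleton_iff.1 w.2).symm
  have hPp : ∀ w ∈ PG, IsPRegular p (c * w) → w = 1 := by
    intro w hw hreg
    obtain ⟨i, hi⟩ := (P.2.map L.subtype) ⟨w, hw⟩
    have h1 : orderOf w ∣ p ^ i := orderOf_dvd_of_pow_eq_one (congrArg Subtype.val hi)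
    obtain ⟨j, -, hj⟩ := (Nat.dvd_prime_pow hM.1).1 h1
    by_contra hne
    have hj0 : j ≠ 0 := fun h => hne (orderOf_eq_one_iff.1 (by rw [hj, h, pow_zero]))
    have hcop : Nat.Coprime (orderOf c) (orderOf w) := by
      rw [hj]; exact ((hM.1.coprime_iff_not_dvd.2 hc).symm).pow_right j
    apply hreg
    rw [(hPc w hw).orderOf_mul_eq_mul_orderOf_of_coprime hcop, hj]
    exact (dvd_pow_self p hj0).mul_left _
  -- the function and its Fourier coefficients
  let U : G → ℂ := fun y => (Nat.card PG : ℂ)⁻¹ *
    ∑ t : G, if c⁻¹ * (t⁻¹ * y * t) ∈ PG then 1 else 0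
  have hUcl : IsClassFunction G U := by
    intro y h
    simp only [U]
    congr 1
    refine Fintype.sum_equiv (Equiv.mulLeft h⁻¹) _ _ fun t => ?_
    simp only [Equiv.coe_mulLeft, mul_inv_rev, inv_inv, mul_assoc]
  have hcoef : ∀ φ : IrrCharacter G, classInner U (φ : G → ℂ) =
      (Nat.card PG : ℂ)⁻¹ * ∑ w : PG, conj ((φ : G → ℂ) (c * w)) := by
    intro φ
    have e1 : ∀ t : G, ∑ y : G, (if c⁻¹ * (t⁻¹ * y * t) ∈ PG then (1 : ℂ) else 0) *
        conj ((φ : G → ℂ) y) = ∑ w : PG, conj ((φ : G → ℂ) (c * w)) := by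
      intro t
      rw [← Finset.sum_subtype (Finset.univ.filter fun w => w ∈ PG) (fun w => by simp)
        (fun w : G => conj ((φ : G → ℂ) (c * w))), Finset.sum_filter]
      refine Fintype.sum_equiv ((MulAut.conj t⁻¹).toEquiv.trans (Equiv.mulLeft c⁻¹)) _ _
        fun y => ?_
      simp only [Equiv.trans_apply, MulEquiv.toEquiv_eq_coe, MulEquiv.coe_toEquiv,
        MulAut.conj_apply, inv_inv, Equiv.coe_mulLeft, mul_inv_cancel_left]
      have hval : (φ : G → ℂ) (t⁻¹ * y * t) = (φ : G → ℂ) y := by
        simpa using irr_isClassFunction φ y t⁻¹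
      rw [hval]
      split_ifs <;> simp
    have e2 : ∀ y : G, U y * conj ((φ : G → ℂ) y) = (Nat.card PG : ℂ)⁻¹ *
        ∑ t : G, (if c⁻¹ * (t⁻¹ * y * t) ∈ PG then (1 : ℂ) else 0) * conj ((φ : G → ℂ) y) :=
      fun y => by simp only [U]; rw [mul_assoc, Finset.sum_mul]
    rw [classInner, Finset.sum_congr rfl fun y _ => e2 y, ← Finset.mul_sum, Finset.sum_comm,
      Finset.sum_congr rfl fun t _ => e1 t, Finset.sum_const, Finset.card_univ,
      nsmul_eq_mul, ← Nat.card_eq_fintype_card]
    have : (Nat.card G : ℂ) ≠ 0 := natCard_ne_zero_complex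
    field_simp
  -- the unit
  set r : ℂ := (Nat.card L : ℂ) / (Nat.card PG : ℂ) with hr
  have hrdiv : (r : ℂ) = ((P : Subgroup L).index : ℂ) := by
    rw [hr, ← (P : Subgroup L).index_mul_card, Nat.cast_mul,
      Subgroup.card_map_of_injective L.subtype_injective,
      mul_div_assoc, div_self natCard_ne_zero_complex, mul_one]
  have hrM : ¬ MemLocalIdeal M r := by
    rw [hrdiv, memLocalIdeal_natCast_iff hM]
    exact P.not_dvd_index
  have hrR : MemLocalRing M r := by rw [hrdiv]; exact memLocalRing_natCast _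
  have hr0 : r ≠ 0 := ne_zero_of_not_memLocalIdeal hrM
  refine ⟨fun φ => r⁻¹ * conj (classInner U (φ : G → ℂ)), fun φ => ?_, fun y => ?_⟩
  · refine memLocalRing_mul (memLocalRing_inv hrR hrM) (memLocalRing_of_isIntegral' ?_)
    rw [hcoef, map_mul, map_inv₀, map_natCast, map_sum]
    simp only [Complex.conj_conj]
    exact isIntegral_avg (irr_isCharacter φ) PG c hPc
  · have hUy : conj (U y) = ∑ φ : IrrCharacter G,
        conj (classInner U (φ : G → ℂ)) * conj ((φ : G → ℂ) y) := by
      conv_lhs => rw [eq_sum_classInner hUcl]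
      simp [map_sum, map_mul]
    simp only [mul_assoc, ← Finset.mul_sum, ← hUy]
    by_cases hy : IsPRegular p y
    · have hsum : ∑ t : G, (if c⁻¹ * (t⁻¹ * y * t) ∈ PG then (1 : ℂ) else 0) =
          (Nat.card L : ℂ) * classIndicator c y := by
        have heq : ∀ t : G, c⁻¹ * (t⁻¹ * y * t) ∈ PG ↔ t * c * t⁻¹ = y := by
          intro t
          constructor
          · intro h
            have := hPp _ h (by
              rw [mul_inv_cancel_left, ← isPRegular_conj_iff p _ t]
              simpa [mul_assoc] using hy)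
            rw [inv_mul_eq_one] at this
            rw [this]; group
          · intro h
            rw [← h, show c⁻¹ * (t⁻¹ * (t * c * t⁻¹) * t) = 1 by group]
            exact PG.one_mem
        simp only [heq]
        rw [hL]
        have := sum_conj_eq (fun x => if x = y then (1 : ℂ) else 0) c
        simpa using this
      have hL0 : (Nat.card L : ℂ) ≠ 0 := natCard_ne_zero_complex
      have hP0 : (Nat.card PG : ℂ) ≠ 0 := natCard_ne_zero_complex
      rw [regInd_of_regular hy, one_mul]
      simp only [U, hsum, map_mul, map_inv₀, map_natCast, hr]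
      have hcc : conj (classIndicator c y) = classIndicator c y := by
        unfold classIndicator; split_ifs <;> simp
      rw [hcc]
      field_simp
    · rw [regInd_of_singular hy, zero_mul]
      unfold classIndicator
      refine if_neg fun h => hy ?_
      obtain ⟨t, rfl⟩ := isConj_iff.1 h
      exact (isPRegular_conj_iff p c t).2 hc

end Cfsg.Agent.Lib.BlockHeights
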