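import Cfsg.Agent.Lib.BlockHeights.CharTools

/-!
Counting commutators by characters.
-/

set_option autoImplicit false

namespace Cfsg.Agent.Lib.BlockHeights

open Cfsg Cfsg.Agent.Lib.Characters
open scoped ComplexConjugate

universe u

variable {G : Type u} [Group G]

open scoped Classical in
theorem card_conjugating_eq [Finite G] (a b : G) :
    Nat.card {y : G // y * a * y⁻¹ = b} =
      if IsConj a b then Nat.card (Subgroup.centralizer ({a} : Set G)) else 0 := by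
  split_ifs with h
  · obtain ⟨y₀, hy₀⟩ := isConj_iff.mp h
    refine Nat.card_congr ?_
    refine ⟨fun y => ⟨y₀⁻¹ * y, ?_⟩, fun c => ⟨y₀ * c, ?_⟩, fun y => ?_, fun c => ?_⟩
    · rw [Subgroup.mem_centralizer_singleton_iff]
      calc y₀⁻¹ * y.1 * a = y₀⁻¹ * (y.1 * a * y.1⁻¹) * y.1 := by simp [mul_assoc]
        _ = y₀⁻¹ * (y₀ * a * y₀⁻¹) * y.1 := by rw [y.2, hy₀]
        _ = a * (y₀⁻¹ * y.1) := by simp [mul_assoc]
    · have := Subgroup.mem_centralizer_singleton_iff.mp c.2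
      calc y₀ * (c : G) * a * (y₀ * (c : G))⁻¹ = y₀ * ((c : G) * a) * (c : G)⁻¹ * y₀⁻¹ := by
            simp [mul_assoc]
        _ = y₀ * (a * (c : G)) * (c : G)⁻¹ * y₀⁻¹ := by rw [this]
        _ = y₀ * a * y₀⁻¹ := by simp [mul_assoc]
        _ = b := hy₀
    · simp
    · simp
  · rw [Nat.card_eq_zero]
    exact Or.inl ⟨fun y => h (isConj_iff.mpr ⟨y.1, y.2⟩)⟩

/-- The number of ways to write `z` as a commutator. -/
theorem card_commutator_eq [Fintype G] [Fintype (IrrCharacter G)] (z : G) :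
    (Nat.card {xy : G × G // xy.1 * xy.2 * xy.1⁻¹ * xy.2⁻¹ = z} : ℂ) =
      (Nat.card G : ℂ) * ∑ χ : IrrCharacter G, (χ : G → ℂ) z / (χ : G → ℂ) 1 := by
  classical
  have e : Nat.card {xy : G × G // xy.1 * xy.2 * xy.1⁻¹ * xy.2⁻¹ = z} =
      ∑ x : G, Nat.card {y : G // y * x⁻¹ * y⁻¹ = x⁻¹ * z} := by
    rw [← Nat.card_sigma]
    apply Nat.card_congr
    refine ⟨fun w => ⟨w.1.1, w.1.2, ?_⟩, fun w => ⟨(w.1, w.2.1), ?_⟩, fun _ => rfl, fun _ => rfl⟩
    · have hw := w.2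
      calc w.1.2 * w.1.1⁻¹ * w.1.2⁻¹
          = w.1.1⁻¹ * (w.1.1 * w.1.2 * w.1.1⁻¹ * w.1.2⁻¹) := by simp [mul_assoc]
        _ = _ := by rw [hw]
    · have h2 := w.2.2
      calc w.1 * w.2.1 * w.1⁻¹ * w.2.1⁻¹ = w.1 * (w.2.1 * w.1⁻¹ * w.2.1⁻¹) := by simp [mul_assoc]
        _ = z := by rw [h2]; simp
  have hx : ∀ x : G, (Nat.card {y : G // y * x⁻¹ * y⁻¹ = x⁻¹ * z} : ℂ) =
      ∑ χ : IrrCharacter G, (χ : G → ℂ) x * (χ : G → ℂ) (x⁻¹ * z) := by
    intro x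
    have h := sum_irr_mul_conj (x⁻¹ * z) x⁻¹
    simp only [IsCharacter.apply_inv (irr_isCharacter _), Complex.conj_conj] at h
    have h' : ∑ χ : IrrCharacter G, (χ : G → ℂ) x * (χ : G → ℂ) (x⁻¹ * z) =
        ∑ χ : IrrCharacter G, (χ : G → ℂ) (x⁻¹ * z) * (χ : G → ℂ) x :=
      Finset.sum_congr rfl fun χ _ => mul_comm _ _
    rw [h', h, card_conjugating_eq]
    by_cases hc : IsConj x⁻¹ (x⁻¹ * z)
    · rw [if_pos hc, if_pos hc.symm]
      norm_cast
      have h1 := card_conj_mul_card_centralizer x⁻¹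
      have h2 := card_conj_mul_card_centralizer (x⁻¹ * z)
      have he : Nat.card {y : G // IsConj x⁻¹ y} = Nat.card {y : G // IsConj (x⁻¹ * z) y} :=
        Nat.card_congr (Equiv.subtypeEquivRight fun y =>
          ⟨fun hy => hc.symm.trans hy, fun hy => hc.trans hy⟩)
      have hpos : 0 < Nat.card {y : G // IsConj x⁻¹ y} :=
        Nat.card_pos_iff.mpr ⟨⟨⟨x⁻¹, IsConj.refl _⟩⟩, inferInstance⟩
      rw [← he] at h2
      exact Nat.eq_of_mul_eq_mul_left hpos (h1.trans h2.symm)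
    · rw [if_neg hc, if_neg (fun h' => hc h'.symm)]
      simp
  rw [e, Nat.cast_sum]
  simp only [hx]
  rw [Finset.sum_comm, Finset.mul_sum]
  exact Finset.sum_congr rfl fun χ _ => by rw [sum_irr_inv_mul_irr, mul_div_assoc]

/-- The sum of `χ(g)/χ(1)^3` counts ways of writing `g` as a product of two commutators. -/
theorem sum_card_commutator_mul [Fintype G] [Fintype (IrrCharacter G)] (g : G) :
    ∑ z : G, (Nat.card {xy : G × G // xy.1 * xy.2 * xy.1⁻¹ * xy.2⁻¹ = z} : ℂ) *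
      (Nat.card {xy : G × G // xy.1 * xy.2 * xy.1⁻¹ * xy.2⁻¹ = z⁻¹ * g} : ℂ) =
    (Nat.card G : ℂ) ^ 3 * ∑ χ : IrrCharacter G, (χ : G → ℂ) g / (χ : G → ℂ) 1 ^ 3 := by
  classical
  simp only [card_commutator_eq, Finset.mul_sum, Finset.sum_mul]
  rw [Finset.sum_comm]
  refine Finset.sum_congr rfl fun χ _ => ?_
  have h1 := irr_apply_one_ne χ
  rw [Finset.sum_comm]
  have : ∀ φ : IrrCharacter G,
      ∑ z : G, (Nat.card G : ℂ) * ((φ : G → ℂ) z / (φ : G → ℂ) 1) *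
        ((Nat.card G : ℂ) * ((χ : G → ℂ) (z⁻¹ * g) / (χ : G → ℂ) 1)) =
      (Nat.card G : ℂ) ^ 2 / ((φ : G → ℂ) 1 * (χ : G → ℂ) 1) *
        ∑ z : G, (φ : G → ℂ) z * (χ : G → ℂ) (z⁻¹ * g) := by
    intro φ
    rw [Finset.mul_sum]
    refine Finset.sum_congr rfl fun z _ => ?_
    have := irr_apply_one_ne φ
    field_simp
  simp only [this, sum_irr_mul_irr_inv_mul, mul_ite, mul_zero, Finset.sum_ite_eq',
    Finset.mem_univ, if_true]
  field_simp

end Cfsg.Agent.Lib.BlockHeights
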