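import Cfsg.Agent.Lib.Blocks.Covering3
import Cfsg.Agent.Lib.BrauerPairs.Basic

/-!
# A covered block stable under a defect group
-/

set_option autoImplicit false
set_option linter.unusedSectionVars false
set_option linter.style.haveILetI false

namespace Cfsg.Agent.Lib.BlockHeights

open Cfsg Cfsg.Agent.Lib.Blocks Cfsg.Agent.Lib.Characters
open scoped ComplexConjugate

universe u

variable {G : Type u} [Group G] [Fintype G] {p : ℕ} {M : Ideal AlgInt} [hMp : M.IsPrime]
  (N : Subgroup G) [hN : N.Normal] [Fintype N]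

theorem conjIrrN_mul (g h : G) (θ : IrrCharacter N) :
    conjIrrN N (g * h) θ = conjIrrN N h (conjIrrN N g θ) :=
  Subtype.ext (conjFun_mul N g h _)

theorem conjIrrN_injective (g : G) : Function.Injective (conjIrrN N g) := fun θ φ h => by
  rw [← conjIrrN_inv_cancel N g θ, h, conjIrrN_inv_cancel]

theorem blockCoeff_image_conjIrrN (g : G) (c : Set (IrrCharacter N)) (n : N) :
    blockCoeff (conjIrrN N g '' c) n =
      blockCoeff c ⟨g * n * g⁻¹, hN.conj_mem n n.2 g⟩ := by
  rw [blockCoeff, blockCoeff, finsum_mem_image (conjIrrN_injective N g).injOn]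
  refine congrArg _ (finsum_mem_congr rfl fun θ _ => ?_)
  show conjFun N g (θ : N → ℂ) 1 * conj (conjFun N g (θ : N → ℂ) n) = _
  rw [conjFun_apply_one]
  rfl

theorem image_blockOf (g : G) (θ : IrrCharacter N) :
    conjIrrN N g '' blockOf M (θ : N → ℂ) = blockOf M (conjIrrN N g θ : N → ℂ) := by
  ext φ
  constructor
  · rintro ⟨ψ, hψ, rfl⟩
    exact sameBlock_conjFun N hψ g
  · intro h
    refine ⟨conjIrrN N g⁻¹ φ, ?_, conjIrrN_cancel_inv N g φ⟩
    have := sameBlock_conjFun N (θ := conjIrrN N g θ) (φ := φ) h g⁻¹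
    rwa [conjIrrN_inv_cancel] at this

/-- A covered block fixed by a defect group `P`, with defect group `P ∩ N`. -/
theorem exists_covered_stable (hM : IsPModular p M) {B : Set (IrrCharacter G)}
    (hB : IsPBlock M B) {P : Subgroup G} (hP : IsDefectGroup p M B P) :
    ∃ c : Set (IrrCharacter N), IsPBlock M c ∧ (∀ x ∈ P, StabilizesBlock N c x) ∧
      (∃ χ ∈ B, ∃ θ ∈ c, classInner (fun n : N => (χ : G → ℂ) n) (θ : N → ℂ) ≠ 0) ∧
      IsDefectGroup p M c ((P ⊓ N).subgroupOf N) := by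
  classical
  haveI := Fact.mk hM.1
  obtain ⟨χ₀, hχ₀⟩ := IsPBlock.nonempty hB
  obtain ⟨θ₀, hne₀⟩ := exists_constituent_restrict N χ₀
  set b := blockOf M (θ₀ : N → ℂ) with hbdef
  have hb : IsPBlock M b := isPBlock_blockOf θ₀
  have hθ₀ : θ₀ ∈ b := self_mem_blockOf θ₀
  have heB := isRCentral_blockCoeff hM hB
  have heO := isRCentral_orbitIdem N hM (IsPBlock.blockOf_subset hb)
  -- the size of `P ∩ N`
  have hcard : Nat.card ((P ⊓ N).subgroupOf N) = p ^ blockDefect p b := by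
    obtain ⟨Q, hQ⟩ := exists_isDefectGroup hM hb
    have hQ' : (Q.map N.subtype).subgroupOf N = Q :=
      Subgroup.comap_map_eq_self_of_injective N.subtype_injective Q
    obtain ⟨P₁, hP₁, hPQ⟩ := exists_defectGroup_inf_eq N hM hB hb ⟨χ₀, hχ₀, θ₀, hθ₀, hne₀⟩
      (Subgroup.map_subtype_le Q) (hQ'.symm ▸ hQ)
    obtain ⟨a, ha⟩ := IsDefectGroup.exists_map_conj_eq hM hB hP₁ hP
    have hNa : N.map (MulAut.conj a).toMonoidHom = N := Subgroup.ext fun x => by
      refine ⟨?_, fun hx => ⟨a⁻¹ * x * a, by simpa using hN.conj_mem x hx a⁻¹, by simp [mul_assoc]⟩⟩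
      rintro ⟨y, hy, rfl⟩
      exact hN.conj_mem y hy a
    have hPN : (P₁ ⊓ N).map (MulAut.conj a).toMonoidHom = P ⊓ N := by
      rw [Subgroup.map_inf _ _ _ (MulAut.conj a).injective, ha, hNa]
    rw [Nat.card_congr (Subgroup.subgroupOfEquivOfLe (inf_le_right : P ⊓ N ≤ N)).toEquiv,
      ← hPN, card_map_conj, hPQ,
      Nat.card_congr (Subgroup.equivMapOfInjective Q N.subtype N.subtype_injective).toEquiv.symm,
      IsDefectGroup.card_eq hM hb hQ]
  -- the orbit idempotent at a defect class of `B`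
  have hconv : conv (orbitIdem N b) (blockCoeff B) = blockCoeff B := by
    refine ext_omega (isClassFunction_conv heO.1 heB.1) heB.1 fun η => ?_
    rw [omega_conv η.2 heO.1, omega_blockCoeff]
    split_ifs with hη
    · obtain ⟨ψ, hψ⟩ := exists_constituent_restrict N η
      rw [omega_orbitIdem N b hψ, if_pos (constituent_mem_conjClosure N hM
        (IsPBlock.blockOf_subset hb) (IsPBlock.sameBlock hB hχ₀ hη) hθ₀ hne₀ hψ), one_mul]
    · rw [mul_zero]
  have hPp : IsPGroup p P := IsDefectGroup.isPGroup hP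
  obtain ⟨g', hg', T', hT'⟩ := id hP
  have hT'' : sylowSub T' = P := hT'.symm
  have hgP : g' ∈ Subgroup.centralizer (P : Set G) := hT'' ▸ mem_centralizer_sylowSub T'
  obtain ⟨z, hzP, hze⟩ : ∃ z ∈ Subgroup.centralizer (P : Set G),
      ¬ MemLocalIdeal M (orbitIdem N b z) := by
    by_contra hcon
    push Not at hcon
    apply hg'.2.1
    rw [← hconv]
    have h := memLocalIdeal_sum_sub_sum_centralizer hM P hPp
      (fun x => orbitIdem N b x * blockCoeff B (x⁻¹ * g'))
      (fun x => memLocalRing_mul (heO.2 x) (heB.2 _)) (fun r hr x => by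
        show orbitIdem N b (r * x * r⁻¹) * blockCoeff B ((r * x * r⁻¹)⁻¹ * g') = _
        show _ = orbitIdem N b x * blockCoeff B (x⁻¹ * g')
        rw [heO.1, ← heB.1 (x⁻¹ * g') r]
        congr 2
        have hc := mem_centralizer_subgroup_iff.1 hgP r hr
        calc (r * x * r⁻¹)⁻¹ * g' = r * x⁻¹ * (r⁻¹ * g') := by group
          _ = r * x⁻¹ * (g' * r⁻¹) := by
            congr 1
            rw [eq_mul_inv_iff_mul_eq, mul_assoc, ← hc, inv_mul_cancel_left]
          _ = r * (x⁻¹ * g') * r⁻¹ := by group)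
    refine (memLocalIdeal_iff_of_sub h).2 (memLocalIdeal_sum _ fun x _ => ?_)
    split_ifs with hx
    · exact memLocalIdeal_mul_right (hcon x hx) (heB.2 _)
    · exact memLocalIdeal_zero
  have hzN : z ∈ N := by_contra fun h =>
    hze (by rw [orbitIdem_of_notMem N b h]; exact memLocalIdeal_zero)
  rw [orbitIdem, extendByZero_of_mem _ _ hzN] at hze
  have hcl : ∀ θ ∈ conjClosure N b, blockOf M (θ : N → ℂ) ⊆ conjClosure N b := by
    rintro _ ⟨h, θ, hθ, rfl⟩
    rw [← image_blockOf N h θ]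
    rintro _ ⟨ψ, hψ, rfl⟩
    exact ⟨h, ψ, IsPBlock.blockOf_subset hb θ hθ hψ, rfl⟩
  obtain ⟨F, hF, hFsum⟩ := blockCoeff_eq_sum_blocks (M := M) hcl
  -- `P` permutes the blocks in the orbit
  have hmemF : ∀ η ∈ conjClosure N b, blockOf M (η : N → ℂ) ∈ F := fun η hη => by
    by_contra hnot
    have h1 : omega (η : N → ℂ) (blockCoeff (conjClosure N b)) = 1 := by
      rw [omega_blockCoeff, if_pos hη]
    rw [hFsum, omega_sum, Finset.sum_eq_zero] at h1
    · exact zero_ne_one h1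
    intro c hc
    obtain ⟨η', -, rfl⟩ := hF c hc
    rw [omega_blockCoeff, if_neg fun h : η ∈ blockOf M (η' : N → ℂ) =>
      hnot (blockOf_eq_of_sameBlock h ▸ hc)]
  have hsmem : ∀ (r : G) (c : {c // c ∈ F}), conjIrrN N r '' c.1 ∈ F := fun r c => by
    obtain ⟨η, hη, hce⟩ := hF c.1 c.2
    rw [hce, image_blockOf]
    exact hmemF _ ((conjIrrN_mem_conjClosure_iff N b r η).2 hη)
  letI : MulAction P {c // c ∈ F} :=
    { smul := fun r c => ⟨conjIrrN N (r : G)⁻¹ '' c.1, hsmem _ c⟩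
      one_smul := fun c => Subtype.ext (by
        show conjIrrN N ((1 : P) : G)⁻¹ '' c.1 = c.1
        simp only [OneMemClass.coe_one, inv_one]
        rw [show conjIrrN N (1 : G) = id from funext fun θ => Subtype.ext (conjFun_one N _),
          Set.image_id])
      mul_smul := fun r s c => Subtype.ext (by
        show conjIrrN N ((r * s : P) : G)⁻¹ '' c.1 =
          conjIrrN N (r : G)⁻¹ '' (conjIrrN N (s : G)⁻¹ '' c.1)
        rw [Set.image_image]
        refine Set.image_congr fun θ _ => ?_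
        rw [Subgroup.coe_mul, mul_inv_rev, conjIrrN_mul]) }
  have hsum := Cfsg.Agent.Lib.BrauerPairs.memLocalIdeal_sum_sub_sum_fixed hM hPp
    (fun c : {c // c ∈ F} => blockCoeff c.1 ⟨z, hzN⟩)
    (fun c => by
      obtain ⟨η, -, hce⟩ := hF c.1 c.2
      rw [hce]
      exact (isRCentral_blockCoeff hM (isPBlock_blockOf η)).2 _)
    (fun r c => by
      show blockCoeff (conjIrrN N (r : G)⁻¹ '' c.1) ⟨z, hzN⟩ = blockCoeff c.1 ⟨z, hzN⟩
      rw [blockCoeff_image_conjIrrN]
      congr 1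
      refine Subtype.ext ?_
      show (r : G)⁻¹ * z * (r : G)⁻¹⁻¹ = z
      rw [inv_inv, mul_assoc, ← mem_centralizer_subgroup_iff.1 hzP r r.2, inv_mul_cancel_left])
  obtain ⟨⟨c, hcF⟩, hfix, hcz⟩ : ∃ c : {c // c ∈ F}, c ∈ MulAction.fixedPoints P {c // c ∈ F} ∧
      ¬ MemLocalIdeal M (blockCoeff c.1 ⟨z, hzN⟩) := by
    by_contra hcon
    apply hze
    rw [hFsum, Finset.sum_apply, ← Finset.sum_coe_sort]
    refine (memLocalIdeal_iff_of_sub hsum).2 (memLocalIdeal_sum _ fun c _ => ?_)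
    split_ifs with hc
    · by_contra hcz
      exact hcon ⟨c, hc, hcz⟩
    · exact memLocalIdeal_zero
  obtain ⟨_, ⟨h, θ, hθ, rfl⟩, hce⟩ := hF c hcF
  have hc : IsPBlock M c := hce ▸ isPBlock_blockOf _
  refine ⟨c, hc, fun x hx => ⟨by rw [Subgroup.normalizer_eq_top]; exact Subgroup.mem_top x,
    fun χ hχ => ⟨conjIrrN N x⁻¹ χ, ?_, fun k k' hk => ?_⟩⟩, ?_, ?_⟩
  · have h1 : conjIrrN N x⁻¹ '' c = c := congrArg Subtype.val (hfix ⟨x, hx⟩)
    exact h1 ▸ Set.mem_image_of_mem _ hχ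
  · show (χ : N → ℂ) ⟨x⁻¹ * k' * x⁻¹⁻¹, _⟩ = (χ : N → ℂ) k
    refine congrArg _ (Subtype.ext ?_)
    show x⁻¹ * (k' : G) * x⁻¹⁻¹ = k
    rw [hk]; group
  · -- covered
    refine ⟨χ₀, hχ₀, conjIrrN N h θ₀, ?_, ?_⟩
    · rw [hce]
      exact sameBlock_conjFun N (IsPBlock.sameBlock hb hθ hθ₀) h
    · rwa [classInner_restrict_conjIrrN]
  · obtain ⟨W, hW⟩ := exists_isDefectGroup hM hc
    obtain ⟨w, hw, S, hS⟩ := id hW
    have hPN : IsPGroup p ((P ⊓ N).subgroupOf N) :=
      (hPp.to_le inf_le_left).of_equiv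
        (Subgroup.subgroupOfEquivOfLe (inf_le_right : P ⊓ N ≤ N)).symm
    have hle := isConjLE_of_coeff hM hc hw S hPN (h := ⟨z, hzN⟩) (by
      rw [mem_centralizer_subgroup_iff]
      intro r hr
      exact Subtype.ext (mem_centralizer_subgroup_iff.1 hzP r (Subgroup.mem_subgroupOf.1 hr).1))
      hcz
    rw [show sylowSub S = W from hS.symm] at hle
    obtain ⟨a, ha⟩ := hle.exists_eq (by
      rw [IsDefectGroup.card_eq hM hc hW, hce, blockDefect_conj N hb h hθ, hcard])
    have h2 := IsDefectGroup.map_conj hW a⁻¹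
    rwa [← ha, Subgroup.map_map, show ((MulAut.conj a⁻¹).toMonoidHom.comp
      (MulAut.conj a).toMonoidHom) = MonoidHom.id N from MonoidHom.ext fun y => by
        simp [mul_assoc], Subgroup.map_id] at h2

end Cfsg.Agent.Lib.BlockHeights
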