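import Cfsg.Agent.Lib.Blocks.Defect
import Mathlib.LinearAlgebra.Matrix.Rank

/-!
# Blocks of a given defect are separated on the classes of that defect
-/

set_option autoImplicit false
set_option linter.unusedSectionVars false
set_option linter.style.haveILetI false

namespace Cfsg.Agent.Lib.BlockHeights

open Cfsg Cfsg.Agent.Lib.Blocks Cfsg.Agent.Lib.Characters

universe u

variable {G : Type u} [Group G] [Fintype G] {p : ℕ} {M : Ideal AlgInt} [M.IsPrime]

/-- The defect of the class of `g`. -/
noncomputable abbrev classDefect (p : ℕ) (g : G) : ℕ :=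
  (Nat.card (Subgroup.centralizer ({g} : Set G))).factorization p

theorem classDefect_eq_of_units (hM : IsPModular p M) {B B' : Set (IrrCharacter G)}
    (hB : IsPBlock M B) (hB' : IsPBlock M B') {σ : ℕ} (hσ : blockDefect p B = σ)
    (hσ' : blockDefect p B' = σ) {h : G} {χ : IrrCharacter G} (hχ : χ ∈ B')
    (he : ¬ MemLocalIdeal M (blockCoeff B h))
    (hω : ¬ MemLocalIdeal M (centralChar (χ : G → ℂ) h)) :
    ¬ p ∣ orderOf h ∧ classDefect p h = σ := by
  haveI := Fact.mk hM.1
  refine ⟨fun hd => he (by rw [blockCoeff_eq_zero_of_dvd hM hB hd]; exact memLocalIdeal_zero), ?_⟩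
  obtain ⟨g, hg⟩ := exists_isDefectClass hM hB
  obtain ⟨g', hg'⟩ := exists_isDefectClass hM hB'
  obtain ⟨D⟩ : Nonempty (Sylow p (Subgroup.centralizer ({g} : Set G))) := inferInstance
  obtain ⟨D'⟩ : Nonempty (Sylow p (Subgroup.centralizer ({g'} : Set G))) := inferInstance
  obtain ⟨Q⟩ : Nonempty (Sylow p (Subgroup.centralizer ({h} : Set G))) := inferInstance
  have h1 := (isConjLE_of_coeff hM hB hg D (isPGroup_sylowSub Q) (mem_centralizer_sylowSub Q)
    he).card_le
  have h2 := (isConjLE_of_omega hM hB' hg' D' Q hχ hω).card_le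
  rw [IsDefectGroup.card_eq hM hB ⟨g, hg, D, rfl⟩, hσ, card_sylowSub] at h1
  rw [IsDefectGroup.card_eq hM hB' ⟨g', hg', D', rfl⟩, hσ', card_sylowSub] at h2
  exact le_antisymm ((Nat.pow_le_pow_iff_right hM.1.one_lt).1 h1)
    ((Nat.pow_le_pow_iff_right hM.1.one_lt).1 h2)

open Classical in
/-- The separation congruence. -/
theorem sum_classes_congr (hM : IsPModular p M) [Fintype (ConjClasses G)]
    {B B' : Set (IrrCharacter G)} (hB : IsPBlock M B) (hB' : IsPBlock M B') {σ : ℕ}
    (hσ : blockDefect p B = σ) (hσ' : blockDefect p B' = σ) {χ : IrrCharacter G} (hχ : χ ∈ B') :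
    MemLocalIdeal M ((if χ ∈ B then (1 : ℂ) else 0) -
      ∑ C ∈ Finset.univ.filter (fun C : ConjClasses G =>
          ¬ p ∣ orderOf (Quotient.out C) ∧ classDefect p (Quotient.out C) = σ),
        blockCoeff B (Quotient.out C) * centralChar (χ : G → ℂ) (Quotient.out C)) := by
  haveI := Fintype.ofFinite (IrrCharacter G)
  rw [← omega_blockCoeff, omega_eq_sum_classes (irr_isClassFunction χ)
    (isClassFunction_blockCoeff B)]
  rw [← Finset.sum_filter_add_sum_filter_not Finset.univ (fun C : ConjClasses G =>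
      ¬ p ∣ orderOf (Quotient.out C) ∧ classDefect p (Quotient.out C) = σ), add_sub_cancel_left]
  refine memLocalIdeal_sum _ fun C hC => ?_
  by_cases he : MemLocalIdeal M (blockCoeff B (Quotient.out C))
  · exact memLocalIdeal_mul_right he (memLocalRing_centralChar χ _)
  by_cases hω : MemLocalIdeal M (centralChar (χ : G → ℂ) (Quotient.out C))
  · exact memLocalIdeal_mul_left ((isRCentral_blockCoeff hM hB).2 _) hω
  exact absurd (classDefect_eq_of_units hM hB hB' hσ hσ' hχ he hω) (Finset.mem_filter.1 hC).2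

/-- **Separation on the classes of the same defect.** -/
theorem sameBlock_iff_classes (hM : IsPModular p M) {d : ℕ} {χ ψ : IrrCharacter G}
    (hχ : blockDefect p (blockOf M (χ : G → ℂ)) = d)
    (hψ : blockDefect p (blockOf M (ψ : G → ℂ)) = d) :
    SameBlock M (χ : G → ℂ) (ψ : G → ℂ) ↔ ∀ x : G, ¬ p ∣ orderOf x →
      (Nat.card (Subgroup.centralizer ({x} : Set G))).factorization p = d →
      MemLocalIdeal M (centralChar (χ : G → ℂ) x - centralChar (ψ : G → ℂ) x) := by
  classical
  refine ⟨fun h x _ _ => h x, fun h => ?_⟩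
  haveI : Finite (ConjClasses G) := Finite.of_surjective ConjClasses.mk Quotient.mk_surjective
  haveI := Fintype.ofFinite (ConjClasses G)
  by_contra hne
  have h1 := sum_classes_congr hM (isPBlock_blockOf (M := M) χ) (isPBlock_blockOf (M := M) χ)
    hχ hχ (self_mem_blockOf χ)
  have h2 := sum_classes_congr hM (isPBlock_blockOf (M := M) χ) (isPBlock_blockOf (M := M) ψ)
    hχ hψ (self_mem_blockOf ψ)
  rw [if_pos (self_mem_blockOf χ)] at h1
  rw [if_neg (show ψ ∉ blockOf M (χ : G → ℂ) from hne), zero_sub] at h2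
  apply not_memLocalIdeal_one (M := M)
  have h3 := memLocalIdeal_sum (M := M) (Finset.univ.filter (fun C : ConjClasses G =>
      ¬ p ∣ orderOf (Quotient.out C) ∧ classDefect p (Quotient.out C) = d))
    (f := fun C => blockCoeff (blockOf M (χ : G → ℂ)) (Quotient.out C) *
      (centralChar (χ : G → ℂ) (Quotient.out C) - centralChar (ψ : G → ℂ) (Quotient.out C)))
    fun C hC => memLocalIdeal_mul_left
      ((isRCentral_blockCoeff hM (isPBlock_blockOf χ)).2 _)
      (h _ (Finset.mem_filter.1 hC).2.1 (Finset.mem_filter.1 hC).2.2)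
  simp only [mul_sub, Finset.sum_sub_distrib] at h3
  have h4 := memLocalIdeal_add (memLocalIdeal_sub h1 h2) h3
  ring_nf at h4
  exact h4

theorem det_ne_zero_of_congr_one {ι : Type*} [Fintype ι] [DecidableEq ι]
    (A : Matrix ι ι ℂ)
    (h : ∀ i j, MemLocalIdeal M ((if i = j then (1 : ℂ) else 0) - A i j)) : A.det ≠ 0 := by
  let A' : Matrix ι ι (locSubring M) := Matrix.of fun i j => ⟨A i j, by
    have h1 : MemLocalRing M ((if i = j then (1 : ℂ) else 0)) := by
      split_ifs
      · exact memLocalRing_one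
      · exact memLocalRing_zero
    simpa using memLocalRing_sub h1 (memLocalIdeal_mem_ring (h i j))⟩
  have h1 : A'.map (red M) = 1 := by
    ext i j
    have hij : (((if i = j then 1 else 0) - A' i j : locSubring M) : ℂ) =
        (if i = j then (1 : ℂ) else 0) - A i j := by
      split_ifs <;> simp [A']
    have h2 : red M ((if i = j then 1 else 0) - A' i j) = 0 := by
      rw [red_eq_zero_iff, hij]; exact h i j
    rw [map_sub, sub_eq_zero] at h2
    rw [Matrix.map_apply, ← h2, Matrix.one_apply]
    split_ifs <;> simp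
  have h2 : A = A'.map (locSubring M).subtype := by ext i j; rfl
  intro h0
  rw [h2, ← RingHom.mapMatrix_apply, ← RingHom.map_det, map_eq_zero_iff _
    Subtype.val_injective] at h0
  have h3 := congrArg (red M) h0
  rw [RingHom.map_det, RingHom.mapMatrix_apply, h1, Matrix.det_one, map_zero] at h3
  exact one_ne_zero h3

/-- **There are no more blocks of defect `σ` than regular classes of defect `σ`.** -/
theorem card_blocks_le_classes (hM : IsPModular p M) (σ : ℕ) :
    Nat.card {B : Set (IrrCharacter G) // IsPBlock M B ∧ blockDefect p B = σ} ≤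
      Nat.card {C : ConjClasses G // ∃ g : G, ConjClasses.mk g = C ∧ ¬ p ∣ orderOf g ∧
        (Nat.card (Subgroup.centralizer ({g} : Set G))).factorization p = σ} := by
  classical
  haveI : Finite (ConjClasses G) := Finite.of_surjective ConjClasses.mk Quotient.mk_surjective
  haveI := Fintype.ofFinite (ConjClasses G)
  haveI := Fintype.ofFinite (IrrCharacter G)
  set S := Finset.univ.filter (fun C : ConjClasses G =>
    ¬ p ∣ orderOf (Quotient.out C) ∧ classDefect p (Quotient.out C) = σ) with hS
  let ι := {B : Set (IrrCharacter G) // IsPBlock M B ∧ blockDefect p B = σ}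
  haveI : Fintype ι := Fintype.ofFinite _
  choose rep hrep using fun B : ι => IsPBlock.nonempty B.2.1
  let E : Matrix ι S ℂ := Matrix.of fun B C => blockCoeff B.1 (Quotient.out C.1)
  let W : Matrix S ι ℂ := Matrix.of fun C B =>
    centralChar (rep B : G → ℂ) (Quotient.out C.1)
  have hdet : (E * W).det ≠ 0 := by
    refine det_ne_zero_of_congr_one (M := M) _ fun B B' => ?_
    have h := sum_classes_congr hM B.2.1 B'.2.1 B.2.2 B'.2.2 (hrep B')
    have hiff : rep B' ∈ B.1 ↔ B = B' := ⟨fun h => Subtype.ext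
      (IsPBlock.eq_of_mem B.2.1 B'.2.1 h (hrep B')), fun h => h ▸ hrep B'⟩
    rw [if_congr hiff rfl rfl, ← Finset.sum_coe_sort] at h
    simpa only [Matrix.mul_apply, E, W, Matrix.of_apply] using h
  have h1 : (E * W).rank = Fintype.card ι :=
    Matrix.rank_of_isUnit _ ((Matrix.isUnit_iff_isUnit_det _).2 (isUnit_iff_ne_zero.2 hdet))
  have h2 : (E * W).rank ≤ Fintype.card S :=
    (Matrix.rank_mul_le_right E W).trans (Matrix.rank_le_card_height W)
  show Nat.card ι ≤ _
  rw [Nat.card_eq_fintype_card, ← h1]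
  refine h2.trans ?_
  rw [← Nat.card_eq_fintype_card]
  refine Nat.card_le_card_of_injective (fun C : S => ⟨C.1, Quotient.out C.1,
    Quotient.out_eq C.1, (Finset.mem_filter.1 C.2).2.1, (Finset.mem_filter.1 C.2).2.2⟩)
    fun a b hab => Subtype.ext (congrArg Subtype.val hab :)

end Cfsg.Agent.Lib.BlockHeights
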