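import Cfsg.Agent.Lib.Blocks.Defect
import Cfsg.Agent.Lib.BlockHeights.CharTools
import Cfsg.Agent.Lib.BlockHeights.ClassExpand
import Cfsg.Agent.Lib.Characters.Kernel

/-!
# Height zero characters and linear characters of the defect group
-/

set_option autoImplicit false
set_option linter.unusedSectionVars false
set_option linter.style.haveILetI false

namespace Cfsg.Agent.Lib.BlockHeights

open Cfsg Cfsg.Agent.Lib.Blocks Cfsg.Agent.Lib.Characters
open scoped ComplexConjugate

universe u

variable {G : Type u} [Group G] [Fintype G] {p : ℕ} {M : Ideal AlgInt} [M.IsPrime]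

/-- The multiplicities of `χ (d * g)` in the irreducible characters of `D` are integral when
`g` centralises `D`. -/
theorem isIntegral_classInner_translate {χ : G → ℂ} (hχ : IsCharacter G χ) (D : Subgroup G)
    [Fintype D] {g : G} (hg : ∀ d ∈ D, Commute g d) {ψ : D → ℂ} (hψ : IsCharacter D ψ) :
    IsIntegral ℤ (classInner (fun d : D => χ ((d : G) * g)) ψ) := by
  classical
  let Z := Subgroup.zpowers g
  let m : D × Z →* G := MonoidHom.noncommCoprod D.subtype Z.subtype fun d z => by
    obtain ⟨i, hi⟩ := Subgroup.mem_zpowers_iff.1 z.2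
    show Commute (d : G) (z : G)
    rw [← hi]
    exact ((hg d d.2).zpow_left i).symm
  have hφ : IsCharacter (D × Z) ((χ ∘ m) * ((fun d => conj (ψ d)) ∘ MonoidHom.fst D Z)) :=
    IsCharacter.mul (IsCharacter.comp hχ m)
      (IsCharacter.comp (IsCharacter.conjugate hψ) (MonoidHom.fst D Z))
  let P : Subgroup (D × Z) := (MonoidHom.inl D Z).range
  let g₀ : Z := ⟨g, Subgroup.mem_zpowers g⟩
  haveI := Fintype.ofFinite P
  have h := isIntegral_avg hφ P (1, g₀) fun w hw => by
    obtain ⟨d, rfl⟩ := hw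
    show _ = _
    ext <;> simp
  let e : D ≃ P := (MonoidHom.ofInjective (f := MonoidHom.inl D Z) fun a b h => by
    simpa using h).toEquiv
  convert h using 1
  rw [classInner, Nat.card_congr e]
  congr 1
  refine Fintype.sum_equiv e _ _ fun d => ?_
  have he : (((e d : P) : D × Z)) = (d, 1) := rfl
  rw [Pi.mul_apply, Function.comp_apply, Function.comp_apply, he]
  simp [m, g₀]

/-- A height zero character over `lam` yields an extension of `lam` to a defect group. -/
theorem exists_linear_extension (hM : IsPModular p M) {B : Set (IrrCharacter G)}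
    (hB : IsPBlock M B) {D : Subgroup G} (hD : IsDefectGroup p M B D) {Z : Subgroup G}
    (hZD : Z ≤ D) (lam : Z →* ℂˣ) {χ : IrrCharacter G} (hχ : χ ∈ B)
    (hover : ∀ (z : Z) (x : G), (χ : G → ℂ) ((z : G) * x) = (lam z : ℂ) * (χ : G → ℂ) x)
    (h0 : blockHeight p B (χ : G → ℂ) = 0) :
    ∃ μ : D →* ℂˣ, ∀ z : Z, μ ⟨(z : G), hZD z.2⟩ = lam z := by
  classical
  haveI := Fact.mk hM.1
  obtain ⟨g, hg, hP⟩ := hD
  have hunit := not_memLocalIdeal_apply_of_height_zero hM hB hg hχ h0
  obtain ⟨P, rfl⟩ := hP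
  set D := (P : Subgroup (Subgroup.centralizer ({g} : Set G))).map
    (Subgroup.centralizer ({g} : Set G)).subtype with hD
  have hgD : ∀ d ∈ D, Commute g d := by
    rintro _ ⟨w, -, rfl⟩
    exact (Subgroup.mem_centralizer_singleton_iff.1 w.2).symm
  have hDp : IsPGroup p D := P.2.map _
  haveI := Fintype.ofFinite D
  haveI := Fintype.ofFinite (IrrCharacter D)
  let f : D → ℂ := fun d => (χ : G → ℂ) ((d : G) * g)
  have hfcl : IsClassFunction D f := by
    intro x h
    show (χ : G → ℂ) (((h * x * h⁻¹ : D) : G) * g) = (χ : G → ℂ) ((x : G) * g)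
    rw [show (((h * x * h⁻¹ : D) : G) * g) = (h : G) * ((x : G) * g) * (h : G)⁻¹ by
      have hc : Commute g ((h : G)⁻¹) := (hgD _ h.2).inv_right
      simp only [Subgroup.coe_mul, InvMemClass.coe_inv, mul_assoc, hc.eq]]
    exact irr_isClassFunction χ _ _
  by_contra hcon
  apply hunit
  have h1 : (χ : G → ℂ) g =
      ∑ ψ : IrrCharacter D, classInner f (ψ : D → ℂ) * (ψ : D → ℂ) 1 := by
    have := congrFun (eq_sum_classInner hfcl) 1
    simpa [f] using this
  rw [h1]
  refine memLocalIdeal_sum _ fun ψ _ => ?_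
  have hR : MemLocalRing M (classInner f (ψ : D → ℂ)) := memLocalRing_of_isIntegral'
    (isIntegral_classInner_translate (irr_isCharacter χ) D hgD (irr_isCharacter ψ))
  by_cases hdeg : p ∣ charDegree (ψ : D → ℂ)
  · refine memLocalIdeal_mul_left hR ?_
    rw [irr_apply_one, memLocalIdeal_natCast_iff hM]
    exact hdeg
  have hψ1 : (ψ : D → ℂ) 1 = 1 := by
    obtain ⟨i, hi⟩ := hDp.exists_card_eq
    have hdvd := charDegree_dvd_card ψ
    rw [hi] at hdvd
    obtain ⟨j, -, hj⟩ := (Nat.dvd_prime_pow hM.1).1 hdvd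
    rcases Nat.eq_zero_or_pos j with rfl | hjpos
    · rw [irr_apply_one, hj]; simp
    · exact absurd (hj ▸ dvd_pow_self p hjpos.ne') hdeg
  obtain ⟨μ, hμ⟩ := IsCharacter.exists_hom_of_apply_one (irr_isCharacter ψ) hψ1
  suffices h0 : classInner f (ψ : D → ℂ) = 0 by
    rw [h0, zero_mul]; exact memLocalIdeal_zero
  by_contra hne
  apply hcon
  have hμu : ∀ z : Z, (μ ⟨(z : G), hZD z.2⟩ : ℂ) = (lam z : ℂ) := by
    intro z
    set zD : D := ⟨(z : G), hZD z.2⟩ with hz
    have hshift : classInner f (ψ : D → ℂ) =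
        (lam z : ℂ) * conj (μ zD : ℂ) * classInner f (ψ : D → ℂ) := by
      conv_lhs => rw [classInner]
      rw [classInner, mul_left_comm, Finset.mul_sum (a := (lam z : ℂ) * conj (μ zD : ℂ))]
      congr 1
      refine (Fintype.sum_equiv (Equiv.mulLeft zD) _ _ fun d => ?_).symm
      simp only [Equiv.coe_mulLeft, f, hμ, map_mul, Units.val_mul, Subgroup.coe_mul, mul_assoc]
      rw [hz, hover z]
      ring
    have h2 : (lam z : ℂ) * conj (μ zD : ℂ) = 1 := by
      have := hshift
      rw [eq_comm, mul_left_eq_self₀] at this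
      exact this.resolve_right hne
    have hnorm : conj (μ zD : ℂ) * (μ zD : ℂ) = 1 := by
      rw [show (μ zD : ℂ) = (ψ : D → ℂ) zD from (congrFun hμ zD).symm,
        ← IsCharacter.apply_inv (irr_isCharacter ψ), hμ]
      rw [← Units.val_mul, ← map_mul, inv_mul_cancel, map_one, Units.val_one]
    calc (μ zD : ℂ) = (lam z : ℂ) * conj (μ zD : ℂ) * (μ zD : ℂ) := by rw [h2, one_mul]
      _ = (lam z : ℂ) := by rw [mul_assoc, hnorm, mul_one]
  exact ⟨μ, fun z => Units.ext (hμu z)⟩

end Cfsg.Agent.Lib.BlockHeights
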