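import Cfsg.Agent.Lib.Characters.Kernel
import Cfsg.Agent.Lib.Characters.Clifford
import Cfsg.Agent.Lib.BlockHeights.CharTools

/-!
# Two extensions of an irreducible character differ by a linear character
-/

set_option autoImplicit false
set_option linter.unusedSectionVars false
set_option linter.style.haveILetI false

namespace Cfsg.Agent.Lib.BlockHeights

open Cfsg Cfsg.Agent.Lib.Characters
open scoped ComplexConjugate

universe u

variable {G : Type u} [Group G] [Fintype G]

theorem conj_unitsHom_mul (lam : G →* ℂˣ) (g : G) : conj (lam g : ℂ) * (lam g : ℂ) = 1 := by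
  have h := IsCharacter.apply_inv
    (IsIrrCharacter.isCharacter (isIrrCharacter_unitsHom lam)) g
  rw [← h, ← Units.val_mul, ← map_mul, inv_mul_cancel, map_one, Units.val_one]

/-- A twist of an irreducible character by a linear character is irreducible. -/
theorem isIrrCharacter_mul_unitsHom (χ : IrrCharacter G) (lam : G →* ℂˣ) :
    IsIrrCharacter G (fun g => (χ : G → ℂ) g * (lam g : ℂ)) := by
  have hch : IsCharacter G (fun g => (χ : G → ℂ) g * (lam g : ℂ)) :=
    IsCharacter.mul (irr_isCharacter χ) (IsIrrCharacter.isCharacter (isIrrCharacter_unitsHom lam))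
  rw [IsCharacter.isIrr_iff hch, ← IsIrrCharacter.classInner_self χ.2, classInner, classInner]
  congr 1
  refine Finset.sum_congr rfl fun g _ => ?_
  rw [map_mul]
  linear_combination ((χ : G → ℂ) g * conj ((χ : G → ℂ) g)) * conj_unitsHom_mul lam g

/-- The twist as an element of the subtype. -/
noncomputable def twistIrr (χ : IrrCharacter G) (lam : G →* ℂˣ) : IrrCharacter G :=
  ⟨_, isIrrCharacter_mul_unitsHom χ lam⟩

theorem twistIrr_apply (χ : IrrCharacter G) (lam : G →* ℂˣ) (g : G) :
    (twistIrr χ lam : G → ℂ) g = (χ : G → ℂ) g * (lam g : ℂ) := rfl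

/-- **Two extensions differ by a linear character trivial on the subgroup.** -/
theorem exists_twist_of_restrict_eq (N : Subgroup G) [N.Normal] {η η' : IrrCharacter G}
    {θ : N → ℂ} (hθ : IsIrrCharacter N θ) (h : ∀ n : N, (η : G → ℂ) n = θ n)
    (h' : ∀ n : N, (η' : G → ℂ) n = θ n) :
    ∃ lam : G →* ℂˣ, (∀ n ∈ N, lam n = 1) ∧ twistIrr η lam = η' := by
  classical
  haveI := Fintype.ofFinite N
  haveI := Fintype.ofFinite (IrrCharacter G)
  let Φ : G → ℂ := fun g => (η' : G → ℂ) g * conj ((η : G → ℂ) g)
  have hΦ : IsCharacter G Φ :=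
    IsCharacter.mul (irr_isCharacter η') (IsCharacter.conjugate (irr_isCharacter η))
  have hone : classInner (fun n : N => Φ n) (fun _ : N => (1 : ℂ)) = 1 := by
    refine Eq.trans ?_ (IsIrrCharacter.classInner_self hθ)
    unfold classInner
    congr 1
    exact Finset.sum_congr rfl fun n _ => by simp only [Φ, h, h', map_one, mul_one]
  obtain ⟨m, hm, -⟩ := IsCharacter.exists_nat_decomp hΦ
  have hres : (fun n : N => Φ n) =
      ∑ χ : IrrCharacter G, (m χ : ℂ) • fun n : N => (χ : G → ℂ) n := by
    funext n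
    conv_lhs => rw [hm]
    simp [Finset.sum_apply]
  rw [hres, classInner_sum_left] at hone
  obtain ⟨χ, -, hχ⟩ : ∃ χ ∈ (Finset.univ : Finset (IrrCharacter G)),
      classInner ((m χ : ℂ) • fun n : N => (χ : G → ℂ) n) (fun _ : N => (1 : ℂ)) ≠ 0 := by
    refine Finset.exists_ne_zero_of_sum_ne_zero ?_
    rw [hone]; exact one_ne_zero
  rw [classInner_smul_left] at hχ
  have hmχ : m χ ≠ 0 := fun h0 => hχ (by simp [h0])
  have hc : classInner (fun n : N => (χ : G → ℂ) n) (fun _ : N => (1 : ℂ)) ≠ 0 :=
    fun h0 => hχ (by rw [h0, mul_zero])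
  have hkerN := restrict_eq_smul_of_invariant N χ.2 (isIrrCharacter_one (G := N))
    (fun g => funext fun n => rfl) hc
  have hval : ∀ n : N, (χ : G → ℂ) n = (χ : G → ℂ) 1 := by
    intro n
    have e1 := congrFun hkerN n
    have e2 := congrFun hkerN 1
    simp only [Pi.smul_apply, smul_eq_mul, OneMemClass.coe_one] at e1 e2
    rw [e1, e2]
  -- the degree is one
  have hnn : ∀ ψ : IrrCharacter G, ∃ k : ℕ,
      classInner ((m ψ : ℂ) • fun n : N => (ψ : G → ℂ) n) (fun _ : N => (1 : ℂ)) = (k : ℂ) := by
    intro ψ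
    obtain ⟨k, hk⟩ := IsCharacter.exists_classInner_nat
      (IsCharacter.restrict (irr_isCharacter ψ) N) (isCharacter_one (G := N))
    exact ⟨m ψ * k, by rw [classInner_smul_left, hk]; push_cast; ring⟩
  choose k hk using hnn
  have hsum : ∑ ψ : IrrCharacter G, k ψ = 1 := by
    simp only [hk] at hone
    exact_mod_cast hone
  have hkχ : k χ = m χ * charDegree (χ : G → ℂ) := by
    have e : classInner (fun n : N => (χ : G → ℂ) n) (fun _ : N => (1 : ℂ)) =
        (χ : G → ℂ) 1 := by
      rw [show (fun n : N => (χ : G → ℂ) n) = (χ : G → ℂ) 1 • fun _ : N => (1 : ℂ) from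
        funext fun n => by simp [hval n], classInner_smul_left,
        IsIrrCharacter.classInner_self (isIrrCharacter_one (G := N)), mul_one]
    have := hk χ
    rw [classInner_smul_left, e, irr_apply_one] at this
    exact_mod_cast this.symm
  have hle : k χ ≤ 1 := by
    rw [← hsum]
    exact Finset.single_le_sum (fun ψ _ => Nat.zero_le _) (Finset.mem_univ χ)
  have hdeg : charDegree (χ : G → ℂ) = 1 ∧ m χ = 1 := by
    have h1 : 0 < m χ := Nat.pos_of_ne_zero hmχ
    have h2 := charDegree_irr_pos χ
    have h3 : 1 ≤ m χ * charDegree (χ : G → ℂ) := Nat.one_le_iff_ne_zero.2 (by positivity)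
    have h4 : m χ * charDegree (χ : G → ℂ) = 1 := by omega
    exact ⟨Nat.eq_one_of_mul_eq_one_left h4, Nat.eq_one_of_mul_eq_one_right h4⟩
  obtain ⟨lam, hlam⟩ := IsCharacter.exists_hom_of_apply_one (irr_isCharacter χ)
    (by rw [irr_apply_one, hdeg.1, Nat.cast_one])
  refine ⟨lam, fun n hn => Units.ext ?_, ?_⟩
  · have := hval ⟨n, hn⟩
    simp only [hlam, map_one] at this
    simpa using this
  · by_contra hne
    have h0 := classInner_irr η' (twistIrr η lam)
    rw [if_neg fun e => hne e.symm] at h0
    have h1 : classInner Φ (χ : G → ℂ) = classInner (η' : G → ℂ) (twistIrr η lam : G → ℂ) := by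
      rw [classInner, classInner]
      congr 1
      refine Finset.sum_congr rfl fun g _ => ?_
      rw [twistIrr_apply, hlam, map_mul]
      ring
    rw [h0, hm, classInner_irr_sum, hdeg.2] at h1
    exact (one_ne_zero : (1 : ℂ) ≠ 0) (by simpa using h1)

end Cfsg.Agent.Lib.BlockHeights
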