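import Cfsg.Agent.Lib.BlockHeights.CharTools
import Mathlib.NumberTheory.Cyclotomic.Basic
import Mathlib.FieldTheory.Galois.Basic
import Mathlib.RingTheory.RootsOfUnity.Complex
import Mathlib.Analysis.MeanInequalities

/-!
The Galois action on character values, and consequences: invariant products are rational
integers, so nonzero values over an invariant set have mean square at least one.
-/

set_option autoImplicit false

namespace Cfsg.Agent.Lib.BlockHeights

open Cfsg Cfsg.Agent.Lib.Characters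
open scoped ComplexConjugate

universe u

/-- The standard primitive `n`-th root of unity. -/
noncomputable def zeta (n : ℕ) : ℂ := Complex.exp (2 * Real.pi * Complex.I / n)

theorem isPrimitiveRoot_zeta (n : ℕ) [NeZero n] : IsPrimitiveRoot (zeta n) n :=
  Complex.isPrimitiveRoot_exp n (NeZero.ne n)

/-- The cyclotomic field inside `ℂ`. -/
noncomputable abbrev cycField (n : ℕ) : IntermediateField ℚ ℂ :=
  IntermediateField.adjoin ℚ {zeta n}

theorem isCyclotomic_cycField (n : ℕ) [NeZero n] :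
    IsCyclotomicExtension {n} ℚ (cycField n) := by
  have halg : IsAlgebraic ℚ (zeta n) :=
    ((isPrimitiveRoot_zeta n).isIntegral (NeZero.pos n)).tower_top.isAlgebraic
  change IsCyclotomicExtension {n} ℚ (cycField n).toSubalgebra
  rw [IntermediateField.adjoin_simple_toSubalgebra_of_isAlgebraic halg]
  exact (isPrimitiveRoot_zeta n).adjoin_isCyclotomicExtension ℚ

theorem mem_cycField_of_pow_eq_one {n : ℕ} [NeZero n] {z : ℂ} (hz : z ^ n = 1) :
    z ∈ cycField n := by
  obtain ⟨i, _, hi⟩ := (isPrimitiveRoot_zeta n).eq_pow_of_pow_eq_one hz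
  rw [← hi]
  exact pow_mem (IntermediateField.mem_adjoin_simple_self ℚ _) i

/-- An automorphism of the cyclotomic field raises roots of unity to a fixed coprime power. -/
theorem exists_galExp {n : ℕ} [NeZero n] (σ : cycField n ≃ₐ[ℚ] cycField n) :
    ∃ k : ℕ, Nat.Coprime k n ∧ ∀ z : cycField n, (z : ℂ) ^ n = 1 → σ z = z ^ k := by
  set ζ : cycField n := ⟨zeta n, IntermediateField.mem_adjoin_simple_self ℚ _⟩ with hζdef
  have hζ : IsPrimitiveRoot ζ n :=
    IsPrimitiveRoot.of_map_of_injective (f := (cycField n).val)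
      (by simpa [hζdef] using isPrimitiveRoot_zeta n) (cycField n).val.injective
  have hσ : IsPrimitiveRoot (σ ζ) n := hζ.map_of_injective σ.injective
  obtain ⟨k, _, hkn, hk⟩ := (hζ.isPrimitiveRoot_iff).mp hσ
  refine ⟨k, hkn, fun z hz => ?_⟩
  have hz' : z ^ n = 1 := Subtype.ext (by simpa using hz)
  obtain ⟨i, _, rfl⟩ := hζ.eq_pow_of_pow_eq_one hz'
  rw [map_pow, ← hk, ← pow_mul, ← pow_mul, mul_comm]

variable {G : Type u} [Group G] [Finite G]

theorem apply_mem_cycField [NeZero (Nat.card G)] {χ : G → ℂ} (hχ : IsCharacter G χ) (g : G) :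
    χ g ∈ cycField (Nat.card G) := by
  obtain ⟨ι, hι, μ, hμ, h⟩ := exists_eigen_sum hχ g
  have := h 1
  simp only [pow_one] at this
  rw [this]
  refine sum_mem fun i _ => mem_cycField_of_pow_eq_one ?_
  obtain ⟨c, hc⟩ := orderOf_dvd_natCard g
  rw [hc, pow_mul, hμ i, one_pow]

/-- The Galois action on character values is `g ↦ g ^ k` for one `k` coprime to `|G|`. -/
theorem exists_galPow [NeZero (Nat.card G)]
    (σ : cycField (Nat.card G) ≃ₐ[ℚ] cycField (Nat.card G)) :
    ∃ k : ℕ, Nat.Coprime k (Nat.card G) ∧ ∀ (χ : G → ℂ) (hχ : IsCharacter G χ) (g : G),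
      σ ⟨χ g, apply_mem_cycField hχ g⟩ = ⟨χ (g ^ k), apply_mem_cycField hχ (g ^ k)⟩ := by
  obtain ⟨k, hk, hσ⟩ := exists_galExp σ
  refine ⟨k, hk, fun χ hχ g => ?_⟩
  obtain ⟨ι, hι, μ, hμ, h⟩ := exists_eigen_sum hχ g
  obtain ⟨c, hc⟩ := orderOf_dvd_natCard g
  have hμn : ∀ i, μ i ^ Nat.card G = 1 := fun i => by rw [hc, pow_mul, hμ i, one_pow]
  let ν : ι → cycField (Nat.card G) := fun i => ⟨μ i, mem_cycField_of_pow_eq_one (hμn i)⟩
  have h1 : (⟨χ g, apply_mem_cycField hχ g⟩ : cycField (Nat.card G)) = ∑ i, ν i := by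
    apply Subtype.ext
    have := h 1
    simp only [pow_one] at this
    simpa [ν] using this
  rw [h1, map_sum]
  apply Subtype.ext
  simp only [h k]
  rw [AddSubmonoidClass.coe_finsetSum]
  refine Finset.sum_congr rfl fun i _ => ?_
  rw [hσ (ν i) (hμn i)]
  simp [ν]

/-- An element of the cyclotomic field fixed by all automorphisms is rational. -/
theorem exists_rat_of_fixed {n : ℕ} [NeZero n] {x : cycField n}
    (h : ∀ σ : cycField n ≃ₐ[ℚ] cycField n, σ x = x) : ∃ q : ℚ, (x : ℂ) = q := by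
  haveI := isCyclotomic_cycField n
  haveI : FiniteDimensional ℚ (cycField n) := IsCyclotomicExtension.finiteDimensional {n} ℚ _
  haveI : IsGalois ℚ (cycField n) := IsCyclotomicExtension.isGalois {n} ℚ _
  obtain ⟨q, hq⟩ := (IsGalois.mem_range_algebraMap_iff_fixed x).mpr h
  exact ⟨q, by rw [← hq]; simp⟩

/-- Closure of a finite set under coprime powers. -/
def PowClosed (S : Finset G) : Prop :=
  ∀ g ∈ S, ∀ k : ℕ, Nat.Coprime k (Nat.card G) → g ^ k ∈ S

omit [Finite G] in
theorem pow_coprime_injective {k : ℕ} (hk : Nat.Coprime k (Nat.card G)) :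
    Function.Injective fun g : G => g ^ k :=
  (powCoprime (G := G) hk.symm).injective

/-- The product of a character over a power-closed set is a rational integer. -/
theorem exists_int_prod {χ : G → ℂ} (hχ : IsCharacter G χ) (S : Finset G) (hS : PowClosed S) :
    ∃ z : ℤ, ∏ g ∈ S, χ g = (z : ℂ) := by
  haveI : NeZero (Nat.card G) := ⟨Nat.card_pos.ne'⟩
  classical
  let v : G → cycField (Nat.card G) := fun g => ⟨χ g, apply_mem_cycField hχ g⟩
  have hfix : ∀ σ : cycField (Nat.card G) ≃ₐ[ℚ] cycField (Nat.card G),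
      σ (∏ g ∈ S, v g) = ∏ g ∈ S, v g := by
    intro σ
    obtain ⟨k, hk, hσ⟩ := exists_galPow (G := G) σ
    rw [map_prod]
    have him : S.image (fun g => g ^ k) = S := by
      refine Finset.eq_of_subset_of_card_le ?_ ?_
      · intro x hx
        obtain ⟨g, hg, rfl⟩ := Finset.mem_image.mp hx
        exact hS g hg k hk
      · rw [Finset.card_image_of_injective _ (pow_coprime_injective hk)]
    conv_rhs => rw [← him, Finset.prod_image fun x _ y _ h => pow_coprime_injective hk h]
    exact Finset.prod_congr rfl fun g _ => hσ χ hχ g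
  obtain ⟨q, hq⟩ := exists_rat_of_fixed hfix
  have hq' : ∏ g ∈ S, χ g = (q : ℂ) := by
    rw [← hq]; push_cast; rfl
  have hint : IsIntegral ℤ (∏ g ∈ S, χ g) :=
    IsIntegral.prod _ fun g _ => IsCharacter.isIntegral hχ g
  obtain ⟨z, rfl⟩ := exists_int_of_isIntegral_rat (q := q) (hq' ▸ hint)
  exact ⟨z, by rw [hq']; simp⟩

/-- Mean square at least one on a power-closed set of nonzero values. -/
theorem card_le_sum_normSq {χ : G → ℂ} (hχ : IsCharacter G χ) (S : Finset G) (hS : PowClosed S)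
    (hne : ∀ g ∈ S, χ g ≠ 0) : (S.card : ℝ) ≤ ∑ g ∈ S, ‖χ g‖ ^ 2 := by
  rcases S.eq_empty_or_nonempty with h | h
  · simp [h]
  obtain ⟨z, hz⟩ := exists_int_prod hχ S hS
  have hz0 : z ≠ 0 := by
    rintro rfl
    simp only [Int.cast_zero, Finset.prod_eq_zero_iff] at hz
    obtain ⟨g, hg, h0⟩ := hz
    exact hne g hg h0
  have h1 : (1 : ℝ) ≤ ∏ g ∈ S, ‖χ g‖ ^ 2 := by
    rw [Finset.prod_pow, ← norm_prod, hz]
    refine one_le_pow₀ ?_
    rw [Complex.norm_intCast]
    exact_mod_cast Int.one_le_abs hz0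
  have hc : (0 : ℝ) < S.card := by exact_mod_cast h.card_pos
  have amgm := Real.geom_mean_le_arith_mean S (fun _ => (1 : ℝ)) (fun g => ‖χ g‖ ^ 2)
    (fun _ _ => zero_le_one) (by simpa using h.card_pos) (fun g _ => by positivity)
  simp only [Real.rpow_one, Finset.sum_const, nsmul_eq_mul, mul_one, one_mul] at amgm
  have h2 : (1 : ℝ) ≤ (∏ g ∈ S, ‖χ g‖ ^ 2) ^ ((S.card : ℝ)⁻¹) :=
    Real.one_le_rpow h1 (by positivity)
  have h3 := h2.trans amgm
  rwa [le_div_iff₀ hc, one_mul] at h3

end Cfsg.Agent.Lib.BlockHeights
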