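import Cfsg.Agent.Lib.BlockHeights.Galois

/-!
# Nonzero algebraic integers of a cyclotomic field with rational square sum
-/

set_option autoImplicit false
set_option linter.unusedSectionVars false
set_option linter.style.haveILetI false

namespace Cfsg.Agent.Lib.BlockHeights

open Cfsg Cfsg.Agent.Lib.Characters
open scoped ComplexConjugate

variable {n : ℕ} [NeZero n]

/-- Complex conjugation commutes with the automorphisms of the cyclotomic field. -/
theorem exists_conj_mem_comm (σ : cycField n ≃ₐ[ℚ] cycField n) {z : ℂ} (hz : z ∈ cycField n) :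
    ∃ hz' : conj z ∈ cycField n, ((σ ⟨conj z, hz'⟩ : cycField n) : ℂ) =
      conj ((σ ⟨z, hz⟩ : cycField n) : ℂ) := by
  obtain ⟨k, -, hσ⟩ := exists_galExp σ
  induction hz using IntermediateField.adjoin_induction with
  | mem x hx =>
    rw [Set.mem_singleton_iff] at hx
    have h1 : x ^ n = 1 := by rw [hx]; exact (isPrimitiveRoot_zeta n).pow_eq_one
    have h2 : conj x ^ n = 1 := by rw [← map_pow, h1, map_one]
    refine ⟨mem_cycField_of_pow_eq_one h2, ?_⟩
    rw [hσ ⟨conj x, _⟩ h2, hσ ⟨x, _⟩ h1]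
    simp
  | algebraMap q =>
    have hq : conj ((algebraMap ℚ ℂ) q) = (algebraMap ℚ ℂ) q := by simp
    refine ⟨hq.symm ▸ (cycField n).algebraMap_mem q, ?_⟩
    have h1 : ∀ h : (algebraMap ℚ ℂ) q ∈ cycField n,
        σ ⟨(algebraMap ℚ ℂ) q, h⟩ = algebraMap ℚ (cycField n) q := fun h => σ.commutes q
    simp only [hq, h1]
    simp
  | add x y hx hy ihx ihy =>
    obtain ⟨hx', ex⟩ := ihx
    obtain ⟨hy', ey⟩ := ihy
    refine ⟨by rw [map_add]; exact add_mem hx' hy', ?_⟩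
    have e1 : ∀ h, (⟨conj (x + y), h⟩ : cycField n) = ⟨conj x, hx'⟩ + ⟨conj y, hy'⟩ := fun h =>
      Subtype.ext (map_add _ x y)
    have e2 : ∀ h, (⟨x + y, h⟩ : cycField n) = ⟨x, hx⟩ + ⟨y, hy⟩ := fun h => Subtype.ext rfl
    rw [e1, e2, map_add, map_add, AddMemClass.coe_add, AddMemClass.coe_add, map_add, ex, ey]
  | inv x hx ih =>
    obtain ⟨hx', ex⟩ := ih
    refine ⟨by rw [map_inv₀]; exact inv_mem hx', ?_⟩
    have e1 : ∀ h, (⟨conj x⁻¹, h⟩ : cycField n) = (⟨conj x, hx'⟩)⁻¹ := fun h =>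
      Subtype.ext (by simp [map_inv₀])
    have e2 : ∀ h, (⟨x⁻¹, h⟩ : cycField n) = (⟨x, hx⟩)⁻¹ := fun h => Subtype.ext (by simp)
    rw [e1, e2, map_inv₀, map_inv₀]
    simp [ex]
  | mul x y hx hy ihx ihy =>
    obtain ⟨hx', ex⟩ := ihx
    obtain ⟨hy', ey⟩ := ihy
    refine ⟨by rw [map_mul]; exact mul_mem hx' hy', ?_⟩
    have e1 : ∀ h, (⟨conj (x * y), h⟩ : cycField n) = ⟨conj x, hx'⟩ * ⟨conj y, hy'⟩ := fun h =>
      Subtype.ext (map_mul _ x y)
    have e2 : ∀ h, (⟨x * y, h⟩ : cycField n) = ⟨x, hx⟩ * ⟨y, hy⟩ := fun h => Subtype.ext rfl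
    rw [e1, e2, map_mul, map_mul, MulMemClass.coe_mul, MulMemClass.coe_mul, map_mul, ex, ey]

/-- The conjugates of a nonzero algebraic integer have mean square at least one. -/
theorem card_le_sum_gal_normSq [Fintype (cycField n ≃ₐ[ℚ] cycField n)] (b : cycField n)
    (hint : IsIntegral ℤ (b : ℂ)) (hne : b ≠ 0) :
    (Fintype.card (cycField n ≃ₐ[ℚ] cycField n) : ℝ) ≤
      ∑ σ : cycField n ≃ₐ[ℚ] cycField n, ‖((σ b : cycField n) : ℂ)‖ ^ 2 := by
  classical
  have hfix : ∀ τ : (cycField n ≃ₐ[ℚ] cycField n), τ (∏ σ : (cycField n ≃ₐ[ℚ] cycField n), σ b) = ∏ σ : (cycField n ≃ₐ[ℚ] cycField n), σ b := fun τ => by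
    rw [map_prod]
    exact Fintype.prod_equiv (Equiv.mulLeft τ) _ _ fun σ => rfl
  obtain ⟨q, hq⟩ := exists_rat_of_fixed hfix
  rw [SubmonoidClass.coe_finsetProd] at hq
  have hintσ : ∀ σ : (cycField n ≃ₐ[ℚ] cycField n), IsIntegral ℤ ((σ b : cycField n) : ℂ) := fun σ => by
    have h1 : IsIntegral ℤ b :=
      (isIntegral_algHom_iff ((cycField n).val.restrictScalars ℤ) Subtype.val_injective).1 hint
    exact (h1.map (σ.toAlgHom.restrictScalars ℤ)).map ((cycField n).val.restrictScalars ℤ)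
  obtain ⟨z, rfl⟩ := exists_int_of_isIntegral_rat (q := q)
    (hq ▸ IsIntegral.prod _ fun σ _ => hintσ σ)
  have hz0 : z ≠ 0 := by
    rintro rfl
    rw [Int.cast_zero, Rat.cast_zero, Finset.prod_eq_zero_iff] at hq
    obtain ⟨σ, -, h0⟩ := hq
    have h1 : σ b = 0 := Subtype.ext h0
    rw [map_eq_zero] at h1
    exact hne h1
  have h1 : (1 : ℝ) ≤ ∏ σ : (cycField n ≃ₐ[ℚ] cycField n), ‖((σ b : cycField n) : ℂ)‖ ^ 2 := by
    rw [Finset.prod_pow, ← norm_prod, hq]
    refine one_le_pow₀ ?_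
    rw [show (((z : ℚ) : ℂ)) = (z : ℂ) by simp, Complex.norm_intCast]
    exact_mod_cast Int.one_le_abs hz0
  have hc : (0 : ℝ) < Fintype.card (cycField n ≃ₐ[ℚ] cycField n) := by exact_mod_cast Fintype.card_pos
  have amgm := Real.geom_mean_le_arith_mean Finset.univ (fun _ => (1 : ℝ))
    (fun σ : (cycField n ≃ₐ[ℚ] cycField n) => ‖((σ b : cycField n) : ℂ)‖ ^ 2) (fun _ _ => zero_le_one)
    (by simpa using hc) (fun _ _ => by positivity)
  simp only [Real.rpow_one, Finset.sum_const, Finset.card_univ, nsmul_eq_mul, mul_one,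
    one_mul] at amgm
  have h3 := (Real.one_le_rpow h1 (by positivity)).trans amgm
  rwa [le_div_iff₀ hc, one_mul] at h3

/-- **Nonzero algebraic integers with rational square sum `N` number at most `N`.** -/
theorem card_le_of_sum_sq {ι : Type*} [Fintype ι] (a : ι → ℂ) (hmem : ∀ i, a i ∈ cycField n)
    (hint : ∀ i, IsIntegral ℤ (a i)) (hne : ∀ i, a i ≠ 0) (N : ℕ)
    (h : ∑ i, a i * conj (a i) = (N : ℂ)) : Fintype.card ι ≤ N := by
  classical
  haveI := isCyclotomic_cycField n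
  haveI : FiniteDimensional ℚ (cycField n) := IsCyclotomicExtension.finiteDimensional {n} ℚ _
  set Γ := cycField n ≃ₐ[ℚ] cycField n
  haveI : Fintype Γ := Fintype.ofFinite _
  let b : ι → cycField n := fun i => ⟨a i, hmem i⟩
  choose hc hcσ using fun (σ : Γ) (i : ι) => exists_conj_mem_comm σ (hmem i)
  have hone : ∀ σ : Γ, ∑ i, ‖((σ (b i) : cycField n) : ℂ)‖ ^ 2 = (N : ℝ) := fun σ => by
    let c : ι → cycField n := fun i => b i * ⟨conj (a i), hc σ i⟩
    have h1 : ∑ i, c i = (N : cycField n) := Subtype.ext (by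
      rw [AddSubmonoidClass.coe_finsetSum]
      simpa [c, b] using h)
    have h2 := congrArg (fun z : cycField n => ((σ z : cycField n) : ℂ)) h1
    simp only [map_sum, AddSubmonoidClass.coe_finsetSum, map_natCast, c, map_mul,
      MulMemClass.coe_mul, hcσ] at h2
    have hN : (((N : cycField n)) : ℂ) = (N : ℂ) := by simp
    rw [hN] at h2
    have h3 : ((∑ i, ‖((σ (b i) : cycField n) : ℂ)‖ ^ 2 : ℝ) : ℂ) = ((N : ℝ) : ℂ) := by
      push_cast
      rw [← h2]
      exact Finset.sum_congr rfl fun i _ => (Complex.mul_conj' _).symm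
    exact_mod_cast h3
  have hlow : ∀ i, (Fintype.card Γ : ℝ) ≤ ∑ σ : Γ, ‖((σ (b i) : cycField n) : ℂ)‖ ^ 2 := fun i =>
    card_le_sum_gal_normSq (b i) (hint i) fun h => hne i (congrArg Subtype.val h)
  have h4 : (Fintype.card Γ : ℝ) * Fintype.card ι ≤ (Fintype.card Γ : ℝ) * N := by
    calc (Fintype.card Γ : ℝ) * Fintype.card ι = ∑ _i : ι, (Fintype.card Γ : ℝ) := by
          rw [Finset.sum_const, Finset.card_univ, nsmul_eq_mul, mul_comm]
      _ ≤ ∑ i : ι, ∑ σ : Γ, ‖((σ (b i) : cycField n) : ℂ)‖ ^ 2 :=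
          Finset.sum_le_sum fun i _ => hlow i
      _ = _ := by
          rw [Finset.sum_comm, Finset.sum_congr rfl fun σ _ => hone σ, Finset.sum_const,
            Finset.card_univ, nsmul_eq_mul]
  have := le_of_mul_le_mul_left h4 (by exact_mod_cast Fintype.card_pos)
  exact_mod_cast this

end Cfsg.Agent.Lib.BlockHeights
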