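import Cfsg.Agent.Lib.BrauerPairs.Relative
import Cfsg.Agent.Lib.BrauerPairs.DefectPairs
import Cfsg.Agent.Lib.Blocks.SecondMain
import Cfsg.Agent.Lib.Blocks.Covering
import Cfsg.Agent.Lib.Blocks.Principal
import Cfsg.Agent.Lib.Blocks.NormalP
import Cfsg.Agent.Lib.BlockHeights.AbelianInertial
import Cfsg.Agent.Lib.Cores.PiCore

/-!
# Kernels of blocks on normal subgroups of order prime to `p`, through Brauer pairs
-/

set_option autoImplicit false
set_option linter.unusedSectionVars false
set_option linter.style.haveILetI false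

namespace Cfsg.Agent.Lib.BlockHeights

open Cfsg Cfsg.Agent.Lib.Blocks Cfsg.Agent.Lib.Characters Cfsg.Agent.Lib.BrauerPairs
open Cfsg.Agent.Lib.Cores

universe u

/-- Every member of `b` is trivial on the elements of `H` lying in `K`. -/
def TrivOn {G : Type u} [Group G] {H : Subgroup G} (b : Set (IrrCharacter H)) (K : Subgroup G) :
    Prop :=
  ∀ η ∈ b, ∀ h : H, (h : G) ∈ K → (η : H → ℂ) h = (η : H → ℂ) 1

/-- The idempotent of the trivial character of a subgroup. -/
noncomputable def trivIdem {G : Type u} [Group G] (K : Subgroup G) : G → ℂ :=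
  extendByZero K (fun _ => (Nat.card K : ℂ)⁻¹)

section Idem

variable {G : Type u} [Group G] [Fintype G] {M : Ideal AlgInt} [hMp : M.IsPrime] {p : ℕ}

theorem trivIdem_conj {K : Subgroup G} {a : G} (ha : ∀ x, a * x * a⁻¹ ∈ K ↔ x ∈ K) (x : G) :
    trivIdem K (a * x * a⁻¹) = trivIdem K x := by
  by_cases hx : x ∈ K
  · rw [trivIdem, extendByZero_of_mem _ _ hx, extendByZero_of_mem _ _ ((ha x).2 hx)]
  · rw [trivIdem, extendByZero_of_not_mem _ _ hx,
      extendByZero_of_not_mem _ _ fun h => hx ((ha x).1 h)]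

theorem memLocalRing_trivIdem (hM : IsPModular p M) {K : Subgroup G} (hK : ¬ p ∣ Nat.card K)
    (x : G) : MemLocalRing M (trivIdem K x) := by
  classical
  haveI := Fintype.ofFinite K
  exact memLocalRing_extendByZero (fun _ => memLocalRing_inv_natCast hM hK) x

theorem isClassFunction_trivIdem (K : Subgroup G) [K.Normal] :
    IsClassFunction G (trivIdem K) := fun x g =>
  trivIdem_conj (fun y => (Subgroup.mem_normalizer_iff.1
    (show g ∈ Subgroup.normalizer (K : Set G) by rw [Subgroup.normalizer_eq_top]; trivial) y).symm) x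

open Classical in
/-- The value of the trivial idempotent of a normal subgroup. -/
theorem omega_trivIdem (K : Subgroup G) [K.Normal] (η : IrrCharacter G) :
    omega (η : G → ℂ) (trivIdem K) =
      if ∀ n ∈ K, (η : G → ℂ) n = (η : G → ℂ) 1 then 1 else 0 := by
  haveI := Fintype.ofFinite K
  rw [trivIdem, ← blockCoeff_trivial_on K
    {η : IrrCharacter G | ∀ n ∈ K, (η : G → ℂ) n = (η : G → ℂ) 1} (fun _ => Iff.rfl),
    omega_blockCoeff]
  congr 1

open Classical in
/-- A block idempotent times the trivial idempotent. -/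
theorem conv_blockCoeff_trivIdem (hM : IsPModular p M) (K : Subgroup G) [K.Normal]
    (hK : ¬ p ∣ Nat.card K) {b : Set (IrrCharacter G)} (hb : IsPBlock M b) :
    conv (blockCoeff b) (trivIdem K) =
      if ∀ η ∈ b, ∀ n ∈ K, (η : G → ℂ) n = (η : G → ℂ) 1 then blockCoeff b else 0 := by
  haveI := Fintype.ofFinite K
  refine ext_omega (isClassFunction_conv (isClassFunction_blockCoeff b) (isClassFunction_trivIdem K))
    (by split_ifs; exacts [isClassFunction_blockCoeff b, fun _ _ => rfl]) fun χ => ?_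
  rw [omega_conv χ.2 (isClassFunction_blockCoeff b), omega_trivIdem, omega_blockCoeff]
  by_cases hχ : χ ∈ b
  · rw [if_pos hχ, one_mul]
    by_cases h : ∀ η ∈ b, ∀ n ∈ K, (η : G → ℂ) n = (η : G → ℂ) 1
    · rw [if_pos h, omega_blockCoeff, if_pos hχ, if_pos (h χ hχ)]
    · rw [if_neg h, omega_zero, if_neg]
      exact fun h' => h fun η hη =>
        trivial_on_of_sameBlock K hM hK (IsPBlock.sameBlock hb hχ hη) h'
  · rw [if_neg hχ, zero_mul]
    split_ifs
    · rw [omega_blockCoeff, if_neg hχ]
    · rw [omega_zero]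

variable {P : Subgroup G} {K : Subgroup G}

theorem isLocInv_trivIdem (hM : IsPModular p M) (hK : ¬ p ∣ Nat.card K)
    (hPK : P ≤ Subgroup.normalizer (K : Set G))
    (hCK : Subgroup.centralizer (P : Set G) ≤ Subgroup.normalizer (K : Set G)) :
    IsLocInv M P (trivIdem K) :=
  ⟨memLocalRing_trivIdem hM hK,
    fun _ ha x => trivIdem_conj (fun y => (Subgroup.mem_normalizer_iff.1 (hPK ha) y).symm) x,
    fun _ ha x => trivIdem_conj (fun y => (Subgroup.mem_normalizer_iff.1 (hCK ha) y).symm) x⟩

theorem conv_trivIdem_self : conv (trivIdem K) (trivIdem K) = trivIdem K := by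
  classical
  haveI := Fintype.ofFinite K
  rw [trivIdem, conv_extendByZero]
  congr 1
  funext k
  rw [conv]
  simp

theorem normal_subgroupOf_centralizer
    (hCK : Subgroup.centralizer (P : Set G) ≤ Subgroup.normalizer (K : Set G)) :
    (K.subgroupOf (Subgroup.centralizer (P : Set G))).Normal :=
  ⟨fun n hn g => by
    rw [Subgroup.mem_subgroupOf] at hn ⊢
    exact (Subgroup.mem_normalizer_iff.1 (hCK g.2) _).1 hn⟩

open Classical in
/-- The Brauer functional at a trivial idempotent. -/
theorem brauerOmega_trivIdem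
    (hCK : Subgroup.centralizer (P : Set G) ≤ Subgroup.normalizer (K : Set G))
    (ξ : IrrCharacter (Subgroup.centralizer (P : Set G))) :
    brauerOmega P (trivIdem K) (ξ : Subgroup.centralizer (P : Set G) → ℂ) =
      (Nat.card (K.subgroupOf (Subgroup.centralizer (P : Set G))) : ℂ) * (Nat.card K : ℂ)⁻¹ *
      if ∀ h : Subgroup.centralizer (P : Set G), (h : G) ∈ K →
        (ξ : Subgroup.centralizer (P : Set G) → ℂ) h = (ξ : Subgroup.centralizer (P : Set G) → ℂ) 1
      then 1 else 0 := by
  haveI := Fintype.ofFinite (Subgroup.centralizer (P : Set G))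
  haveI := normal_subgroupOf_centralizer hCK
  have hres : resFun (Subgroup.centralizer (P : Set G)) (trivIdem K) =
      ((Nat.card (K.subgroupOf (Subgroup.centralizer (P : Set G))) : ℂ) * (Nat.card K : ℂ)⁻¹) •
        trivIdem (K.subgroupOf (Subgroup.centralizer (P : Set G))) := by
    funext h
    have hne : (Nat.card (K.subgroupOf (Subgroup.centralizer (P : Set G))) : ℂ) ≠ 0 :=
      Nat.cast_ne_zero.2 Nat.card_pos.ne'
    by_cases hh : (h : G) ∈ K
    · rw [Pi.smul_apply, smul_eq_mul, trivIdem, trivIdem, show resFun _ (extendByZero K _) h = extendByZero K _ (h : G) from rfl,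
        extendByZero_of_mem _ _ hh,
        extendByZero_of_mem _ _ (show h ∈ K.subgroupOf _ from Subgroup.mem_subgroupOf.2 hh)]
      field_simp
    · rw [Pi.smul_apply, smul_eq_mul, trivIdem, trivIdem, show resFun _ (extendByZero K _) h = extendByZero K _ (h : G) from rfl,
        extendByZero_of_not_mem _ _ hh,
        extendByZero_of_not_mem _ _ (show h ∉ K.subgroupOf _ from
          fun h' => hh (Subgroup.mem_subgroupOf.1 h')), mul_zero]
  rw [brauerOmega_eq_omega, hres, omega_smul, omega_trivIdem]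
  congr 1
  simp only [Subgroup.mem_subgroupOf]
  congr 1

/-- **The criterion**: an idempotent occurring in `e` which is absorbed or annihilated by the
trivial idempotent of `K` decides triviality of `e` on `K ∩ C(P)`. -/
theorem trivOn_of_absorb (hM : IsPModular p M) (hP : IsPGroup p P) (hK : ¬ p ∣ Nat.card K)
    (hPK : P ≤ Subgroup.normalizer (K : Set G))
    (hCK : Subgroup.centralizer (P : Set G) ≤ Subgroup.normalizer (K : Set G))
    {β : G → ℂ} (hβ : IsLocInv M P β)
    {e : Set (IrrCharacter (Subgroup.centralizer (P : Set G)))} (he : IsPBlock M e)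
    (hone : ∀ ξ ∈ e, MemLocalIdeal M
      (brauerOmega P β (ξ : Subgroup.centralizer (P : Set G) → ℂ) - 1)) :
    (conv β (trivIdem K) = β → TrivOn e K) ∧ (conv β (trivIdem K) = 0 → ¬ TrivOn e K) := by
  classical
  haveI := Fintype.ofFinite (Subgroup.centralizer (P : Set G))
  have ht := isLocInv_trivIdem hM hK hPK hCK
  refine ⟨fun h η hη h' hh' => ?_, fun h htr => ?_⟩
  · by_contra hne
    have h0 : brauerOmega P (trivIdem K) (η : Subgroup.centralizer (P : Set G) → ℂ) = 0 := by
      classical
      rw [brauerOmega_trivIdem hCK, if_neg fun hall => hne (hall h' hh'), mul_zero]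
    have h1 := brauerOmega_conv hM hP hβ ht η
    rw [h, h0, mul_zero, sub_zero] at h1
    exact not_memLocalIdeal_of_sub not_memLocalIdeal_one (hone η hη) h1
  · obtain ⟨ξ, hξ⟩ := IsPBlock.nonempty he
    refine brauerOmega_orth hM hP hβ ht h ξ (hone ξ hξ) ?_
    refine (brauerOmega_idem hM hP ht conv_trivIdem_self ξ).resolve_left ?_
    classical
    haveI := Fact.mk hM.1
    rw [brauerOmega_trivIdem hCK, if_pos fun a ha => htr ξ hξ a ha, mul_one]
    refine not_memLocalIdeal_mul (memLocalRing_natCast _) (memLocalRing_inv_natCast hM hK)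
      (fun hd => hK ?_) ?_
    · refine ((memLocalIdeal_natCast_iff hM _).1 hd).trans ?_
      rw [← Subgroup.inf_subgroupOf_right K, Nat.card_congr
        (Subgroup.subgroupOfEquivOfLe inf_le_right).toEquiv]
      exact Subgroup.card_dvd_of_le inf_le_left
    · intro hd
      refine not_memLocalIdeal_one (M := M) ?_
      have h1 := memLocalIdeal_mul_left (memLocalRing_natCast (M := M) (Nat.card K)) hd
      rwa [mul_inv_cancel₀ (Nat.cast_ne_zero.2 Nat.card_pos.ne')] at h1

/-- **Triviality of a block on a normal subgroup is seen by any of its pairs.** -/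
theorem trivial_iff_of_pair (hM : IsPModular p M) (N : Subgroup G) [hN : N.Normal]
    (hNp : ¬ p ∣ Nat.card N) {B : Set (IrrCharacter G)}
    {e : Set (IrrCharacter (Subgroup.centralizer (P : Set G)))} (h : IsBrauerPairOf p M B P e) :
    (∀ χ ∈ B, ∀ n ∈ N, (χ : G → ℂ) n = (χ : G → ℂ) 1) ↔ TrivOn e N := by
  have htop : ∀ S : Subgroup G, S ≤ Subgroup.normalizer (N : Set G) := fun S x _ => by
    rw [Subgroup.normalizer_eq_top N]; exact Subgroup.mem_top x
  obtain ⟨h1, h2⟩ := trivOn_of_absorb hM h.1.1 hNp (htop _) (htop _)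
    (IsLocInv.of_isRCentral (isRCentral_blockCoeff hM h.2.1)) h.1.2 h.2.2
  have hc := conv_blockCoeff_trivIdem hM N hNp h.2.1
  refine ⟨fun ht => h1 (by rw [hc, if_pos ht]), fun ht => ?_⟩
  by_contra hne
  exact h2 (by rw [hc, if_neg hne]) ht

variable {Q : Subgroup G}

/-- **Triviality along a normal step.** -/
theorem trivOn_iff_of_step (hM : IsPModular p M)
    {f : Set (IrrCharacter (Subgroup.centralizer (Q : Set G)))}
    {e : Set (IrrCharacter (Subgroup.centralizer (P : Set G)))}
    (h : IsNormalSubpair p M Q f P e) (hK : ¬ p ∣ Nat.card K)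
    (hKQ : K ≤ Subgroup.centralizer (Q : Set G))
    (hQK : Subgroup.centralizer (Q : Set G) ≤ Subgroup.normalizer (K : Set G))
    (hPK : P ≤ Subgroup.normalizer (K : Set G)) :
    TrivOn f K ↔ TrivOn e K := by
  obtain ⟨⟨-, hf⟩, ⟨hP, he⟩, hQP, hPN, hst, hone⟩ := h
  obtain ⟨h1, h2⟩ := trivOn_of_absorb hM hP hK hPK ((centralizer_le_centralizer hQP).trans hQK)
    (isLocInv_subgroupBlockCoeff hM hQP hPN hf hst) he hone
  classical
  haveI := Fintype.ofFinite (Subgroup.centralizer (Q : Set G))
  haveI := normal_subgroupOf_centralizer hQK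
  have hcard : Nat.card (K.subgroupOf (Subgroup.centralizer (Q : Set G))) = Nat.card K :=
    Nat.card_congr (Subgroup.subgroupOfEquivOfLe hKQ).toEquiv
  have ht : trivIdem K = extendByZero (Subgroup.centralizer (Q : Set G))
      (trivIdem (K.subgroupOf (Subgroup.centralizer (Q : Set G)))) := by
    funext x
    by_cases hx : x ∈ Subgroup.centralizer (Q : Set G)
    · rw [extendByZero_of_mem _ _ hx, trivIdem, trivIdem]
      by_cases hxK : x ∈ K
      · rw [extendByZero_of_mem _ _ hxK,
          extendByZero_of_mem _ _ (show (⟨x, hx⟩ : Subgroup.centralizer (Q : Set G)) ∈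
            K.subgroupOf _ from Subgroup.mem_subgroupOf.2 hxK), hcard]
      · rw [extendByZero_of_not_mem _ _ hxK,
          extendByZero_of_not_mem _ _ (show (⟨x, hx⟩ : Subgroup.centralizer (Q : Set G)) ∉
            K.subgroupOf _ from fun h' => hxK (Subgroup.mem_subgroupOf.1 h'))]
    · rw [extendByZero_of_not_mem _ _ hx, trivIdem,
        extendByZero_of_not_mem _ _ fun h' => hx (hKQ h')]
  have hc : conv (subgroupBlockCoeff (Subgroup.centralizer (Q : Set G)) f) (trivIdem K) =
      if TrivOn f K then subgroupBlockCoeff (Subgroup.centralizer (Q : Set G)) f else 0 := by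
    rw [subgroupBlockCoeff_eq_extendByZero, ht, conv_extendByZero,
      conv_blockCoeff_trivIdem hM _ (hcard ▸ hK) hf]
    have hiff : (∀ η ∈ f, ∀ n ∈ K.subgroupOf (Subgroup.centralizer (Q : Set G)),
        (η : Subgroup.centralizer (Q : Set G) → ℂ) n =
          (η : Subgroup.centralizer (Q : Set G) → ℂ) 1) ↔ TrivOn f K :=
      ⟨fun h' η hη a ha => h' η hη a (Subgroup.mem_subgroupOf.2 ha),
        fun h' η hη a ha => h' η hη a (Subgroup.mem_subgroupOf.1 ha)⟩
    by_cases h' : TrivOn f K
    · rw [if_pos h', if_pos (hiff.2 h')]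
    · rw [if_neg h', if_neg fun h'' => h' (hiff.1 h'')]
      funext x
      by_cases hx : x ∈ Subgroup.centralizer (Q : Set G)
      · rw [extendByZero_of_mem _ _ hx]; rfl
      · rw [extendByZero_of_not_mem _ _ hx]; rfl
  refine ⟨fun ht' => h1 (by rw [hc, if_pos ht']), fun ht' => ?_⟩
  by_contra hne
  exact h2 (by rw [hc, if_neg hne]) ht'

end Idem

section Cores

variable {G : Type u} [Group G] [Fintype G] {M : Ideal AlgInt} [hMp : M.IsPrime] {p : ℕ}
  {π : Set ℕ}

/-- The largest normal `π'`-subgroup of `C(Q)`, inside `G`. -/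
noncomputable def piC (π : Set ℕ) (Q : Subgroup G) : Subgroup G :=
  (piCore {q | q ∉ π} (Subgroup.centralizer (Q : Set G))).map
    (Subgroup.centralizer (Q : Set G)).subtype

/-- Every `π'`-element of `C(Q)` lies in the normal `π'`-core. -/
def HallC (π : Set ℕ) (Q : Subgroup G) : Prop :=
  ∀ x ∈ Subgroup.centralizer (Q : Set G),
    (∀ q : ℕ, q.Prime → q ∣ orderOf x → q ∉ π) → x ∈ piC π Q

theorem piC_le (Q : Subgroup G) : piC π Q ≤ Subgroup.centralizer (Q : Set G) :=
  Subgroup.map_subtype_le _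

theorem coe_mem_piC_iff {Q : Subgroup G} {x : Subgroup.centralizer (Q : Set G)} :
    (x : G) ∈ piC π Q ↔ x ∈ piCore {q | q ∉ π} (Subgroup.centralizer (Q : Set G)) :=
  ⟨fun ⟨y, hy, hyx⟩ => Subtype.ext hyx ▸ hy, fun h => ⟨x, h, rfl⟩⟩

theorem piC_prime {Q : Subgroup G} {q : ℕ} (hq : q.Prime) (h : q ∣ Nat.card (piC π Q)) : q ∉ π := by
  rw [piC, Subgroup.card_map_of_injective (Subgroup.subtype_injective _)] at h
  exact mem_of_prime_dvd_card_piCore (π := {q | q ∉ π}) hq h

theorem not_dvd_card_piC (hp : p.Prime) (hpπ : p ∈ π) (Q : Subgroup G) :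
    ¬ p ∣ Nat.card (piC π Q) :=
  fun h => piC_prime hp h hpπ

theorem prime_orderOf_of_mem_piC {Q : Subgroup G} {x : G} (hx : x ∈ piC π Q) {q : ℕ}
    (hq : q.Prime) (h : q ∣ orderOf x) : q ∉ π :=
  piC_prime hq (h.trans (Subgroup.orderOf_dvd_natCard _ hx))

/-- Maximality of the core. -/
theorem le_piC {Q K : Subgroup G} (hK : K ≤ Subgroup.centralizer (Q : Set G))
    (hN : Subgroup.centralizer (Q : Set G) ≤ Subgroup.normalizer (K : Set G))
    (hπ : ∀ q : ℕ, q.Prime → q ∣ Nat.card K → q ∉ π) : K ≤ piC π Q := by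
  intro x hx
  have h1 := le_piCore (π := {q | q ∉ π}) (normal_subgroupOf_centralizer hN) fun q hq h =>
    hπ q hq (by rwa [Nat.card_congr (Subgroup.subgroupOfEquivOfLe hK).toEquiv] at h)
  exact coe_mem_piC_iff (x := ⟨x, hK hx⟩).2 (h1 (Subgroup.mem_subgroupOf.2 hx))

theorem piC_conj_mem (Q : Subgroup G) (a : G) {x : G} (hx : x ∈ piC π Q) :
    a * x * a⁻¹ ∈ piC π (Q.map (MulAut.conj a).toMonoidHom) := by
  obtain ⟨y, hy, rfl⟩ := hx
  have h1 : conjEquiv a (mem_centralizer_map_conj Q a) y ∈ piCore {q | q ∉ π}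
      (Subgroup.centralizer ((Q.map (MulAut.conj a).toMonoidHom : Subgroup G) : Set G)) := by
    rw [← map_piCore_equiv (conjEquiv a (mem_centralizer_map_conj Q a))]
    exact ⟨y, hy, rfl⟩
  exact ⟨_, h1, conjEquiv_coe a (mem_centralizer_map_conj Q a) y⟩

theorem piC_conj_mem' (Q : Subgroup G) (a : G) {x : G}
    (hx : x ∈ piC π (Q.map (MulAut.conj a).toMonoidHom)) : a⁻¹ * x * a ∈ piC π Q := by
  have h := piC_conj_mem _ a⁻¹ hx
  rwa [map_conj_map_conj, inv_mul_cancel, map_conj_one, inv_inv] at h

theorem normalizer_le_normalizer_piC (Q : Subgroup G) :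
    Subgroup.normalizer (Q : Set G) ≤ Subgroup.normalizer ((piC π Q : Subgroup G) : Set G) := by
  intro a ha
  rw [Subgroup.mem_normalizer_iff]
  intro x
  refine ⟨fun hx => ?_, fun hx => ?_⟩
  · have h := piC_conj_mem (π := π) Q a hx
    rwa [map_conj_of_mem_normalizer ha] at h
  have h := piC_conj_mem' (π := π) Q a (x := a * x * a⁻¹)
    (by rwa [map_conj_of_mem_normalizer ha])
  simpa [mul_assoc] using h

theorem centralizer_le_normalizer_piC (Q : Subgroup G) :
    Subgroup.centralizer (Q : Set G) ≤ Subgroup.normalizer ((piC π Q : Subgroup G) : Set G) :=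
  (centralizer_le_normalizer' Q).trans (normalizer_le_normalizer_piC Q)

theorem piC_inf_le {Q P : Subgroup G} (hQP : Q ≤ P) :
    piC π Q ⊓ Subgroup.centralizer (P : Set G) ≤ piC π P := by
  refine le_piC inf_le_right (fun a ha => ?_) fun q hq h =>
    piC_prime hq (h.trans (Subgroup.card_dvd_of_le inf_le_left))
  rw [Subgroup.mem_normalizer_iff]
  intro x
  have h1 := Subgroup.mem_normalizer_iff.1
    (centralizer_le_normalizer_piC (π := π) Q (centralizer_le_centralizer hQP ha)) x
  have h2 := Subgroup.mem_normalizer_iff.1 (Subgroup.le_normalizer (H :=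
    Subgroup.centralizer (P : Set G)) ha) x
  rw [Subgroup.mem_inf, Subgroup.mem_inf, h1, h2]

theorem HallC.of_le {Q P : Subgroup G} (hQP : Q ≤ P) (h : HallC π Q) : HallC π P :=
  fun x hx hord => piC_inf_le hQP ⟨h x (centralizer_le_centralizer hQP hx) hord, hx⟩

theorem HallC.conj {Q : Subgroup G} (h : HallC π Q) (a : G) :
    HallC π (Q.map (MulAut.conj a).toMonoidHom) := by
  intro x hx hord
  have h1 := h (a⁻¹ * x * a) ((mem_centralizer_map_conj Q a x).1 hx) fun q hq hd => hord q hq (by
    have h2 := orderOf_map_dvd (MulAut.conj a).toMonoidHom (a⁻¹ * x * a)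
    rwa [show a⁻¹ * x * a = (MulAut.conj a⁻¹).toMonoidHom x by simp,
      orderOf_injective _ (MulAut.conj a⁻¹).injective] at hd)
  simpa [mul_assoc] using piC_conj_mem Q a h1

theorem trivOn_conjBlock_iff {Q : Subgroup G} (a : G)
    {f : Set (IrrCharacter (Subgroup.centralizer (Q : Set G)))} :
    TrivOn (conjBlock Q a f) (piC π (Q.map (MulAut.conj a).toMonoidHom)) ↔
      TrivOn f (piC π Q) := by
  constructor
  · intro h η hη y hy
    have h1 := h _ (conjBlock_nonempty_iff.2 ⟨η, hη, rfl⟩)
      (conjEquiv a (mem_centralizer_map_conj Q a) y) (piC_conj_mem Q a hy)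
    rwa [transIrr_apply, ← map_one (conjEquiv a (mem_centralizer_map_conj Q a)),
      transIrr_apply] at h1
  · intro h η' hη' y' hy'
    obtain ⟨η, hη, rfl⟩ := conjBlock_nonempty_iff.1 hη'
    obtain ⟨y, rfl⟩ := (conjEquiv a (mem_centralizer_map_conj Q a)).surjective y'
    rw [transIrr_apply, ← map_one (conjEquiv a (mem_centralizer_map_conj Q a)), transIrr_apply]
    refine h η hη y ?_
    have h1 := piC_conj_mem' (π := π) Q a hy'
    rw [conjEquiv_coe] at h1
    simpa [mul_assoc] using h1

/-- **Downward inheritance.** -/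
theorem trivOn_of_subpairLE_down (hM : IsPModular p M) (hpπ : p ∈ π) {Q P : Subgroup G}
    {f : Set (IrrCharacter (Subgroup.centralizer (Q : Set G)))}
    {e : Set (IrrCharacter (Subgroup.centralizer (P : Set G)))}
    (h : SubpairLE p M Q f P e) (he : TrivOn e (piC π P)) : TrivOn f (piC π Q) := by
  suffices key : ∀ a b : BrauerPairIdx G, Relation.ReflTransGen (NormalSubpairRel p M) a b →
      TrivOn b.2 (piC π b.1) → TrivOn a.2 (piC π a.1) from key _ _ h he
  intro a b hab
  induction hab using Relation.ReflTransGen.head_induction_on with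
  | refl => exact id
  | @head a c hac _ ih =>
    intro hb
    refine (trivOn_iff_of_step hM hac (not_dvd_card_piC hM.1 hpπ a.1) (piC_le _)
      (centralizer_le_normalizer_piC _)
      (hac.2.2.2.1.trans (normalizer_le_normalizer_piC _))).2 fun η hη y hy => ?_
    exact ih hb η hη y (piC_inf_le hac.2.2.1 ⟨hy, y.2⟩)

/-- **Upward inheritance** under the Hall condition. -/
theorem trivOn_of_subpairLE_up (hM : IsPModular p M) (hpπ : p ∈ π) {Q P : Subgroup G}
    {f : Set (IrrCharacter (Subgroup.centralizer (Q : Set G)))}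
    {e : Set (IrrCharacter (Subgroup.centralizer (P : Set G)))}
    (h : SubpairLE p M Q f P e) (hH : HallC π Q) (hf : TrivOn f (piC π Q)) :
    TrivOn e (piC π P) := by
  suffices key : ∀ a b : BrauerPairIdx G, Relation.ReflTransGen (NormalSubpairRel p M) a b →
      HallC π a.1 → TrivOn a.2 (piC π a.1) → TrivOn b.2 (piC π b.1) from key _ _ h hH hf
  intro a b hab
  induction hab using Relation.ReflTransGen.head_induction_on with
  | refl => exact fun _ => id
  | @head a c hac _ ih =>
    intro hH ha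
    have h1 := (trivOn_iff_of_step hM hac (not_dvd_card_piC hM.1 hpπ a.1) (piC_le _)
      (centralizer_le_normalizer_piC _)
      (hac.2.2.2.1.trans (normalizer_le_normalizer_piC _))).1 ha
    refine ih (hH.of_le hac.2.2.1) fun η hη y hy => h1 η hη y ?_
    exact hH _ (centralizer_le_centralizer hac.2.2.1 y.2) fun q hq hd =>
      prime_orderOf_of_mem_piC hy hq hd

/-- Pairs of an inducing block push to pairs of the induced block. -/
theorem isBrauerPairOf_push_induced (hM : IsPModular p M) {H : Subgroup G} [Fintype H]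
    {b : Set (IrrCharacter H)} {B : Set (IrrCharacter G)} (hb : IsInducedBlock M H b B)
    {a : BrauerPairIdx H} {c : BrauerPairIdx G} (hp : IsPush a c)
    (hC : Subgroup.centralizer (c.1 : Set G) ≤ H) (ha : IsBrauerPairOf p M b a.1 a.2) :
    IsBrauerPairOf p M B c.1 c.2 := by
  refine ⟨isBrauerPair_push hp hC ha.1, hb.2.1, ?_⟩
  refine (brauerOmega_push hp hC (blockCoeff B) fun t => MemLocalIdeal M (t - 1)).2 ?_
  intro ξ hξ
  obtain ⟨η, hη⟩ := IsPBlock.nonempty hb.1
  obtain ⟨χ, hχ⟩ := IsPBlock.nonempty hb.2.1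
  have h1 := brauerOmega_congr_omega hM ha hξ hη
    (isRCentral_resFun H (isRCentral_blockCoeff hM hb.2.1))
  have h2 := IsInducedBlock.omega_congr hb hη hχ (isRCentral_blockCoeff hM hb.2.1)
  rw [omega_blockCoeff, if_pos hχ] at h2
  simpa using memLocalIdeal_add h1 h2

theorem trivOn_push {H : Subgroup G} [Fintype H] {a : BrauerPairIdx H} {c : BrauerPairIdx G}
    (hp : IsPush a c) (hC : Subgroup.centralizer (c.1 : Set G) ≤ H) {K : Subgroup G} :
    TrivOn c.2 K ↔ TrivOn a.2 (K.subgroupOf H) := by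
  obtain ⟨V, u⟩ := c
  replace hC : Subgroup.centralizer (V : Set G) ≤ H := hC
  have h1 : a.1.map H.subtype = V := hp.1
  have hu : u = transBlock (relEquiv h1 hC) a.2 := IsPush.eq_transBlock hp hC
  clear hp
  subst hu
  constructor
  · intro h η hη y hy
    have h2 := h _ ⟨η, hη, rfl⟩ (relEquiv h1 hC y) (Subgroup.mem_subgroupOf.1 hy)
    rwa [transIrr_apply, ← map_one (relEquiv h1 hC), transIrr_apply] at h2
  · rintro h _ ⟨η, hη, rfl⟩ y hy
    obtain ⟨y, rfl⟩ := (relEquiv h1 hC).surjective y
    rw [transIrr_apply, ← map_one (relEquiv h1 hC), transIrr_apply]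
    exact h η hη y (Subgroup.mem_subgroupOf.2 hy)

/-- A normal `π'`-subgroup of `H ⊇ C(V)` meets `C(V)` inside the core. -/
theorem map_inf_centralizer_le_piC {H V : Subgroup G} (hC : Subgroup.centralizer (V : Set G) ≤ H) :
    (piCore {q | q ∉ π} H).map H.subtype ⊓ Subgroup.centralizer (V : Set G) ≤ piC π V := by
  refine le_piC inf_le_right (fun a ha => ?_) fun q hq h => ?_
  · rw [Subgroup.mem_normalizer_iff]
    intro x
    have h2 := Subgroup.mem_normalizer_iff.1 (Subgroup.le_normalizer (H :=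
      Subgroup.centralizer (V : Set G)) ha) x
    have h1 : x ∈ (piCore {q | q ∉ π} H).map H.subtype ↔
        a * x * a⁻¹ ∈ (piCore {q | q ∉ π} H).map H.subtype := by
      constructor
      · rintro ⟨y, hy, rfl⟩
        exact ⟨⟨a, hC ha⟩ * y * ⟨a, hC ha⟩⁻¹, Subgroup.Normal.conj_mem inferInstance _ hy _,
          rfl⟩
      · rintro ⟨y, hy, hyx⟩
        refine ⟨⟨a, hC ha⟩⁻¹ * y * ⟨a, hC ha⟩,
          by simpa using Subgroup.Normal.conj_mem inferInstance _ hy (⟨a, hC ha⟩ : H)⁻¹, ?_⟩
        show a⁻¹ * (y : G) * a = x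
        rw [show (y : G) = a * x * a⁻¹ from hyx]
        group
    rw [Subgroup.mem_inf, Subgroup.mem_inf, h1, h2]
  · refine mem_of_prime_dvd_card_piCore (π := {q | q ∉ π}) (G := H) hq ?_
    rw [← Subgroup.card_map_of_injective (Subgroup.subtype_injective H)]
    exact h.trans (Subgroup.card_dvd_of_le inf_le_left)

/-- The normal `π'`-core of `N(D)` centralises `D` and is the core of `C(D)`. -/
theorem map_piCore_normalizer_eq (hp : p.Prime) (hpπ : p ∈ π) {D : Subgroup G}
    (hD : IsPGroup p D) :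
    (piCore {q | q ∉ π} (Subgroup.normalizer (D : Set G))).map
      (Subgroup.normalizer (D : Set G)).subtype = piC π D := by
  haveI := Fact.mk hp
  set N := Subgroup.normalizer (D : Set G) with hN
  have hle : (piCore {q | q ∉ π} N).map N.subtype ≤ Subgroup.centralizer (D : Set G) := by
    rintro _ ⟨x, hx, rfl⟩
    rw [Subgroup.mem_centralizer_iff]
    intro d hd
    have hdN : d ∈ N := Subgroup.le_normalizer hd
    have hdisj : Disjoint (piCore {q | q ∉ π} N) (D.subgroupOf N) := by
      rw [disjoint_iff]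
      refine Subgroup.eq_bot_of_card_le _ (le_of_eq (Nat.eq_one_of_dvd_one ?_))
      obtain ⟨k, hk⟩ := (hD.of_equiv (Subgroup.subgroupOfEquivOfLe
        (Subgroup.le_normalizer : D ≤ N)).symm).exists_card_eq
      have hcop : Nat.Coprime (Nat.card (piCore {q | q ∉ π} N)) (Nat.card (D.subgroupOf N)) := by
        rw [hk]
        exact Nat.Coprime.pow_right _ (Nat.Coprime.symm (hp.coprime_iff_not_dvd.2 fun h =>
          mem_of_prime_dvd_card_piCore (π := {q | q ∉ π}) hp h hpπ))
      exact hcop ▸ Nat.dvd_gcd (Subgroup.card_dvd_of_le inf_le_left)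
        (Subgroup.card_dvd_of_le inf_le_right)
    haveI : (D.subgroupOf N).Normal := ⟨fun n hn g => by
      rw [Subgroup.mem_subgroupOf] at hn ⊢
      exact (Subgroup.mem_normalizer_iff.1 g.2 _).1 hn⟩
    exact congrArg Subtype.val (Subgroup.commute_of_normal_of_disjoint _ _ inferInstance
      inferInstance hdisj x ⟨d, hdN⟩ hx hd).symm.eq
  refine le_antisymm (fun x hx => map_inf_centralizer_le_piC
    (centralizer_le_normalizer' D) ⟨hx, hle hx⟩) fun x hx => ?_
  refine ⟨⟨x, centralizer_le_normalizer' D (piC_le D hx)⟩, ?_, rfl⟩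
  refine SetLike.mem_coe.2 (le_piCore (π := {q | q ∉ π}) (N := (piC π D).subgroupOf N)
    ⟨fun n hn g => ?_⟩ (fun q hq h => piC_prime (G := G) (Q := D) hq ?_) (Subgroup.mem_subgroupOf.2 hx))
  · rw [Subgroup.mem_subgroupOf] at hn ⊢
    exact (Subgroup.mem_normalizer_iff.1 (normalizer_le_normalizer_piC D g.2) _).1 hn
  · rwa [Nat.card_congr (Subgroup.subgroupOfEquivOfLe
      ((piC_le D).trans (centralizer_le_normalizer' D))).toEquiv] at h

end Cores

end Cfsg.Agent.Lib.BlockHeights
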