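import Cfsg.Agent.Lib.BlockHeights.HarrisKnorrCore
import Cfsg.Agent.Lib.BlockHeights.PiKernel

/-!
# The theorem of Harris and Knörr
-/

set_option autoImplicit false
set_option linter.unusedSectionVars false
set_option linter.style.haveILetI false

namespace Cfsg.Agent.Lib.BlockHeights

open Cfsg Cfsg.Agent.Lib.Blocks Cfsg.Agent.Lib.Characters Cfsg.Agent.Lib.BrauerPairs

universe u

variable {G : Type u} [Group G] [Fintype G] {M : Ideal AlgInt} [hMp : M.IsPrime] {p : ℕ}

/-- Pushes are injective. -/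
theorem IsPush.pull_unique {H : Subgroup G} [Fintype H] {a a' : BrauerPairIdx H}
    {b : BrauerPairIdx G} (h : IsPush a b) (h' : IsPush a' b) : a = a' := by
  refine pair_ext (Subgroup.map_injective H.subtype_injective (h.1.trans h'.1.symm)) ?_
  have h2 := congrArg (resFun H) (h.2.symm.trans h'.2)
  rwa [resFun_extendByZero, resFun_extendByZero] at h2

variable {Q N : Subgroup G} [hN : N.Normal] [Fintype N]
  [Fintype (Subgroup.normalizer (Q : Set G))] [Fintype (normH Q N)] [Fintype (normN Q N)]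
  {d : Set (IrrCharacter N)} {e' : Set (IrrCharacter (normH Q N))} {hQN : Q ≤ N}

open Classical in
/-- The orbit idempotent seen from `N_G(Q)`. -/
theorem LocalData.omega_res_orbitIdem (hM : IsPModular p M) (D : LocalData p M Q N d e' hQN)
    {ξ : IrrCharacter (Subgroup.normalizer (Q : Set G))} {η : IrrCharacter (normH Q N)}
    (hη : classInner (fun l : normH Q N => (ξ : Subgroup.normalizer (Q : Set G) → ℂ) l)
      (η : normH Q N → ℂ) ≠ 0) :
    MemLocalIdeal M (omega (ξ : Subgroup.normalizer (Q : Set G) → ℂ)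
        (resFun (Subgroup.normalizer (Q : Set G)) (orbitIdem N d)) -
      if η ∈ conjClosure (normH Q N) e' then 1 else 0) := by
  have hcent := isRCentral_orbitIdem N hM (IsPBlock.blockOf_subset D.block)
  have hres : resFun (normH Q N) (resFun (Subgroup.normalizer (Q : Set G)) (orbitIdem N d)) =
      resB Q N (blockCoeff (conjClosure N d)) := funext fun b =>
    extendByZero_coe N _ ⟨((b : Subgroup.normalizer (Q : Set G)) : G),
      Subgroup.mem_subgroupOf.1 b.2⟩
  rw [omega_eq_of_constituent (normH Q N) hη (isRCentral_resFun _ hcent).1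
    (fun x hx => orbitIdem_of_notMem N d fun h => hx (Subgroup.mem_subgroupOf.2 h)), hres]
  obtain ⟨θ, hθ⟩ := exists_inducesTo hM D.pgroup hQN η
  have hF : IsRCentral M (blockCoeff (conjClosure N d)) :=
    resFun_orbitIdem N d ▸ isRCentral_resFun N hcent
  have h := hθ _ hF
  rw [omega_blockCoeff] at h
  simpa only [D.mem_closure_iff hM hθ] using h

/-- Covering is carried by induction in both directions. -/
theorem LocalData.covers_iff (hM : IsPModular p M) (D : LocalData p M Q N d e' hQN)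
    {c : Set (IrrCharacter (Subgroup.normalizer (Q : Set G)))} {B : Set (IrrCharacter G)}
    (hind : IsInducedBlock M (Subgroup.normalizer (Q : Set G)) c B) :
    (∃ ψ ∈ c, ∃ η ∈ e', classInner (fun l : normH Q N =>
        (ψ : Subgroup.normalizer (Q : Set G) → ℂ) l) (η : normH Q N → ℂ) ≠ 0) ↔
      ∃ χ ∈ B, ∃ θ ∈ d, classInner (fun n : N => (χ : G → ℂ) n) (θ : N → ℂ) ≠ 0 := by
  classical
  have hcent := isRCentral_orbitIdem N hM (IsPBlock.blockOf_subset D.block)
  constructor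
  · rintro ⟨ψ, hψ, η, hη, hne⟩
    obtain ⟨χ, hχ⟩ := IsPBlock.nonempty hind.2.1
    obtain ⟨θ, hθ⟩ := exists_constituent_restrict N χ
    have h1 := D.omega_res_orbitIdem hM hne
    rw [if_pos (subset_conjClosure _ e' hη)] at h1
    have h2 := IsInducedBlock.omega_congr hind hψ hχ hcent
    rw [omega_orbitIdem N d hθ] at h2
    by_cases hmem : θ ∈ conjClosure N d
    · obtain ⟨g, θ₀, hθ₀, rfl⟩ := hmem
      exact ⟨χ, hχ, θ₀, hθ₀, by rwa [classInner_restrict_conjIrrN] at hθ⟩
    · rw [if_neg hmem] at h2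
      exact absurd (by simpa using memLocalIdeal_sub h2 h1) not_memLocalIdeal_one
  · rintro ⟨χ, hχ, θ, hθ, hne⟩
    obtain ⟨ψ, hψ⟩ := IsPBlock.nonempty hind.1
    obtain ⟨η, hη⟩ := exists_constituent_restrict (normH Q N) ψ
    have h1 := D.omega_res_orbitIdem hM hη
    have h2 := IsInducedBlock.omega_congr hind hψ hχ hcent
    rw [omega_orbitIdem N d hne, if_pos (subset_conjClosure N d hθ)] at h2
    by_cases hmem : η ∈ conjClosure (normH Q N) e'
    · obtain ⟨a, η₀, hη₀, rfl⟩ := hmem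
      exact ⟨ψ, hψ, η₀, hη₀, by rwa [classInner_restrict_conjIrrN] at hη⟩
    · rw [if_neg hmem] at h1
      exact absurd (by simpa using memLocalIdeal_sub h1 h2) not_memLocalIdeal_one

/-- An inducing block holds a maximal pair of the induced covering block. -/
theorem LocalData.exists_pair (hM : IsPModular p M) (D : LocalData p M Q N d e' hQN)
    {c : Set (IrrCharacter (Subgroup.normalizer (Q : Set G)))} {B : Set (IrrCharacter G)}
    (hind : IsInducedBlock M (Subgroup.normalizer (Q : Set G)) c B)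
    (hcov : ∃ χ ∈ B, ∃ θ ∈ d, classInner (fun n : N => (χ : G → ℂ) n) (θ : N → ℂ) ≠ 0) :
    ∃ (a : BrauerPairIdx (Subgroup.normalizer (Q : Set G))) (b : BrauerPairIdx G),
      IsBrauerPairOf p M c a.1 a.2 ∧ IsMaximalBrauerPair p M B b.1 b.2 ∧ IsPush a b ∧
        b.1 ⊓ N = Q ∧ Subgroup.centralizer (b.1 : Set G) ≤ Subgroup.normalizer (Q : Set G) := by
  haveI := Fact.mk hM.1
  have hQH : Q ≤ Subgroup.normalizer (Q : Set G) := Subgroup.le_normalizer
  haveI : (Q.subgroupOf (Subgroup.normalizer (Q : Set G))).Normal :=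
    subgroupOf_normal_of_le_normalizer le_rfl
  obtain ⟨R, hR⟩ := exists_isDefectGroup hM hind.1
  have hQR : Q.subgroupOf (Subgroup.normalizer (Q : Set G)) ≤ R :=
    le_of_isDefectGroup hM (D.pgroup.of_equiv (Subgroup.subgroupOfEquivOfLe hQH).symm) hind.1 hR
  obtain ⟨r, hmaxR⟩ := exists_maximal_defect hM hind.1 hR
  have hQmap : Q ≤ R.map (Subgroup.normalizer (Q : Set G)).subtype := fun x hx =>
    ⟨⟨x, hQH hx⟩, hQR hx, rfl⟩
  have hCQ : Subgroup.centralizer (Q : Set G) ≤ Subgroup.normalizer (Q : Set G) :=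
    centralizer_le_normalizer' Q
  obtain ⟨⟨V, v⟩, hpush⟩ :=
    exists_push (⟨R, r⟩ : BrauerPairIdx (Subgroup.normalizer (Q : Set G)))
      ((centralizer_le_centralizer hQmap).trans hCQ)
  have hV : R.map (Subgroup.normalizer (Q : Set G)).subtype = V := hpush.1
  subst hV
  have hpair := isBrauerPairOf_push_induced hM hind hpush
    ((centralizer_le_centralizer hQmap).trans hCQ) hmaxR.1
  obtain ⟨P, f, hmax, hle⟩ := exists_maximal_above hpair
  obtain ⟨χ, hχ, θ, hθ, hne⟩ := hcov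
  obtain ⟨P₀, hP₀, hP₀N⟩ := exists_defectGroup_inf_eq N hM hind.2.1 D.block
    ⟨χ, hχ, θ, hθ, hne⟩ hQN D.defect
  obtain ⟨x, hx⟩ := IsDefectGroup.exists_map_conj_eq hM hind.2.1 hP₀
    (isDefectGroup_of_isMaximal hM hmax)
  have hQP : Q ≤ P := hQmap.trans (subpairLE_le hle)
  have hPN : P ⊓ N = Q := by
    refine (Subgroup.eq_of_le_of_card_ge (le_inf hQP hQN) (le_of_eq ?_)).symm
    rw [← hP₀N, ← Subgroup.card_map_of_injective (f := (MulAut.conj x).toMonoidHom)
      (K := P₀ ⊓ N) (MulAut.conj x).injective, Subgroup.map_inf _ _ _ (MulAut.conj x).injective, hx]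
    have hNmap : N.map (MulAut.conj x).toMonoidHom = N := by
      ext y
      rw [mem_map_conj_iff]
      exact ⟨fun hy => by simpa [mul_assoc] using hN.conj_mem _ hy x,
        fun hy => by simpa [mul_assoc] using hN.conj_mem _ hy x⁻¹⟩
    rw [hNmap]
  have hPH : P ≤ Subgroup.normalizer (Q : Set G) := by
    intro a ha
    refine mem_normalizer_of_forall_conj fun y hy => ?_
    rw [← hPN] at hy ⊢
    exact ⟨P.mul_mem (P.mul_mem ha hy.1) (P.inv_mem ha), hN.conj_mem _ hy.2 a⟩
  obtain ⟨a, ha⟩ := exists_pull ⟨P, f⟩ hPH ((centralizer_le_centralizer hQP).trans hCQ)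
  have haP : IsBrauerPair p M a.1 a.2 :=
    isBrauerPair_pull ha ((centralizer_le_centralizer hQP).trans hCQ) hmax.1.1
  have hRa : R ≤ a.1 := fun y hy => by
    have h1 : (y : G) ∈ a.1.map (Subgroup.normalizer (Q : Set G)).subtype :=
      ha.1.symm ▸ subpairLE_le hle ⟨y, hy, rfl⟩
    obtain ⟨z, hz, hzy⟩ := h1
    exact Subtype.ext hzy ▸ hz
  obtain ⟨r₂, hr₂, hr₂le⟩ := exists_subpairLE hM haP hRa
  obtain ⟨⟨V₂, v₂⟩, hpush₂⟩ :=
    exists_push (⟨R, r₂⟩ : BrauerPairIdx (Subgroup.normalizer (Q : Set G)))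
      ((centralizer_le_centralizer hQmap).trans hCQ)
  have hV₂ : R.map (Subgroup.normalizer (Q : Set G)).subtype = V₂ := hpush₂.1
  subst hV₂
  have hle₂ : SubpairLE p M _ v₂ P f := subpairLE_push hCQ hpush₂ ha hQmap hr₂le
  have hv : v₂ = v := subpairLE_unique hM hmax.1.1 hle₂ hle
  subst hv
  have hrr : (⟨R, r⟩ : BrauerPairIdx (Subgroup.normalizer (Q : Set G))) = ⟨R, r₂⟩ :=
    IsPush.pull_unique hpush hpush₂
  obtain rfl : r = r₂ := by simpa using hrr
  exact ⟨a, ⟨P, f⟩, (isBrauerPairOf_iff_of_subpairLE hM haP hr₂le hind.1).2 hmaxR.1, hmax, ha,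
    hPN, (centralizer_le_centralizer hQP).trans hCQ⟩

/-- **Uniqueness of the inducing block.** -/
theorem LocalData.inducing_unique' (hM : IsPModular p M) (D : LocalData p M Q N d e' hQN)
    {c c₂ : Set (IrrCharacter (Subgroup.normalizer (Q : Set G)))} {B : Set (IrrCharacter G)}
    (hind : IsInducedBlock M (Subgroup.normalizer (Q : Set G)) c B)
    (hind₂ : IsInducedBlock M (Subgroup.normalizer (Q : Set G)) c₂ B)
    (hcov : ∃ χ ∈ B, ∃ θ ∈ d, classInner (fun n : N => (χ : G → ℂ) n) (θ : N → ℂ) ≠ 0) :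
    c = c₂ := by
  obtain ⟨a, b, hac, hbmax, hp, hbN, -⟩ := D.exists_pair hM hind hcov
  obtain ⟨a₂, b₂, hac₂, hbmax₂, hp₂, hb₂N, -⟩ := D.exists_pair hM hind₂ hcov
  obtain ⟨x, hx⟩ := exists_conjPair_eq hM hbmax hbmax₂
  have hx1 : b₂.1.map (MulAut.conj x).toMonoidHom = b.1 := congrArg Sigma.fst hx
  have hxH : x ∈ Subgroup.normalizer (Q : Set G) := mem_normalizer_of_forall_conj fun y hy => by
    rw [← hb₂N] at hy
    rw [← hbN, ← hx1]
    exact ⟨⟨y, hy.1, rfl⟩, hN.conj_mem _ hy.2 x⟩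
  have hp' : IsPush (conjPair (⟨x, hxH⟩ : Subgroup.normalizer (Q : Set G)) a₂) b := by
    have := IsPush.conj hp₂ (⟨x, hxH⟩ : Subgroup.normalizer (Q : Set G))
    rw [show conjPair ((⟨x, hxH⟩ : Subgroup.normalizer (Q : Set G)) : G) b₂ = b from hx] at this
    exact this
  have ha := IsPush.pull_unique hp' hp
  have hc₂ : IsBrauerPairOf p M c₂ a.1 a.2 := by
    rw [← ha]
    exact isBrauerPairOf_conj hac₂ _
  exact (existsUnique_isBrauerPairOf hM hac.1).unique hac hc₂

/-- **Harris–Knörr.** -/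
theorem harris_knorr (hM : IsPModular p M) (D : LocalData p M Q N d e' hQN) :
    (∀ c : Set (IrrCharacter (Subgroup.normalizer (Q : Set G))), IsPBlock M c →
      (∃ ψ ∈ c, ∃ η ∈ e', classInner (fun l : normH Q N =>
        (ψ : Subgroup.normalizer (Q : Set G) → ℂ) l) (η : normH Q N → ℂ) ≠ 0) →
      ∃! B : Set (IrrCharacter G), IsInducedBlock M (Subgroup.normalizer (Q : Set G)) c B ∧
        ∃ χ ∈ B, ∃ θ ∈ d, classInner (fun n : N => (χ : G → ℂ) n) (θ : N → ℂ) ≠ 0) ∧
    (∀ B : Set (IrrCharacter G), IsPBlock M B →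
      (∃ χ ∈ B, ∃ θ ∈ d, classInner (fun n : N => (χ : G → ℂ) n) (θ : N → ℂ) ≠ 0) →
      ∃! c : Set (IrrCharacter (Subgroup.normalizer (Q : Set G))),
        (IsPBlock M c ∧ ∃ ψ ∈ c, ∃ η ∈ e', classInner (fun l : normH Q N =>
          (ψ : Subgroup.normalizer (Q : Set G) → ℂ) l) (η : normH Q N → ℂ) ≠ 0) ∧
        IsInducedBlock M (Subgroup.normalizer (Q : Set G)) c B) := by
  constructor
  · intro c hc hcov
    obtain ⟨ξ, hξ⟩ := IsPBlock.nonempty hc
    obtain ⟨ψ, hψ⟩ := exists_induced_char hM D.pgroup Subgroup.le_normalizer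
      (centralizer_le_normalizer' Q) le_rfl ξ
    have hind : IsInducedBlock M (Subgroup.normalizer (Q : Set G)) c
        (blockOf M (ψ : G → ℂ)) :=
      isInducedBlock_of_pair hc (isPBlock_blockOf ψ) hξ (self_mem_blockOf ψ) fun g => by
        have h := hψ _ (isRCentral_classIndicator (M := M) g)
        rwa [omega_classIndicator (irr_isClassFunction ψ)] at h
    exact ⟨_, ⟨hind, (D.covers_iff hM hind).1 hcov⟩,
      fun B' hB' => IsInducedBlock.unique hB'.1 hind⟩
  · intro B hB hcov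
    obtain ⟨P, hP, hPN⟩ := exists_defectGroup_inf_eq N hM hB D.block hcov hQN D.defect
    obtain ⟨c, hc⟩ := exists_isInducedBlock hM D.pgroup Subgroup.le_normalizer
      (centralizer_le_normalizer' Q) le_rfl hB hP (x := 1)
      (by rintro _ ⟨z, hz, rfl⟩; rw [← hPN] at hz; simpa using hz.1)
    exact ⟨c, ⟨⟨hc.1, (D.covers_iff hM hc).2 hcov⟩, hc⟩,
      fun c' hc' => D.inducing_unique' hM hc'.2 hc hcov⟩

end Cfsg.Agent.Lib.BlockHeights
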