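import Cfsg.Agent.Lib.BrauerPairs.FirstMain
import Cfsg.Agent.Lib.Blocks.Covering3

/-!
# Covering blocks and the normaliser of a defect group: idempotents

`N` is normal in `G`, `Q ≤ N`, `H` is the normaliser of `Q` in `G`.
-/

set_option autoImplicit false
set_option linter.unusedSectionVars false
set_option linter.style.haveILetI false

namespace Cfsg.Agent.Lib.BlockHeights

open Cfsg Cfsg.Agent.Lib.Blocks Cfsg.Agent.Lib.Characters Cfsg.Agent.Lib.BrauerPairs

universe u

theorem omega_transIrr {H K : Type u} [Group H] [Group K] [Fintype H] [Fintype K] (e : H ≃* K)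
    (ξ : IrrCharacter H) (F : K → ℂ) :
    omega (transIrr e ξ : K → ℂ) F = omega (ξ : H → ℂ) (fun h => F (e h)) := by
  rw [omega, omega, show (1 : K) = e 1 from e.map_one.symm, transIrr_apply]
  congr 1
  refine (Fintype.sum_equiv e.toEquiv _ _ fun h => ?_).symm
  show F (e h) * _ = F (e h) * (transIrr e ξ : K → ℂ) (e h)
  rw [transIrr_apply]

theorem classInner_transIrr {H K : Type u} [Group H] [Group K] [Fintype H] [Fintype K] (e : H ≃* K)
    (ξ : IrrCharacter H) (f : K → ℂ) :
    classInner f (transIrr e ξ : K → ℂ) = classInner (fun h => f (e h)) (ξ : H → ℂ) := by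
  rw [classInner, classInner, Nat.card_congr e.toEquiv]
  congr 1
  refine (Fintype.sum_equiv e.toEquiv _ _ fun h => ?_).symm
  show f (e h) * _ = f (e h) * (starRingEnd ℂ) ((transIrr e ξ : K → ℂ) (e h))
  rw [transIrr_apply]

theorem mem_normalizer_of_forall_conj {G : Type u} [Group G] [Finite G] {Q : Subgroup G} {a : G}
    (h : ∀ x ∈ Q, a * x * a⁻¹ ∈ Q) : a ∈ Subgroup.normalizer (Q : Set G) := by
  have hle : Q.map (MulAut.conj a).toMonoidHom ≤ Q := by
    rintro _ ⟨x, hx, rfl⟩
    exact h x hx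
  have heq : Q.map (MulAut.conj a).toMonoidHom = Q := Subgroup.eq_of_le_of_card_ge hle
    (Subgroup.card_map_of_injective (f := (MulAut.conj a).toMonoidHom) (MulAut.conj a).injective).ge
  rw [Subgroup.mem_normalizer_iff]
  intro x
  refine ⟨h x, fun hx => ?_⟩
  rw [← heq] at hx
  obtain ⟨y, hy, hyx⟩ := hx
  have : y = x := (MulAut.conj a).injective hyx
  exact this ▸ hy

variable {G : Type u} [Group G] (Q N : Subgroup G)

/-- `N_N(Q)` inside `N`. -/
abbrev normN : Subgroup N := Subgroup.normalizer ((Q.subgroupOf N : Subgroup N) : Set N)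

/-- `N_N(Q)` inside `N_G(Q)`. -/
abbrev normH : Subgroup (Subgroup.normalizer (Q : Set G)) :=
  N.subgroupOf (Subgroup.normalizer (Q : Set G))

variable {Q N}

/-- The two copies of `N_N(Q)`. -/
def normEquiv [Fintype G] (hQN : Q ≤ N) : normH Q N ≃* normN Q N where
  toFun b := ⟨⟨((b : Subgroup.normalizer (Q : Set G)) : G), Subgroup.mem_subgroupOf.1 b.2⟩,
    (mem_normalizer_subgroupOf hQN _).2 (b : Subgroup.normalizer (Q : Set G)).2⟩
  invFun c := ⟨⟨((c : N) : G), (mem_normalizer_subgroupOf hQN _).1 c.2⟩,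
    Subgroup.mem_subgroupOf.2 (c : N).2⟩
  left_inv _ := rfl
  right_inv _ := rfl
  map_mul' _ _ := rfl

/-- `N_G(Q) ∩ N` as `N_N(Q)` inside `N`. -/
def infEquiv [Fintype G] (hQN : Q ≤ N) :
    (Subgroup.normalizer (Q : Set G) ⊓ N : Subgroup G) ≃* normN Q N where
  toFun a := ⟨⟨(a : G), a.2.2⟩, (mem_normalizer_subgroupOf hQN _).2 a.2.1⟩
  invFun c := ⟨((c : N) : G), (mem_normalizer_subgroupOf hQN _).1 c.2, (c : N).2⟩
  left_inv _ := rfl
  right_inv _ := rfl
  map_mul' _ _ := rfl

variable [Fintype G] {M : Ideal AlgInt} [hMp : M.IsPrime] {p : ℕ}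

variable (Q N) in
/-- Restriction from `N` to `N_N(Q) ≤ N_G(Q)`. -/
def resB (F : N → ℂ) : normH Q N → ℂ :=
  fun b => F ⟨((b : Subgroup.normalizer (Q : Set G)) : G), Subgroup.mem_subgroupOf.1 b.2⟩

variable [hN : N.Normal] [Fintype N] [Fintype (Subgroup.normalizer (Q : Set G))]
  [Fintype (normH Q N)] [Fintype (normN Q N)]

/-- `η` lies above `θ` under block induction from `N_N(Q)` to `N`. -/
def InducesTo (M : Ideal AlgInt) (η : IrrCharacter (normH Q N)) (θ : IrrCharacter N) : Prop :=
  ∀ F : N → ℂ, IsRCentral M F →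
    MemLocalIdeal M (omega (η : normH Q N → ℂ) (resB Q N F) - omega (θ : N → ℂ) F)

theorem resFun_normN_eq (hQN : Q ≤ N) (η : IrrCharacter (normH Q N)) (F : N → ℂ) :
    omega (transIrr (normEquiv hQN) η : normN Q N → ℂ) (resFun (normN Q N) F) =
      omega (η : normH Q N → ℂ) (resB Q N F) := by
  rw [omega_transIrr]
  rfl

theorem exists_inducesTo (hM : IsPModular p M) (hQ : IsPGroup p Q) (hQN : Q ≤ N)
    (η : IrrCharacter (normH Q N)) : ∃ θ : IrrCharacter N, InducesTo M η θ := by
  obtain ⟨θ, hθ⟩ := exists_induced_char hM (H := normN Q N)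
    (hQ.of_equiv (Subgroup.subgroupOfEquivOfLe hQN).symm : IsPGroup p (Q.subgroupOf N))
    Subgroup.le_normalizer (centralizer_le_normalizer' _) le_rfl (transIrr (normEquiv hQN) η)
  refine ⟨θ, fun F hF => ?_⟩
  rw [← resFun_normN_eq hQN]
  exact hθ F hF

theorem InducesTo.sameBlock {η : IrrCharacter (normH Q N)} {θ θ' : IrrCharacter N}
    (h : InducesTo M η θ) (h' : InducesTo M η θ') : SameBlock M (θ : N → ℂ) (θ' : N → ℂ) := by
  intro n
  have h1 := memLocalIdeal_sub (h' _ (isRCentral_classIndicator (M := M) n))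
    (h _ (isRCentral_classIndicator (M := M) n))
  rw [omega_classIndicator (irr_isClassFunction θ), omega_classIndicator (irr_isClassFunction θ')]
    at h1
  simpa using h1

theorem InducesTo.isInducedBlock (hQN : Q ≤ N) {η : IrrCharacter (normH Q N)} {θ : IrrCharacter N}
    (h : InducesTo M η θ) :
    IsInducedBlock M (normN Q N) (blockOf M (transIrr (normEquiv hQN) η : normN Q N → ℂ))
      (blockOf M (θ : N → ℂ)) := by
  refine isInducedBlock_of_pair (isPBlock_blockOf _) (isPBlock_blockOf θ) (self_mem_blockOf _)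
    (self_mem_blockOf θ) fun n => ?_
  rw [resFun_normN_eq hQN, ← omega_classIndicator (irr_isClassFunction θ)]
  exact h _ (isRCentral_classIndicator (M := M) n)

theorem InducesTo.conj {η : IrrCharacter (normH Q N)} {θ : IrrCharacter N}
    (h : InducesTo M η θ) (a : Subgroup.normalizer (Q : Set G)) :
    InducesTo M (conjIrrN (normH Q N) a η) (conjIrrN N (a : G) θ) := by
  intro F hF
  show MemLocalIdeal M (omega (conjFun (normH Q N) a (η : normH Q N → ℂ)) _ -
    omega (conjFun N (a : G) (θ : N → ℂ)) F)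
  rw [omega_conjFun, omega_conjFun]
  exact h (conjFun N (a : G)⁻¹ F) (isRCentral_conjFun N hF _)

theorem inducedCentralCharIn_eq_normN (hQN : Q ≤ N)
    (ξ : IrrCharacter (Subgroup.normalizer (Q : Set G) ⊓ N : Subgroup G)) (h : N) :
    inducedCentralCharIn N (Subgroup.normalizer (Q : Set G) ⊓ N)
        (ξ : (Subgroup.normalizer (Q : Set G) ⊓ N : Subgroup G) → ℂ) (h : G) =
      inducedCentralChar (normN Q N) (transIrr (infEquiv hQN) ξ : _ → ℂ) h := by
  rw [inducedCentralCharIn, inducedCentralChar, finsum_mem_def, finsum_mem_def]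
  refine Eq.trans (finsum_congr fun k => ?_) (finsum_comp_equiv (infEquiv hQN).toEquiv)
  show _ = Set.indicator _ _ (infEquiv hQN k)
  have hiff : (∃ x : N, (x : G) * (k : G) * (x : G)⁻¹ = (h : G)) ↔
      IsConj h ((infEquiv hQN k : normN Q N) : N) := by
    rw [isConj_iff]
    constructor
    · rintro ⟨x, hx⟩
      refine ⟨x⁻¹, Subtype.ext ?_⟩
      show (x : G)⁻¹ * (h : G) * (x : G)⁻¹⁻¹ = (k : G)
      simp [← hx, mul_assoc]
    · rintro ⟨x, hx⟩
      refine ⟨x⁻¹, ?_⟩
      have hx' : (x : G) * (h : G) * (x : G)⁻¹ = (k : G) := congrArg Subtype.val hx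
      simp [← hx', mul_assoc]
  by_cases hk : ∃ x : N, (x : G) * (k : G) * (x : G)⁻¹ = (h : G)
  · rw [Set.indicator_of_mem (by exact hk), Set.indicator_of_mem (by exact hiff.1 hk),
      show (1 : normN Q N) = infEquiv hQN 1 from (map_one _).symm, transIrr_apply, transIrr_apply]
  · rw [Set.indicator_of_notMem (by exact hk), Set.indicator_of_notMem]
    exact fun hh => hk (hiff.2 hh)

/-- The data: `e` induces `d` inside `N` and both have defect group `Q`. -/
structure LocalData (p : ℕ) (M : Ideal AlgInt) (Q N : Subgroup G)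
    (d : Set (IrrCharacter N)) (e' : Set (IrrCharacter (normH Q N))) (hQN : Q ≤ N) : Prop where
  pgroup : IsPGroup p Q
  block : IsPBlock M d
  defect : IsDefectGroup p M d (Q.subgroupOf N)
  induced : IsInducedBlock M (normN Q N) (transBlock (normEquiv hQN) e') d
  defect' : IsDefectGroup p M (transBlock (normEquiv hQN) e')
    ((Q.subgroupOf N).subgroupOf (normN Q N))

theorem LocalData.mk' (hM : IsPModular p M) (hQ : IsPGroup p Q) (hQN : Q ≤ N)
    [Fintype (Subgroup.normalizer (Q : Set G) ⊓ N : Subgroup G)]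
    {d : Set (IrrCharacter N)} (hd : IsPBlock M d) (hdQ : IsDefectGroup p M d (Q.subgroupOf N))
    {e : Set (IrrCharacter (Subgroup.normalizer (Q : Set G) ⊓ N : Subgroup G))}
    (he : IsPBlock M e)
    (heQ : IsDefectGroup p M e (Q.subgroupOf (Subgroup.normalizer (Q : Set G) ⊓ N)))
    (hed : IsInducedBlockIn M N (Subgroup.normalizer (Q : Set G) ⊓ N) e d) :
    LocalData p M Q N d (transBlock ((infEquiv hQN).trans (normEquiv hQN).symm) e) hQN := by
  haveI := Fact.mk hM.1
  have htr : transBlock (normEquiv hQN)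
      (transBlock ((infEquiv hQN).trans (normEquiv hQN).symm) e) = transBlock (infEquiv hQN) e := by
    rw [transBlock, transBlock, transBlock, Set.image_image]
    exact Set.image_congr fun ξ _ => Subtype.ext (funext fun _ => rfl)
  refine ⟨hQ, hd, hdQ, ?_, ?_⟩
  · rw [htr]
    refine ⟨isPBlock_transBlock _ he, hd, ?_⟩
    rintro _ ⟨ξ, hξ, rfl⟩ χ hχ g
    rw [← inducedCentralCharIn_eq_normN hQN ξ g]
    exact hed.2.2 ξ hξ χ hχ g
  · rw [htr]
    convert isDefectGroup_transBlock (infEquiv hQN) heQ using 1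
    ext c
    exact ⟨fun hc => ⟨(infEquiv hQN).symm c, hc, (infEquiv hQN).apply_symm_apply c⟩,
      fun ⟨a, ha, hac⟩ => hac ▸ ha⟩

variable {d : Set (IrrCharacter N)} {e' : Set (IrrCharacter (normH Q N))} {hQN : Q ≤ N}

theorem LocalData.isPBlock' (D : LocalData p M Q N d e' hQN) : IsPBlock M e' := by
  have h := isPBlock_transBlock (M := M) (normEquiv hQN).symm D.induced.1
  convert h using 1
  rw [transBlock, transBlock, Set.image_image]
  symm
  refine (Set.image_congr fun ξ _ => ?_).trans (Set.image_id e')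
  exact Subtype.ext (funext fun _ => rfl)

theorem LocalData.inducesTo (D : LocalData p M Q N d e' hQN) {η : IrrCharacter (normH Q N)}
    (hη : η ∈ e') {θ : IrrCharacter N} (hθ : θ ∈ d) : InducesTo M η θ := fun F hF => by
  rw [← resFun_normN_eq hQN]
  exact IsInducedBlock.omega_congr D.induced ⟨η, hη, rfl⟩ hθ hF

theorem mem_conjClosure_of_sameBlock {d : Set (IrrCharacter N)} (hd : IsPBlock M d) {g : G}
    {θ θ' : IrrCharacter N} (hθ : θ ∈ d)
    (hs : SameBlock M (conjIrrN N g θ : N → ℂ) (θ' : N → ℂ)) : θ' ∈ conjClosure N d := by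
  refine ⟨g, conjIrrN N g⁻¹ θ', (IsPBlock.mem_iff hd hθ).2 ?_, (conjIrrN_cancel_inv N g θ').symm⟩
  have h := sameBlock_conjFun N hs g⁻¹
  rwa [conjIrrN_inv_cancel] at h

/-- **The local orbit of `e` is the preimage of the orbit of `d`.** -/
theorem LocalData.mem_closure_iff (hM : IsPModular p M) (D : LocalData p M Q N d e' hQN)
    {η : IrrCharacter (normH Q N)} {θ : IrrCharacter N} (h : InducesTo M η θ) :
    η ∈ conjClosure (normH Q N) e' ↔ θ ∈ conjClosure N d := by
  classical
  haveI := Fact.mk hM.1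
  constructor
  · rintro ⟨a, η₀, hη₀, rfl⟩
    obtain ⟨θd, hθd⟩ := IsPBlock.nonempty D.block
    exact mem_conjClosure_of_sameBlock D.block hθd
      (((D.inducesTo hη₀ hθd).conj a).sameBlock h)
  · rintro ⟨g, θd, hθd, rfl⟩
    -- a defect group of the block of `η` contains `Q`
    obtain ⟨R, hR⟩ := exists_isDefectGroup hM
      (isPBlock_blockOf (M := M) (transIrr (normEquiv hQN) η))
    haveI : ((Q.subgroupOf N).subgroupOf (normN Q N)).Normal :=
      subgroupOf_normal_of_le_normalizer le_rfl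
    have hQR : (Q.subgroupOf N).subgroupOf (normN Q N) ≤ R := le_of_isDefectGroup hM
      ((D.pgroup.of_equiv (Subgroup.subgroupOfEquivOfLe hQN).symm).of_equiv
        (Subgroup.subgroupOfEquivOfLe Subgroup.le_normalizer).symm)
      (isPBlock_blockOf _) hR
    obtain ⟨E, hE, hRE⟩ := exists_le_defectGroup hM (h.isInducedBlock hQN) hR
    have hQE : Q.subgroupOf N ≤ E := fun x hx =>
      hRE ⟨⟨x, Subgroup.le_normalizer hx⟩, hQR hx, rfl⟩
    -- transport the defect group of `d`
    set σ : N ≃* N := MulAut.conjNormal g⁻¹ with hσ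
    have hblk : blockOf M (conjIrrN N g θd : N → ℂ) = transBlock σ d := by
      have hmem : conjIrrN N g θd ∈ transBlock σ d := by
        refine ⟨θd, hθd, Subtype.ext (funext fun n => ?_)⟩
        show (θd : N → ℂ) (σ.symm n) = (θd : N → ℂ) _
        refine congrArg _ (Subtype.ext ?_)
        rw [hσ, ← MulAut.inv_def, ← map_inv, inv_inv, MulAut.conjNormal_apply]
      exact (IsPBlock.eq_blockOf (isPBlock_transBlock σ D.block) hmem).symm
    rw [hblk] at hE
    obtain ⟨n, hn⟩ := IsDefectGroup.exists_map_conj_eq hM (isPBlock_transBlock σ D.block) hE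
      (isDefectGroup_transBlock σ D.defect)
    have hcardE : Nat.card E = Nat.card (Q.subgroupOf N) := by
      rw [← Subgroup.card_map_of_injective (f := (MulAut.conj n).toMonoidHom)
        (MulAut.conj n).injective, hn,
        Subgroup.card_map_of_injective (f := σ.toMonoidHom) σ.injective]
    have hEQ : Q.subgroupOf N = E := Subgroup.eq_of_le_of_card_ge hQE hcardE.le
    -- `g n` normalises `Q`
    have hgn : g * (n : G) ∈ Subgroup.normalizer (Q : Set G) := by
      have hsub : ∀ x ∈ Q, g * (n : G) * x * (g * (n : G))⁻¹ ∈ Q := by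
        intro x hx
        have h1 : (MulAut.conj n).toMonoidHom ⟨x, hQN hx⟩ ∈
            (Q.subgroupOf N).map σ.toMonoidHom := by
          rw [← hn, ← hEQ]
          exact ⟨_, hx, rfl⟩
        obtain ⟨y, hy, hyx⟩ := h1
        have h2 : g⁻¹ * (y : G) * g = (n : G) * x * (n : G)⁻¹ := by
          have := congrArg Subtype.val hyx
          simpa [hσ, MulAut.conjNormal_apply] using this
        have h3 : g * (n : G) * x * (g * (n : G))⁻¹ = (y : G) := by
          rw [mul_inv_rev, show g * (n : G) * x * ((n : G)⁻¹ * g⁻¹) =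
            g * ((n : G) * x * (n : G)⁻¹) * g⁻¹ by group, ← h2]
          group
        rw [h3]
        exact hy
      exact mem_normalizer_of_forall_conj hsub
    -- conjugate back
    have hθ : conjIrrN N (g * (n : G)) θd = conjIrrN N g θd := by
      refine Subtype.ext (funext fun x => ?_)
      show (θd : N → ℂ) _ = (θd : N → ℂ) _
      rw [← irr_isClassFunction θd ⟨g * (x : G) * g⁻¹, hN.conj_mem x x.2 g⟩
        ⟨g * (n : G) * g⁻¹, hN.conj_mem n n.2 g⟩]
      refine congrArg _ (Subtype.ext ?_)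
      simp [mul_assoc]
    rw [← hθ] at h
    have h' := h.conj (⟨g * (n : G), hgn⟩⁻¹ : Subgroup.normalizer (Q : Set G))
    rw [show ((⟨g * (n : G), hgn⟩⁻¹ : Subgroup.normalizer (Q : Set G)) : G) = (g * (n : G))⁻¹
      from rfl, conjIrrN_inv_cancel] at h'
    set η' := conjIrrN (normH Q N) (⟨g * (n : G), hgn⟩⁻¹ : Subgroup.normalizer (Q : Set G)) η
    have hind' : IsInducedBlock M (normN Q N)
        (blockOf M (transIrr (normEquiv hQN) η' : normN Q N → ℂ)) d := by
      have h1 := h'.isInducedBlock hQN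
      rwa [← IsPBlock.eq_blockOf D.block hθd] at h1
    have heq := eq_of_isInducedBlock hM D.induced hind' D.defect'
    obtain ⟨η₁, hη₁, heq₁⟩ : transIrr (normEquiv hQN) η' ∈ transBlock (normEquiv hQN) e' :=
      heq ▸ self_mem_blockOf _
    exact ⟨⟨g * (n : G), hgn⟩, η', transIrr_injective _ heq₁ ▸ hη₁,
      by rw [← conjIrrN_inv_cancel (normH Q N) (⟨g * (n : G), hgn⟩⁻¹ :
        Subgroup.normalizer (Q : Set G)) η, inv_inv]⟩

end Cfsg.Agent.Lib.BlockHeights
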