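import Cfsg.Agent.Lib.Blocks.Osima
import Cfsg.Agent.Lib.Blocks.PermTrace
import Cfsg.Agent.Lib.BlockHeights.RegInd
import Cfsg.Agent.Lib.BlockHeights.Galois

/-!
# Weak block orthogonality

`∑ χ ∈ B, χ s * χ v = 0` for `s` not `p`-regular and `v` `p`-regular; hence the block idempotent
is supported on the `p`-regular elements and characters of different blocks are orthogonal on
them.
-/

set_option autoImplicit false
set_option linter.unusedSectionVars false
set_option linter.style.haveILetI false

namespace Cfsg.Agent.Lib.BlockHeights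

open Cfsg Cfsg.Agent.Lib.Blocks Cfsg.Agent.Lib.Characters
open scoped ComplexConjugate

universe u

variable {G : Type u} [Group G] [Fintype G] {p : ℕ} {M : Ideal AlgInt} [M.IsPrime]

omit [Group G] [M.IsPrime] in
theorem ite_sum_zero (P : Prop) [Decidable P] {ι : Type*} (t : Finset ι) (f : ι → ℂ) :
    (if P then ∑ i ∈ t, f i else 0) = ∑ i ∈ t, if P then f i else 0 := by
  split_ifs <;> simp

omit [M.IsPrime] in
theorem orderOf_dvd_ordCompl (hp : p.Prime) {v : G} (hv : IsPRegular p v) :
    orderOf v ∣ Nat.card G / p ^ (Nat.card G).factorization p := by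
  have h1 : orderOf v ∣ p ^ (Nat.card G).factorization p *
      (Nat.card G / p ^ (Nat.card G).factorization p) := by
    rw [Nat.ordProj_mul_ordCompl_eq_self]; exact orderOf_dvd_natCard v
  exact (((hp.coprime_iff_not_dvd.2 hv).symm).pow_right _).dvd_of_dvd_mul_left h1

theorem sum_block_mul_eq_zero (hM : IsPModular p M) {B : Set (IrrCharacter G)}
    (hB : IsPBlock M B) [Fintype (IrrCharacter G)] [DecidablePred (· ∈ B)] {s v : G}
    (hs : ¬ IsPRegular p s) (hv : IsPRegular p v) :
    ∑ χ : IrrCharacter G, (if χ ∈ B then (χ : G → ℂ) s * (χ : G → ℂ) v else 0) = 0 := by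
  classical
  haveI := Fact.mk hM.1
  haveI := resField_charP (M := M) hM
  obtain ⟨a, c, hsac, hac, ⟨ka, hka⟩, hc, -, -⟩ := exists_pPart_decomp hM.1 s
  have ha1 : a ≠ 1 := by
    rintro rfl
    rw [one_mul] at hsac
    exact hs (hsac ▸ (hM.1.coprime_iff_not_dvd).1 hc.symm)
  set m := Nat.card G / p ^ (Nat.card G).factorization p with hm
  have hmpos : 0 < m :=
    Nat.ordCompl_pos p Nat.card_pos.ne'
  have hpm : ¬ p ∣ m := Nat.not_dvd_ordCompl hM.1 Nat.card_pos.ne'
  haveI : NeZero m := ⟨hmpos.ne'⟩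
  have hcm : c ^ m = 1 := orderOf_dvd_iff_pow_eq_one.1
    (orderOf_dvd_ordCompl hM.1 ((hM.1.coprime_iff_not_dvd).1 hc.symm))
  have hvm : v ^ m = 1 := orderOf_dvd_iff_pow_eq_one.1 (orderOf_dvd_ordCompl hM.1 hv)
  have he := isRCentral_blockCoeff hM hB
  let w : Matrix G G (locSubring M) := Matrix.of fun x y => ⟨blockCoeff B (x⁻¹ * y), he.2 _⟩
  let uu : Equiv.Perm G := Equiv.mulRight a
  let hh : Equiv.Perm G := Equiv.mulLeft v * Equiv.mulRight c
  have hRpow : ∀ (t : G) (i : ℕ) x, ((Equiv.mulRight t : Equiv.Perm G) ^ i) x = x * t ^ i := by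
    intro t i
    induction i with
    | zero => simp
    | succ i ih =>
      intro x
      rw [pow_succ', Equiv.Perm.mul_apply, ih, Equiv.coe_mulRight]
      simp only [mul_assoc, ← pow_succ]
  have hhpow : ∀ (i : ℕ) x, (hh ^ i) x = v ^ i * x * c ^ i := by
    intro i
    induction i with
    | zero => simp
    | succ i ih =>
      intro x
      rw [pow_succ', Equiv.Perm.mul_apply, ih]
      simp only [hh, Equiv.Perm.mul_apply, Equiv.coe_mulLeft, Equiv.coe_mulRight, pow_succ' v,
        pow_succ c, mul_assoc]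
  have hζ : IsPrimitiveRoot (zeta m) m := isPrimitiveRoot_zeta m
  have hζR : MemLocalRing M (zeta m) :=
    memLocalRing_of_isIntegral' (isIntegral_of_pow_eq_one hmpos.ne' hζ.pow_eq_one)
  have key := sum_apply_perm_mul_eq_zero p uu hh ka m hmpos hpm
    (by ext x; rw [hRpow, ← hka, pow_orderOf_eq_one, mul_one]; rfl)
    (by ext x; rw [hhpow, hvm, hcm, one_mul, mul_one]; rfl)
    (by
      refine Equiv.ext fun x => ?_
      simp only [uu, hh, Equiv.Perm.mul_apply, Equiv.coe_mulLeft, Equiv.coe_mulRight, mul_assoc]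
      rw [hac.eq])
    (⟨zeta m, hζR⟩ : locSubring M)
    (IsPrimitiveRoot.of_map_of_injective (f := (locSubring M).subtype) hζ Subtype.val_injective)
    w
    (by
      ext x y
      rw [Matrix.mul_apply, AddSubmonoidClass.coe_finsetSum]
      simp only [w, Matrix.of_apply, Subring.coe_mul]
      conv_rhs => rw [← blockCoeff_conv_self B]
      unfold conv
      exact Fintype.sum_equiv (Equiv.mulLeft x⁻¹) _ _ fun z => by
        simp [mul_assoc])
    (fun x y => Subtype.ext (by
      show blockCoeff B ((x * a)⁻¹ * (y * a)) = blockCoeff B (x⁻¹ * y)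
      rw [show (x * a)⁻¹ * (y * a) = a⁻¹ * (x⁻¹ * y) * a⁻¹⁻¹ by group]
      exact isClassFunction_blockCoeff B _ _))
    (fun x y => Subtype.ext (by
      show blockCoeff B ((v * (x * c))⁻¹ * (v * (y * c))) = blockCoeff B (x⁻¹ * y)
      rw [show (v * (x * c))⁻¹ * (v * (y * c)) = c⁻¹ * (x⁻¹ * y) * c⁻¹⁻¹ by group]
      exact isClassFunction_blockCoeff B _ _))
    (fun x y hx _ => absurd (mul_left_cancel (hx.trans (mul_one x).symm)) ha1)
  have key' : ∑ x : G, blockCoeff B (x⁻¹ * (v * (x * s))) = 0 := by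
    have h := congrArg (Subtype.val : locSubring M → ℂ) key
    rw [AddSubmonoidClass.coe_finsetSum] at h
    rw [show ((0 : locSubring M) : ℂ) = 0 from rfl] at h
    rw [← h]
    refine Finset.sum_congr rfl fun x _ => ?_
    simp [w, uu, hh, hsac.symm, mul_assoc]
  have hone : ∀ χ : IrrCharacter G, ∑ x : G, (χ : G → ℂ) (x⁻¹ * (v * (x * s))) =
      (Nat.card G : ℂ) * (χ : G → ℂ) s * (χ : G → ℂ) v / (χ : G → ℂ) 1 := by
    intro χ
    rw [← sum_char_mul_conj χ.2 s v]
    refine Fintype.sum_equiv (Equiv.inv G) _ _ fun x => ?_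
    simp only [Equiv.inv_apply, inv_inv]
    rw [classFunction_mul_comm (irr_isClassFunction χ) s]
    group
  have hsum : ∑ x : G, blockCoeff B (x⁻¹ * (v * (x * s))) =
      conj (∑ χ : IrrCharacter G, if χ ∈ B then (χ : G → ℂ) s * (χ : G → ℂ) v else 0) := by
    simp only [blockCoeff, finsum_irr_eq_sum_ite]
    simp only [Finset.mul_sum, map_sum]
    rw [Finset.sum_comm]
    refine Finset.sum_congr rfl fun χ _ => ?_
    split_ifs with h
    · rw [← Finset.mul_sum, ← Finset.mul_sum, ← map_sum, hone]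
      obtain ⟨n, -, hn⟩ := IsIrrCharacter.exists_apply_one χ.2
      have hn0 : (χ : G → ℂ) 1 ≠ 0 := IsIrrCharacter.apply_one_ne_zero χ.2
      have hN : (Nat.card G : ℂ) ≠ 0 := natCard_ne_zero_complex
      rw [map_div₀, map_mul, map_mul, map_natCast, map_mul,
        show conj ((χ : G → ℂ) 1) = (χ : G → ℂ) 1 by rw [hn, map_natCast]]
      field_simp
    · simp
  rw [hsum] at key'
  simpa using congrArg conj key'

/-- **The block idempotent is supported on the `p`-regular elements.** -/
theorem blockCoeff_eq_zero_of_singular (hM : IsPModular p M) {B : Set (IrrCharacter G)}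
    (hB : IsPBlock M B) {s : G} (hs : ¬ IsPRegular p s) : blockCoeff B s = 0 := by
  classical
  haveI := Fintype.ofFinite (IrrCharacter G)
  have h := congrArg conj (sum_block_mul_eq_zero hM hB hs (isPRegular_one (G := G) hM.1))
  rw [map_sum, map_zero] at h
  rw [blockCoeff, finsum_irr_eq_sum_ite]
  refine mul_eq_zero_of_right _ ?_
  refine (Finset.sum_congr rfl fun χ _ => ?_).trans h
  obtain ⟨n, -, hn⟩ := IsIrrCharacter.exists_apply_one χ.2
  split_ifs
  · rw [map_mul, hn, map_natCast]; ring
  · simp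

/-- **Characters of different blocks are orthogonal on the `p`-regular elements.** -/
theorem sum_regInd_mul_eq_zero (hM : IsPModular p M) {B : Set (IrrCharacter G)}
    (hB : IsPBlock M B) {χ ψ : IrrCharacter G} (hχ : χ ∈ B) (hψ : ψ ∉ B) :
    ∑ y : G, regInd p y * ((χ : G → ℂ) y * conj ((ψ : G → ℂ) y)) = 0 := by
  classical
  haveI := Fintype.ofFinite (IrrCharacter G)
  let A : IrrCharacter G → ℂ := fun χ' =>
    ∑ y : G, regInd p y * ((χ' : G → ℂ) y * conj ((ψ : G → ℂ) y))
  have hzero : ∀ v : G, IsPRegular p v →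
      ∑ χ' : IrrCharacter G, (if χ' ∈ B then conj ((χ' : G → ℂ) v) * A χ' else 0) = 0 := by
    intro v hv
    have hvi : IsPRegular p v⁻¹ := by rwa [IsPRegular, orderOf_inv]
    have h1 : ∑ χ' : IrrCharacter G, (if χ' ∈ B then conj ((χ' : G → ℂ) v) * A χ' else 0) =
        ∑ χ' : IrrCharacter G, if χ' ∈ B then conj ((χ' : G → ℂ) v) *
          ∑ y : G, (χ' : G → ℂ) y * conj ((ψ : G → ℂ) y) else 0 := by
      simp only [A, Finset.mul_sum, ite_sum_zero]
      rw [Finset.sum_comm]
      conv_rhs => rw [Finset.sum_comm]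
      refine Finset.sum_congr rfl fun y _ => ?_
      by_cases hy : IsPRegular p y
      · simp [regInd_of_regular hy]
      · have h0 : ∑ χ' : IrrCharacter G, (if χ' ∈ B then conj ((χ' : G → ℂ) v) *
            ((χ' : G → ℂ) y * conj ((ψ : G → ℂ) y)) else 0) = 0 := by
          have := congrArg (· * conj ((ψ : G → ℂ) y)) (sum_block_mul_eq_zero hM hB hy hvi)
          simp only [zero_mul, Finset.sum_mul, ite_mul] at this
          refine (Finset.sum_congr rfl fun χ' _ => ?_).trans this
          rw [IsCharacter.apply_inv (irr_isCharacter χ')]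
          split_ifs <;> ring
        rw [h0]
        simp [regInd_of_singular hy]
    rw [h1]
    refine Finset.sum_eq_zero fun χ' _ => ?_
    split_ifs with h
    · have hne : χ' ≠ ψ := fun e => hψ (e ▸ h)
      have h2 := classInner_irr χ' ψ
      rw [if_neg hne, classInner, mul_eq_zero] at h2
      rw [h2.resolve_left (inv_ne_zero natCard_ne_zero_complex), mul_zero]
    · rfl
  have hsq : ∑ χ' : IrrCharacter G, (if χ' ∈ B then A χ' * conj (A χ') else 0) = 0 := by
    have : ∀ χ' : IrrCharacter G, conj (A χ') =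
        ∑ v : G, regInd p v * ((ψ : G → ℂ) v * conj ((χ' : G → ℂ) v)) := by
      intro χ'
      simp only [A, map_sum, map_mul, conj_regInd, Complex.conj_conj]
      exact Finset.sum_congr rfl fun v _ => by ring
    simp only [this, Finset.mul_sum, ite_sum_zero]
    rw [Finset.sum_comm]
    refine Finset.sum_eq_zero fun v _ => ?_
    by_cases hv : IsPRegular p v
    · refine (Finset.sum_congr rfl fun χ' _ => ?_).trans (?_ : ∑ χ' : IrrCharacter G,
        (ψ : G → ℂ) v * (if χ' ∈ B then conj ((χ' : G → ℂ) v) * A χ' else 0) = 0)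
      swap
      · rw [← Finset.mul_sum, hzero v hv, mul_zero]
      rw [regInd_of_regular hv]
      split_ifs <;> ring
    · simp [regInd_of_singular hv]
  have hre := congrArg Complex.re hsq
  rw [Complex.re_sum, Complex.zero_re] at hre
  have hnn : ∀ χ' ∈ (Finset.univ : Finset (IrrCharacter G)),
      0 ≤ (if χ' ∈ B then A χ' * conj (A χ') else 0).re := by
    intro χ' _
    split_ifs
    · rw [Complex.mul_conj, Complex.ofReal_re]; exact Complex.normSq_nonneg _
    · simp
  have := (Finset.sum_eq_zero_iff_of_nonneg hnn).1 hre χ (Finset.mem_univ χ)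
  rw [if_pos hχ, Complex.mul_conj, Complex.ofReal_re, Complex.normSq_eq_zero] at this
  exact this

end Cfsg.Agent.Lib.BlockHeights
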