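import Cfsg.Agent.Lib.BlockHeights.CharTools
import Cfsg.Agent.Lib.BlockHeights.ClassExpand
import Cfsg.Agent.Lib.BlockHeights.WeakOrth

/-!
# The integral pairing on the `p`-regular elements, heights, the Brauer–Feit bound

`pairing p χ ψ` is the integer `p ^ a` times the inner product of `χ` and `ψ` restricted to the
`p`-regular elements.
-/

set_option autoImplicit false
set_option linter.unusedSectionVars false
set_option linter.style.haveILetI false

namespace Cfsg.Agent.Lib.BlockHeights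

open Cfsg Cfsg.Agent.Lib.Blocks Cfsg.Agent.Lib.Characters
open scoped ComplexConjugate

universe u

variable {G : Type u} [Group G] [Fintype G] {p : ℕ} {M : Ideal AlgInt} [M.IsPrime]

/-! ### Divisibility through the local ring -/

theorem pow_dvd_of_memLocalRing_div (hM : IsPModular p M) :
    ∀ (v : ℕ) (z : ℤ), MemLocalRing M ((z : ℂ) / (p : ℂ) ^ v) → (p : ℤ) ^ v ∣ z
  | 0, z, _ => by simp
  | v + 1, z, h => by
    have hp0 : (p : ℂ) ≠ 0 := Nat.cast_ne_zero.2 hM.1.ne_zero
    have h1 : MemLocalRing M ((z : ℂ) / (p : ℂ) ^ v) := by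
      have := memLocalRing_mul (memLocalRing_natCast (M := M) p) h
      rwa [show (p : ℂ) * ((z : ℂ) / (p : ℂ) ^ (v + 1)) = (z : ℂ) / (p : ℂ) ^ v by
        rw [pow_succ]; field_simp] at this
    obtain ⟨z', rfl⟩ := pow_dvd_of_memLocalRing_div hM v z h1
    rw [pow_succ]
    refine mul_dvd_mul_left _ ((memLocalIdeal_intCast_iff hM z').1 ?_)
    have := memLocalIdeal_of_p_mul hM h
    rwa [show (p : ℂ) * ((((p : ℤ) ^ v * z' : ℤ) : ℂ) / (p : ℂ) ^ (v + 1)) = (z' : ℂ) by
      push_cast; rw [pow_succ]; field_simp] at this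

theorem memLocalIdeal_div_pow_iff (hM : IsPModular p M) (v : ℕ) (z : ℤ) :
    MemLocalIdeal M ((z : ℂ) / (p : ℂ) ^ v) ↔ (p : ℤ) ^ (v + 1) ∣ z := by
  have hp0 : (p : ℂ) ≠ 0 := Nat.cast_ne_zero.2 hM.1.ne_zero
  constructor
  · intro h
    obtain ⟨z', rfl⟩ := pow_dvd_of_memLocalRing_div hM v z (memLocalIdeal_mem_ring h)
    rw [pow_succ]
    refine mul_dvd_mul_left _ ((memLocalIdeal_intCast_iff hM z').1 ?_)
    rwa [show ((((p : ℤ) ^ v * z' : ℤ)) : ℂ) / (p : ℂ) ^ v = (z' : ℂ) by
      push_cast; field_simp] at h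
  · rintro ⟨z', rfl⟩
    rw [show ((((p : ℤ) ^ (v + 1) * z' : ℤ)) : ℂ) / (p : ℂ) ^ v = (p : ℂ) * (z' : ℂ) by
      push_cast; rw [pow_succ]; field_simp]
    exact memLocalIdeal_of_p_mul hM (memLocalRing_intCast z')

omit [M.IsPrime] in
theorem div_natCast_eq (_hp : p.Prime) {n : ℕ} (x : ℂ) :
    x / (n : ℂ) =
      x / (p : ℂ) ^ n.factorization p * ((n / p ^ n.factorization p : ℕ) : ℂ)⁻¹ := by
  conv_lhs => rw [← Nat.ordProj_mul_ordCompl_eq_self n p, Nat.cast_mul, Nat.cast_pow]
  rw [← div_div, div_eq_mul_inv]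

theorem memLocalRing_div_natCast_iff (hM : IsPModular p M) {n : ℕ} (hn : n ≠ 0) (x : ℂ) :
    MemLocalRing M (x / (n : ℂ)) ↔ MemLocalRing M (x / (p : ℂ) ^ n.factorization p) := by
  have hu : ¬ p ∣ n / p ^ n.factorization p := Nat.not_dvd_ordCompl hM.1 hn
  rw [div_natCast_eq hM.1]
  refine ⟨fun h => ?_, fun h => memLocalRing_mul h (memLocalRing_inv_natCast hM hu)⟩
  have hne : ((n / p ^ n.factorization p : ℕ) : ℂ) ≠ 0 := by
    exact_mod_cast (Nat.ordCompl_pos p hn).ne'
  simpa [mul_assoc, inv_mul_cancel₀ hne] using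
    memLocalRing_mul h (memLocalRing_natCast (M := M) (n / p ^ n.factorization p))

theorem memLocalIdeal_div_natCast_iff (hM : IsPModular p M) {n : ℕ} (hn : n ≠ 0) (x : ℂ) :
    MemLocalIdeal M (x / (n : ℂ)) ↔ MemLocalIdeal M (x / (p : ℂ) ^ n.factorization p) := by
  have hu : ¬ p ∣ n / p ^ n.factorization p := Nat.not_dvd_ordCompl hM.1 hn
  rw [div_natCast_eq hM.1]
  refine ⟨fun h => ?_, fun h => memLocalIdeal_mul_right h (memLocalRing_inv_natCast hM hu)⟩
  have hne : ((n / p ^ n.factorization p : ℕ) : ℂ) ≠ 0 := by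
    exact_mod_cast (Nat.ordCompl_pos p hn).ne'
  simpa [mul_assoc, inv_mul_cancel₀ hne] using
    memLocalIdeal_mul_right h (memLocalRing_natCast (M := M) (n / p ^ n.factorization p))

/-! ### Exponents -/

/-- The exponent of `p` in a degree. -/
noncomputable abbrev nu (p : ℕ) (χ : G → ℂ) : ℕ := (charDegree χ).factorization p

/-- The least exponent of `p` in the degrees of the members of a set of characters. -/
noncomputable abbrev minExp (p : ℕ) (B : Set (IrrCharacter G)) : ℕ :=
  sInf ((fun χ : IrrCharacter G => (charDegree (χ : G → ℂ)).factorization p) '' B)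

omit [M.IsPrime] in
theorem nu_le_card (χ : IrrCharacter G) :
    nu p (χ : G → ℂ) ≤ (Nat.card G).factorization p :=
  (Nat.factorization_le_iff_dvd (charDegree_irr_pos χ).ne' Nat.card_pos.ne').2
    (charDegree_dvd_card χ) p

omit [M.IsPrime] in
theorem minExp_le {B : Set (IrrCharacter G)} {χ : IrrCharacter G} (hχ : χ ∈ B) :
    minExp p B ≤ nu p (χ : G → ℂ) :=
  Nat.sInf_le ⟨χ, hχ, rfl⟩

omit [Fintype G] [M.IsPrime] in
theorem exists_nu_eq_minExp {B : Set (IrrCharacter G)} (hB : B.Nonempty) :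
    ∃ χ ∈ B, nu p (χ : G → ℂ) = minExp p B :=
  Nat.sInf_mem (hB.image fun χ : IrrCharacter G => (charDegree (χ : G → ℂ)).factorization p)

theorem blockDefect_add_minExp {B : Set (IrrCharacter G)} (hB : IsPBlock M B) :
    blockDefect p B + minExp p B = (Nat.card G).factorization p := by
  obtain ⟨χ, hχ, he⟩ := exists_nu_eq_minExp (p := p) (IsPBlock.nonempty hB)
  have := nu_le_card (p := p) χ
  simp only [blockDefect, minExp, nu] at *
  omega

theorem minExp_add_blockHeight {B : Set (IrrCharacter G)} {χ : IrrCharacter G} (hχ : χ ∈ B) :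
    minExp p B + blockHeight p B (χ : G → ℂ) = nu p (χ : G → ℂ) := by
  have := minExp_le (p := p) hχ
  simp only [blockHeight, minExp, nu] at *
  omega

/-! ### The pairing -/

omit [M.IsPrime] in
theorem exists_pairing_int (hp : p.Prime) (χ ψ : IrrCharacter G) :
    ∃ z : ℤ, classInner (pPowReg p * (χ : G → ℂ)) (ψ : G → ℂ) = (z : ℂ) :=
  IsGeneralizedCharacter.exists_classInner_int
    (IsGeneralizedCharacter.mul (isGeneralizedCharacter_pPowReg hp)
      (IsCharacter.isGeneralizedCharacter (irr_isCharacter χ)))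
    (IsCharacter.isGeneralizedCharacter (irr_isCharacter ψ))

open Classical in
/-- `p ^ a` times the inner product of `χ` and `ψ` on the `p`-regular elements. -/
noncomputable def pairing (p : ℕ) (χ ψ : IrrCharacter G) : ℤ :=
  if h : ∃ z : ℤ, classInner (pPowReg p * (χ : G → ℂ)) (ψ : G → ℂ) = (z : ℂ) then h.choose else 0

/-- The part of the group order prime to `p`. -/
noncomputable abbrev ordPart (p : ℕ) (G : Type u) : ℕ :=
  Nat.card G / p ^ (Nat.card G).factorization p

omit [M.IsPrime] in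
theorem ordPart_ne_zero : (ordPart p G : ℂ) ≠ 0 := by
  exact_mod_cast (Nat.ordCompl_pos p Nat.card_pos.ne').ne'

omit [M.IsPrime] in
theorem natCard_eq_mul : (Nat.card G : ℂ) =
    (p : ℂ) ^ (Nat.card G).factorization p * (ordPart p G : ℂ) := by
  conv_lhs => rw [← Nat.ordProj_mul_ordCompl_eq_self (Nat.card G) p]
  push_cast
  rfl

omit [M.IsPrime] in
theorem pairing_eq_classInner (hp : p.Prime) (χ ψ : IrrCharacter G) :
    (pairing p χ ψ : ℂ) = classInner (pPowReg p * (χ : G → ℂ)) (ψ : G → ℂ) := by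
  have h := exists_pairing_int hp χ ψ
  rw [pairing, dif_pos h, ← h.choose_spec]

omit [M.IsPrime] in
theorem pairing_spec (hp : p.Prime) (χ ψ : IrrCharacter G) :
    (pairing p χ ψ : ℂ) = (ordPart p G : ℂ)⁻¹ *
      ∑ y : G, regInd p y * ((χ : G → ℂ) y * conj ((ψ : G → ℂ) y)) := by
  have hp0 : (p : ℂ) ≠ 0 := Nat.cast_ne_zero.2 hp.ne_zero
  rw [pairing_eq_classInner hp, classInner, Finset.mul_sum, Finset.mul_sum]
  refine Finset.sum_congr rfl fun y _ => ?_
  rw [Pi.mul_apply, pPowReg_apply, natCard_eq_mul (p := p)]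
  field_simp

omit [M.IsPrime] in
theorem pairing_symm (hp : p.Prime) (χ ψ : IrrCharacter G) : pairing p χ ψ = pairing p ψ χ := by
  have h : conj ((pairing p χ ψ : ℂ)) = (pairing p ψ χ : ℂ) := by
    rw [pairing_spec hp, pairing_spec hp, map_mul, map_inv₀, map_natCast, map_sum]
    congr 1
    refine Finset.sum_congr rfl fun y _ => ?_
    simp only [map_mul, conj_regInd, Complex.conj_conj]
    ring
  rw [map_intCast] at h
  exact_mod_cast h

/-- The function whose value under the central character of `ψ` is `pairing p χ ψ / ψ 1`. -/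
noncomputable def pairFun (p : ℕ) (χ : IrrCharacter G) : G → ℂ := fun y =>
  (ordPart p G : ℂ)⁻¹ * (regInd p y * conj ((χ : G → ℂ) y))

theorem isRCentral_pairFun (hM : IsPModular p M) (χ : IrrCharacter G) :
    IsRCentral M (pairFun p χ) := by
  classical
  refine ⟨fun y h => by
    simp only [pairFun, isClassFunction_regInd p y h, irr_isClassFunction χ y h], fun y => ?_⟩
  refine memLocalRing_mul (memLocalRing_inv_natCast hM
    (Nat.not_dvd_ordCompl hM.1 Nat.card_pos.ne')) (memLocalRing_mul ?_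
    (memLocalRing_of_isIntegral' (isIntegral_conj_char χ y)))
  unfold regInd
  split_ifs
  · exact memLocalRing_one
  · exact memLocalRing_zero

omit [M.IsPrime] in
theorem omega_pairFun (hp : p.Prime) (χ ψ : IrrCharacter G) :
    omega (ψ : G → ℂ) (pairFun p χ) = (pairing p χ ψ : ℂ) / (ψ : G → ℂ) 1 := by
  rw [omega, pairing_symm hp, pairing_spec hp, Finset.mul_sum]
  congr 1
  refine Finset.sum_congr rfl fun y _ => ?_
  rw [pairFun]
  ring

/-- The quotient `pairing / degree` is congruent modulo `M` on a block. -/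
theorem pairing_congr (hM : IsPModular p M) (χ : IrrCharacter G) {ψ ψ' : IrrCharacter G}
    (h : SameBlock M (ψ : G → ℂ) (ψ' : G → ℂ)) :
    MemLocalIdeal M ((pairing p χ ψ : ℂ) / (ψ : G → ℂ) 1 -
      (pairing p χ ψ' : ℂ) / (ψ' : G → ℂ) 1) := by
  rw [← omega_pairFun hM.1, ← omega_pairFun hM.1]
  exact omega_congr_of_sameBlock h (isRCentral_pairFun hM χ)

theorem pairing_eq_zero (hM : IsPModular p M) {B : Set (IrrCharacter G)} (hB : IsPBlock M B)
    {χ ψ : IrrCharacter G} (hχ : χ ∈ B) (hψ : ψ ∉ B) : pairing p χ ψ = 0 := by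
  have h := pairing_spec hM.1 χ ψ
  rw [sum_regInd_mul_eq_zero hM hB hχ hψ, mul_zero] at h
  exact_mod_cast h

omit [M.IsPrime] in
theorem pairing_self_pos (hp : p.Prime) (χ : IrrCharacter G) : 0 < pairing p χ χ := by
  classical
  have hterm : ∀ y : G, (regInd p y * ((χ : G → ℂ) y * conj ((χ : G → ℂ) y))) =
      (((if IsPRegular p y then Complex.normSq ((χ : G → ℂ) y) else 0 : ℝ)) : ℂ) := by
    intro y
    unfold regInd
    split_ifs with h <;> simp [Complex.mul_conj]
  have hpos : 0 < ∑ y : G, (if IsPRegular p y then Complex.normSq ((χ : G → ℂ) y) else 0) := by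
    refine Finset.sum_pos' (fun y _ => by split_ifs <;> simp [Complex.normSq_nonneg])
      ⟨1, Finset.mem_univ _, ?_⟩
    rw [if_pos (isPRegular_one hp)]
    exact Complex.normSq_pos.2 (IsIrrCharacter.apply_one_ne_zero χ.2)
  have h := pairing_spec hp χ χ
  rw [Finset.sum_congr rfl (fun y _ => hterm y), ← Complex.ofReal_sum] at h
  have h' := congrArg Complex.re h
  rw [show ((ordPart p G : ℂ))⁻¹ = (((ordPart p G : ℝ))⁻¹ : ℝ) by push_cast; rfl,
    ← Complex.ofReal_mul, Complex.ofReal_re, Complex.intCast_re] at h'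
  have hg : (0 : ℝ) < (ordPart p G : ℝ) := by
    exact_mod_cast Nat.ordCompl_pos p Nat.card_pos.ne'
  have : (0 : ℝ) < (pairing p χ χ : ℝ) := h' ▸ mul_pos (inv_pos.2 hg) hpos
  exact_mod_cast this

omit [M.IsPrime] in
theorem sum_pairing_sq [Fintype (IrrCharacter G)] (hp : p.Prime) (χ : IrrCharacter G) :
    ∑ ψ : IrrCharacter G, pairing p χ ψ ^ 2 =
      (p : ℤ) ^ (Nat.card G).factorization p * pairing p χ χ := by
  have hcl : IsClassFunction G (pPowReg p * (χ : G → ℂ)) :=
    IsGeneralizedCharacter.isClassFunction (IsGeneralizedCharacter.mul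
      (isGeneralizedCharacter_pPowReg hp) (IsCharacter.isGeneralizedCharacter (irr_isCharacter χ)))
  have h := classInner_eq_sum_irr hcl hcl
  simp only [← pairing_eq_classInner hp, map_intCast] at h
  have h2 : classInner (pPowReg p * (χ : G → ℂ)) (pPowReg p * (χ : G → ℂ)) =
      (p : ℂ) ^ (Nat.card G).factorization p * classInner (pPowReg p * (χ : G → ℂ)) (χ : G → ℂ) := by
    rw [classInner, classInner, mul_left_comm, Finset.mul_sum (a := (p : ℂ) ^ _)]
    congr 1
    refine Finset.sum_congr rfl fun y _ => ?_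
    simp only [Pi.mul_apply, pPowReg_apply, map_mul, map_pow, map_natCast, conj_regInd]
    linear_combination ((p : ℂ) ^ (Nat.card G).factorization p) ^ 2 * (χ : G → ℂ) y *
      conj ((χ : G → ℂ) y) * regInd_mul_self p y
  rw [h2, ← pairing_eq_classInner hp] at h
  have h3 : ((∑ ψ : IrrCharacter G, pairing p χ ψ ^ 2 : ℤ) : ℂ) =
      (((p : ℤ) ^ (Nat.card G).factorization p * pairing p χ χ : ℤ) : ℂ) := by
    push_cast
    rw [h]
    exact Finset.sum_congr rfl fun ψ _ => by ring
  exact_mod_cast h3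

theorem pow_nu_dvd_pairing (hM : IsPModular p M) (χ ψ : IrrCharacter G) :
    (p : ℤ) ^ nu p (ψ : G → ℂ) ∣ pairing p χ ψ := by
  refine pow_dvd_of_memLocalRing_div hM _ _ ?_
  rw [← memLocalRing_div_natCast_iff hM (charDegree_irr_pos ψ).ne', ← irr_apply_one,
    ← omega_pairFun hM.1]
  exact memLocalRing_omega (isRCentral_pairFun hM χ) ψ

theorem memLocalIdeal_pairing_div_iff (hM : IsPModular p M) (χ ψ : IrrCharacter G) :
    MemLocalIdeal M ((pairing p χ ψ : ℂ) / (ψ : G → ℂ) 1) ↔
      (p : ℤ) ^ (nu p (ψ : G → ℂ) + 1) ∣ pairing p χ ψ := by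
  rw [irr_apply_one, memLocalIdeal_div_natCast_iff hM (charDegree_irr_pos ψ).ne',
    memLocalIdeal_div_pow_iff hM]

/-- A defect class consists of `p`-regular elements. -/
theorem isPRegular_of_isDefectClass (hM : IsPModular p M) {B : Set (IrrCharacter G)}
    (hB : IsPBlock M B) {g : G} (hg : IsDefectClass M B g) : IsPRegular p g := by
  by_contra h
  exact hg.2.1 (by rw [blockCoeff_eq_zero_of_singular hM hB h]; exact memLocalIdeal_zero)

theorem exists_pairing_unit (hM : IsPModular p M) {B : Set (IrrCharacter G)} (hB : IsPBlock M B)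
    {χ : IrrCharacter G} (hχ : χ ∈ B) :
    ∃ φ ∈ B, ¬ MemLocalIdeal M ((pairing p φ χ : ℂ) / (χ : G → ℂ) 1) := by
  classical
  haveI := Fintype.ofFinite (IrrCharacter G)
  by_contra hcon
  simp only [not_exists, not_and, not_not] at hcon
  obtain ⟨g, hg⟩ := exists_isDefectClass hM hB
  obtain ⟨b, hb, hexp⟩ := exists_classIndicator_expansion hM (isPRegular_of_isDefectClass hM hB hg)
  apply hg.2.2 χ hχ
  have hω : centralChar (χ : G → ℂ) g = ∑ φ : IrrCharacter G,
      b φ * (ordPart p G : ℂ) * ((pairing p φ χ : ℂ) / (χ : G → ℂ) 1) := by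
    rw [← omega_classIndicator (irr_isClassFunction χ)]
    simp only [← omega_pairFun hM.1, ← omega_smul, ← omega_sum]
    congr 1
    funext y
    rw [hexp, Finset.sum_apply, Finset.mul_sum]
    refine Finset.sum_congr rfl fun φ _ => ?_
    rw [Pi.smul_apply, smul_eq_mul, pairFun]
    field_simp [ordPart_ne_zero (p := p) (G := G)]
  rw [hω]
  refine memLocalIdeal_sum _ fun φ _ => ?_
  refine memLocalIdeal_mul_left (memLocalRing_mul (hb φ) (memLocalRing_natCast _)) ?_
  by_cases hφ : φ ∈ B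
  · exact hcon φ hφ
  · rw [pairing_symm hM.1, pairing_eq_zero hM hB hχ hφ]
    simpa using memLocalIdeal_zero

/-- For `χ` of height zero the pairing with `ψ` in the block has the exponent of `ψ`. -/
theorem pairing_unit_of_minimal (hM : IsPModular p M) {B : Set (IrrCharacter G)}
    (hB : IsPBlock M B) {χ : IrrCharacter G} (hχ : χ ∈ B) (hmin : nu p (χ : G → ℂ) = minExp p B)
    {ψ : IrrCharacter G} (hψ : ψ ∈ B) :
    ¬ MemLocalIdeal M ((pairing p χ ψ : ℂ) / (ψ : G → ℂ) 1) := by
  obtain ⟨φ, hφ, hu⟩ := exists_pairing_unit hM hB hχ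
  have hexact : ¬ (p : ℤ) ^ (minExp p B + 1) ∣ pairing p χ φ := by
    rw [← pairing_symm hM.1, ← hmin, ← memLocalIdeal_pairing_div_iff hM]
    exact hu
  have hu' : ¬ MemLocalIdeal M ((pairing p χ φ : ℂ) / (φ : G → ℂ) 1) := by
    rw [memLocalIdeal_pairing_div_iff hM]
    exact fun h => hexact (dvd_trans (pow_dvd_pow _ (Nat.add_le_add_right (minExp_le hφ) 1)) h)
  exact not_memLocalIdeal_of_sub hu' (pairing_congr hM χ (IsPBlock.sameBlock hB hψ hφ))

/-- **The Brauer–Feit bound, with weights.** -/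
theorem four_mul_sum_height_le (hM : IsPModular p M) {B : Set (IrrCharacter G)}
    (hB : IsPBlock M B) :
    4 * ∑ᶠ χ ∈ B, p ^ (2 * blockHeight p B (χ : G → ℂ)) ≤ p ^ (2 * blockDefect p B) + 4 := by
  classical
  haveI := Fintype.ofFinite (IrrCharacter G)
  obtain ⟨χ, hχ, hmin⟩ := exists_nu_eq_minExp (p := p) (IsPBlock.nonempty hB)
  set d := blockDefect p B with hd
  set k := minExp p B with hk
  have hdk : d + k = (Nat.card G).factorization p := blockDefect_add_minExp hB
  have hp0 : (p : ℤ) ≠ 0 := by exact_mod_cast hM.1.ne_zero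
  -- the reduced integers
  have hdvd : ∀ ψ ∈ B, ∃ n : ℤ, pairing p χ ψ = (p : ℤ) ^ k * n := fun ψ hψ =>
    dvd_trans (pow_dvd_pow _ (minExp_le hψ)) (pow_nu_dvd_pairing hM χ ψ)
  choose! n hn using hdvd
  have hbig : ∀ ψ ∈ B, (p : ℤ) ^ (2 * blockHeight p B (ψ : G → ℂ)) ≤ n ψ ^ 2 := by
    intro ψ hψ
    have h1 := pow_nu_dvd_pairing hM χ ψ
    rw [hn ψ hψ, ← minExp_add_blockHeight hψ, pow_add,
      mul_dvd_mul_iff_left (pow_ne_zero _ hp0)] at h1
    have hne : n ψ ≠ 0 := by
      intro h0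
      apply pairing_unit_of_minimal hM hB hχ hmin hψ
      rw [hn ψ hψ, h0]
      simpa using memLocalIdeal_zero
    obtain ⟨c, hc⟩ := h1
    have hc0 : c ≠ 0 := fun h => hne (by rw [hc, h, mul_zero])
    rw [hc, mul_pow, ← pow_mul, mul_comm (blockHeight p B (ψ : G → ℂ)) 2]
    exact le_mul_of_one_le_right (by positivity) (sq_pos_iff.2 hc0)
  have hsum : ∑ ψ ∈ Finset.univ.filter (· ∈ B), n ψ ^ 2 ≤ (p : ℤ) ^ d * n χ := by
    have h1 : ∑ ψ ∈ Finset.univ.filter (· ∈ B), pairing p χ ψ ^ 2 ≤
        (p : ℤ) ^ (Nat.card G).factorization p * pairing p χ χ := by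
      rw [← sum_pairing_sq hM.1 χ]
      exact Finset.sum_le_univ_sum_of_nonneg fun ψ => sq_nonneg _
    rw [Finset.sum_congr rfl (fun ψ hψ => by rw [hn ψ (Finset.mem_filter.1 hψ).2]),
      hn χ hχ, ← hdk] at h1
    simp only [mul_pow, ← Finset.mul_sum] at h1
    rw [show (p : ℤ) ^ (d + k) * ((p : ℤ) ^ k * n χ) =
      ((p : ℤ) ^ k) ^ 2 * ((p : ℤ) ^ d * n χ) by ring] at h1
    exact le_of_mul_le_mul_left h1 (by have := hM.1.pos; positivity)
  have hχmem : χ ∈ Finset.univ.filter (· ∈ B) := by simp [hχ]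
  rw [← Finset.add_sum_erase _ _ hχmem] at hsum
  have hrest : ∑ ψ ∈ (Finset.univ.filter (· ∈ B)).erase χ,
      (p : ℤ) ^ (2 * blockHeight p B (ψ : G → ℂ)) ≤ (p : ℤ) ^ d * n χ - n χ ^ 2 := by
    refine le_trans (Finset.sum_le_sum fun ψ hψ =>
      hbig ψ (Finset.mem_filter.1 (Finset.mem_of_mem_erase hψ)).2) ?_
    linarith
  have hh0 : blockHeight p B (χ : G → ℂ) = 0 := by
    have := minExp_add_blockHeight (p := p) hχ
    omega
  have hfin : 4 * (1 + ∑ ψ ∈ (Finset.univ.filter (· ∈ B)).erase χ,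
      (p : ℤ) ^ (2 * blockHeight p B (ψ : G → ℂ))) ≤ (p : ℤ) ^ (2 * d) + 4 := by
    have hsq : 0 ≤ ((p : ℤ) ^ d - 2 * n χ) ^ 2 := sq_nonneg _
    have : (p : ℤ) ^ (2 * d) = ((p : ℤ) ^ d) ^ 2 := by rw [← pow_mul, mul_comm]
    nlinarith
  rw [finsum_mem_def, finsum_eq_sum_of_fintype]
  simp only [Set.indicator_apply]
  rw [← Finset.sum_filter, ← Finset.add_sum_erase _ _ hχmem, hh0, mul_zero, pow_zero]
  exact_mod_cast hfin

/-- **A defect group has order `p ^ d`.** -/
theorem card_isDefectGroup (hM : IsPModular p M) {B : Set (IrrCharacter G)} (hB : IsPBlock M B)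
    {D : Subgroup G} (hD : IsDefectGroup p M B D) : Nat.card D = p ^ blockDefect p B := by
  classical
  haveI := Fact.mk hM.1
  haveI := Fintype.ofFinite (IrrCharacter G)
  obtain ⟨g, hg, hP⟩ := hD
  set L : Subgroup G := Subgroup.centralizer ({g} : Set G) with hL
  obtain ⟨P, rfl⟩ := hP
  set k := minExp p B with hk
  set c := L.index.factorization p with hc
  have hcard : Nat.card ((P : Subgroup L).map L.subtype) = p ^ (Nat.card L).factorization p := by
    rw [Subgroup.card_map_of_injective L.subtype_injective, Sylow.card_eq_multiplicity]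
  have hidx : (Nat.card G).factorization p = c + (Nat.card L).factorization p := by
    rw [← L.index_mul_card, Nat.factorization_mul Subgroup.index_ne_zero_of_finite
      Nat.card_pos.ne', Finsupp.add_apply]
  -- upper bound
  have hck : c ≤ k := by
    obtain ⟨χ, hχ, hmin⟩ := exists_nu_eq_minExp (p := p) (IsPBlock.nonempty hB)
    by_contra hlt
    apply hg.2.2 χ hχ
    rw [centralChar, mul_div_right_comm]
    refine memLocalIdeal_mul_right ?_ (memLocalRing_of_isIntegral' (isIntegral_char χ g))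
    rw [irr_apply_one, memLocalIdeal_div_natCast_iff hM (charDegree_irr_pos χ).ne',
      show ((L.index : ℕ) : ℂ) = ((L.index : ℤ) : ℂ) by norm_cast, memLocalIdeal_div_pow_iff hM]
    exact_mod_cast (pow_dvd_pow p (show nu p (χ : G → ℂ) + 1 ≤ c by omega)).trans
      (Nat.ordProj_dvd L.index p)
  -- lower bound
  have hkc : k ≤ c := by
    by_contra hlt
    apply hg.2.1
    set PG := (P : Subgroup L).map L.subtype with hPG
    have hPc : ∀ w ∈ PG, Commute g w := by
      rintro _ ⟨w, -, rfl⟩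
      exact (Subgroup.mem_centralizer_singleton_iff.1 w.2).symm
    have hreg := isPRegular_of_isDefectClass hM hB hg
    have hsing : ∀ w : PG, w ≠ 1 → blockCoeff B (g * w) = 0 := by
      intro w hw
      refine blockCoeff_eq_zero_of_singular hM hB ?_
      obtain ⟨i, hi⟩ := (P.2.map L.subtype) w
      have h1 : orderOf (w : G) ∣ p ^ i :=
        orderOf_dvd_of_pow_eq_one (congrArg Subtype.val hi)
      obtain ⟨j, -, hj⟩ := (Nat.dvd_prime_pow hM.1).1 h1
      have hj0 : j ≠ 0 := fun h => hw (Subtype.ext (orderOf_eq_one_iff.1 (by rw [hj, h, pow_zero])))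
      have hcop : Nat.Coprime (orderOf g) (orderOf (w : G)) := by
        rw [hj]; exact ((hM.1.coprime_iff_not_dvd.2 hreg).symm).pow_right j
      rw [IsPRegular, not_not, (hPc w w.2).orderOf_mul_eq_mul_orderOf_of_coprime hcop, hj]
      exact (dvd_pow_self p hj0).mul_left _
    have hsum : blockCoeff B g = ∑ w : PG, blockCoeff B (g * w) := by
      rw [Finset.sum_eq_single (1 : PG) (fun w _ hw => hsing w hw) (by simp)]
      simp
    rw [hsum]
    simp only [blockCoeff, finsum_irr_eq_sum_ite, Finset.mul_sum]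
    rw [Finset.sum_comm]
    refine memLocalIdeal_sum _ fun χ _ => ?_
    split_ifs with hχ
    · simp only [← Finset.mul_sum]
      rw [← map_sum, show (Nat.card G : ℂ)⁻¹ * ((χ : G → ℂ) 1 *
          conj (∑ w : PG, (χ : G → ℂ) (g * w))) = ((charDegree (χ : G → ℂ) : ℂ) / (PG.index : ℂ)) *
            conj ((Nat.card PG : ℂ)⁻¹ * ∑ w : PG, (χ : G → ℂ) (g * w)) by
        rw [← PG.index_mul_card, irr_apply_one, map_mul, map_inv₀, map_natCast]
        have : (Nat.card PG : ℂ) ≠ 0 := natCard_ne_zero_complex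
        have : (PG.index : ℂ) ≠ 0 := by exact_mod_cast Subgroup.index_ne_zero_of_finite
        push_cast
        field_simp]
      refine memLocalIdeal_mul_right ?_ (memLocalRing_of_isIntegral'
        (map_isIntegral_int (starRingEnd ℂ) (isIntegral_avg (irr_isCharacter χ) PG g hPc)))
      rw [show ((charDegree (χ : G → ℂ) : ℕ) : ℂ) = ((charDegree (χ : G → ℂ) : ℤ) : ℂ) by
          norm_cast, memLocalIdeal_div_natCast_iff hM Subgroup.index_ne_zero_of_finite,
        memLocalIdeal_div_pow_iff hM]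
      have hPGidx : PG.index.factorization p = c := by
        have h := congrArg (fun t => t.factorization p) PG.index_mul_card
        simp only [Nat.factorization_mul Subgroup.index_ne_zero_of_finite Nat.card_pos.ne',
          Finsupp.add_apply] at h
        rw [hcard, hM.1.factorization_pow, Finsupp.single_eq_same] at h
        omega
      rw [hPGidx]
      have hle : c + 1 ≤ nu p (χ : G → ℂ) := by
        have := minExp_le (p := p) hχ
        omega
      exact_mod_cast (pow_dvd_pow p hle).trans (Nat.ordProj_dvd _ p)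
    · simpa using memLocalIdeal_zero
  rw [hcard]
  congr 1
  have := blockDefect_add_minExp (p := p) hB
  omega

end Cfsg.Agent.Lib.BlockHeights
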