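import Cfsg.Agent.Lib.BlockHeights.PositiveHeight
import Cfsg.Agent.Lib.Blocks.Exists

/-!
# A character restricted to the `p`-regular elements, times a power of `p`
-/

set_option autoImplicit false
set_option linter.unusedSectionVars false
set_option linter.style.haveILetI false

namespace Cfsg.Agent.Lib.BlockHeights

open Cfsg Cfsg.Agent.Lib.Blocks Cfsg.Agent.Lib.Characters

universe u

variable {G : Type u} [Group G] [Fintype G] {p : ℕ} {M : Ideal AlgInt} [M.IsPrime]

theorem ite_dvd_eq_smul (p : ℕ) (c : ℂ) (χ : G → ℂ) :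
    (fun x : G => if p ∣ orderOf x then (0 : ℂ) else c * χ x) =
      c • (regInd p * χ) := by
  funext x
  simp only [Pi.smul_apply, Pi.mul_apply, smul_eq_mul, regInd, IsPRegular]
  by_cases h : p ∣ orderOf x <;> simp [h]

theorem smul_regInd_eq_pPowReg (p : ℕ) (χ : G → ℂ) :
    ((p : ℂ) ^ (Nat.card G).factorization p) • (regInd p * χ) = pPowReg p * χ := by
  funext x
  simp only [Pi.smul_apply, Pi.mul_apply, smul_eq_mul, pPowReg_apply, mul_assoc]

theorem classInner_smul_regInd (hp : p.Prime) (c : ℂ) (χ ψ : IrrCharacter G) :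
    classInner (c • (regInd p * (χ : G → ℂ))) (ψ : G → ℂ) =
      c * (pairing p χ ψ : ℂ) / (p : ℂ) ^ (Nat.card G).factorization p := by
  have hp0 : (p : ℂ) ^ (Nat.card G).factorization p ≠ 0 :=
    pow_ne_zero _ (Nat.cast_ne_zero.2 hp.ne_zero)
  rw [pairing_eq_classInner hp, ← smul_regInd_eq_pPowReg, classInner_smul_left,
    classInner_smul_left]
  field_simp

theorem isClassFunction_smul_regInd (p : ℕ) (c : ℂ) (χ : IrrCharacter G) :
    IsClassFunction G (c • (regInd p * (χ : G → ℂ))) := fun x y => by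
  simp only [Pi.smul_apply, Pi.mul_apply, isClassFunction_regInd p x y,
    irr_isClassFunction χ x y]

/-- `p ^ a` times a character on the regular elements is a combination of its block. -/
theorem exists_block_combination (hM : IsPModular p M) {B : Set (IrrCharacter G)}
    (hB : IsPBlock M B) {χ : IrrCharacter G} (hχ : χ ∈ B) :
    ∃ a : IrrCharacter G → ℤ, (∀ ψ, ψ ∉ B → a ψ = 0) ∧
      (fun x : G => if p ∣ orderOf x then (0 : ℂ) else
        ((p ^ (Nat.card G).factorization p : ℕ) : ℂ) * (χ : G → ℂ) x) =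
      fun x => ∑ᶠ ψ : IrrCharacter G, (a ψ : ℂ) * (ψ : G → ℂ) x := by
  classical
  haveI := Fintype.ofFinite (IrrCharacter G)
  refine ⟨fun ψ => pairing p χ ψ, fun ψ hψ => pairing_eq_zero hM hB hχ hψ, ?_⟩
  rw [ite_dvd_eq_smul, eq_sum_classInner (isClassFunction_smul_regInd p _ χ)]
  funext x
  rw [finsum_eq_sum_of_fintype, Finset.sum_apply]
  refine Finset.sum_congr rfl fun ψ _ => ?_
  rw [classInner_smul_regInd hM.1, Pi.smul_apply, smul_eq_mul, Nat.cast_pow,
    mul_div_cancel_left₀ _ (pow_ne_zero _ (Nat.cast_ne_zero.2 hM.1.ne_zero))]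

/-- The exact power of `p` that can be divided out. -/
theorem isGeneralizedCharacter_tilde (hp : p.Prime) (χ : IrrCharacter G) :
    IsGeneralizedCharacter G (fun x : G => if p ∣ orderOf x then (0 : ℂ) else
      ((p ^ ((Nat.card G).factorization p - (charDegree (χ : G → ℂ)).factorization p) : ℕ) : ℂ) *
        (χ : G → ℂ) x) ∧
    ¬ IsGeneralizedCharacter G (fun x : G => if p ∣ orderOf x then (0 : ℂ) else
      ((p ^ (Nat.card G).factorization p : ℕ) : ℂ) /
        ((p ^ ((charDegree (χ : G → ℂ)).factorization p + 1) : ℕ) : ℂ) * (χ : G → ℂ) x) := by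
  classical
  obtain ⟨M, hM⟩ := exists_isPModular hp
  haveI : M.IsPrime := hM.2.1.isPrime
  haveI := Fintype.ofFinite (IrrCharacter G)
  have hp0 : (p : ℂ) ≠ 0 := Nat.cast_ne_zero.2 hp.ne_zero
  rw [ite_dvd_eq_smul, ite_dvd_eq_smul]
  refine ⟨isGeneralizedCharacter_iff_classInner_int.2 ⟨isClassFunction_smul_regInd p _ χ,
    fun ψ => ?_⟩, fun h => ?_⟩
  · obtain ⟨c, hc⟩ := pow_nu_dvd_pairing hM ψ χ
    refine ⟨c, ?_⟩
    have hle := nu_le_card (p := p) χ
    rw [classInner_smul_regInd hp, pairing_symm hp, hc]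
    push_cast
    rw [← mul_assoc, ← pow_add, Nat.sub_add_cancel hle,
      mul_div_cancel_left₀ _ (pow_ne_zero _ hp0)]
  · obtain ⟨ψ, hψ, hu⟩ := exists_pairing_unit hM (isPBlock_blockOf (M := M) χ)
      (show χ ∈ blockOf M (χ : G → ℂ) from fun g => by rw [sub_self]; exact memLocalIdeal_zero)
    obtain ⟨k, hk⟩ := (isGeneralizedCharacter_iff_classInner_int.1 h).2 ψ
    apply hu
    rw [memLocalIdeal_pairing_div_iff hM, pairing_symm hp]
    refine ⟨k, ?_⟩
    rw [classInner_smul_regInd hp] at hk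
    have : (pairing p χ ψ : ℂ) =
        (((p : ℤ) ^ (nu p (χ : G → ℂ) + 1) * k : ℤ) : ℂ) := by
      push_cast
      rw [← hk]
      push_cast
      field_simp
    exact_mod_cast this

/-- **Heights through the pairing.** -/
theorem blockHeight_zero_iff_pairing (hM : IsPModular p M) {B : Set (IrrCharacter G)}
    (hB : IsPBlock M B) {χ : IrrCharacter G} (hχ : χ ∈ B) :
    (blockHeight p B (χ : G → ℂ) = 0 ↔ ∃ ξ ∈ B, ∃ n : ℤ,
      classInner (fun x : G => if p ∣ orderOf x then (0 : ℂ) else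
        ((p ^ (Nat.card G).factorization p : ℕ) : ℂ) * (χ : G → ℂ) x) (ξ : G → ℂ) = (n : ℂ) ∧
      n ≠ 0 ∧ padicValInt p n = (charDegree (ξ : G → ℂ)).factorization p) ∧
    (blockHeight p B (χ : G → ℂ) = 0 ↔ ∀ ξ ∈ B, ∃ n : ℤ,
      classInner (fun x : G => if p ∣ orderOf x then (0 : ℂ) else
        ((p ^ (Nat.card G).factorization p : ℕ) : ℂ) * (χ : G → ℂ) x) (ξ : G → ℂ) = (n : ℂ) ∧
      n ≠ 0 ∧ padicValInt p n = (charDegree (ξ : G → ℂ)).factorization p) := by
  classical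
  haveI := Fact.mk hM.1
  have heq : ∀ ξ : IrrCharacter G, classInner (fun x : G => if p ∣ orderOf x then (0 : ℂ) else
      ((p ^ (Nat.card G).factorization p : ℕ) : ℂ) * (χ : G → ℂ) x) (ξ : G → ℂ) =
      (pairing p χ ξ : ℂ) := fun ξ => by
    rw [ite_dvd_eq_smul, Nat.cast_pow, smul_regInd_eq_pPowReg, pairing_eq_classInner hM.1]
  have hfwd : blockHeight p B (χ : G → ℂ) = 0 → ∀ ξ ∈ B, ∃ n : ℤ,
      (pairing p χ ξ : ℂ) = (n : ℂ) ∧ n ≠ 0 ∧
        padicValInt p n = (charDegree (ξ : G → ℂ)).factorization p := by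
    intro h0 ξ hξ
    have hmin : nu p (χ : G → ℂ) = minExp p B := by
      rw [← minExp_add_blockHeight (p := p) hχ, h0, add_zero]
    refine ⟨_, rfl, pairing_ne_zero_of_minimal hM hB hχ hmin hξ, ?_⟩
    have h1 := pow_nu_dvd_pairing hM χ ξ
    have h2 : ¬ (p : ℤ) ^ (nu p (ξ : G → ℂ) + 1) ∣ pairing p χ ξ := fun h =>
      pairing_unit_of_minimal hM hB hχ hmin hξ ((memLocalIdeal_pairing_div_iff hM χ ξ).2 h)
    rw [padicValInt_dvd_iff] at h1 h2
    have h3 := pairing_ne_zero_of_minimal hM hB hχ hmin hξ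
    simp only [h3, false_or] at h1 h2
    simp only [nu] at h1 h2
    omega
  have hbwd : (∃ ξ ∈ B, ∃ n : ℤ, (pairing p χ ξ : ℂ) = (n : ℂ) ∧ n ≠ 0 ∧
      padicValInt p n = (charDegree (ξ : G → ℂ)).factorization p) →
      blockHeight p B (χ : G → ℂ) = 0 := by
    rintro ⟨ξ, hξ, n, hn, hn0, hv⟩
    rw [Int.cast_inj] at hn
    subst hn
    have hle := minExp_add_blockHeight (p := p) hχ
    by_contra hne
    have h1 := pow_succ_nu_dvd_pairing_of_pos hM hB hχ (by omega) hξ
    rw [padicValInt_dvd_iff] at h1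
    simp only [hn0, false_or, nu] at h1
    omega
  simp only [heq]
  exact ⟨⟨fun h => ⟨χ, hχ, hfwd h χ hχ⟩, hbwd⟩, ⟨hfwd, fun h => hbwd ⟨χ, hχ, h χ hχ⟩⟩⟩

end Cfsg.Agent.Lib.BlockHeights
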