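import Cfsg.Agent.Lib.BlockHeights.SectionValues
import Cfsg.Agent.Lib.BlockHeights.Tilde

/-!
# The block parts of an induced character
-/

set_option autoImplicit false
set_option linter.unusedSectionVars false
set_option linter.style.haveILetI false

namespace Cfsg.Agent.Lib.BlockHeights

open Cfsg Cfsg.Agent.Lib.Blocks Cfsg.Agent.Lib.Characters
open scoped ComplexConjugate

universe u

variable {G : Type u} [Group G] [Fintype G] {p : ℕ} {M : Ideal AlgInt} [M.IsPrime]
  {H : Subgroup G} [Fintype H]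

/-- The degree of a block part of an induced character. -/
theorem blockPart_indFun_one (B : Set (IrrCharacter G)) (ξ : IrrCharacter H) :
    blockPart B (indFun H (ξ : H → ℂ)) 1 =
      indFun H (ξ : H → ℂ) 1 * omega (ξ : H → ℂ) (resFun H (blockCoeff B)) := by
  rw [← sum_blockCoeff_mul_eq_blockPart B (isClassFunction_indFun H _) 1]
  simp only [mul_one]
  have h1 := classInner_indFun_right H (ξ : H → ℂ)
    (χ := fun g => conj (blockCoeff B g))
    (fun a b => by simp only [isClassFunction_blockCoeff B a b])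
  simp only [classInner] at h1
  have h2 := congrArg conj h1
  simp only [map_mul, map_inv₀, map_natCast, map_sum, Complex.conj_conj] at h2
  rw [indFun_one, omega, mul_assoc, mul_div_cancel₀ _ (IsIrrCharacter.apply_one_ne_zero ξ.2)]
  have hG : (Nat.card G : ℂ) = (H.index : ℂ) * (Nat.card H : ℂ) := by
    rw [← H.index_mul_card, Nat.cast_mul]
  have hH : (Nat.card H : ℂ) ≠ 0 := natCard_ne_zero_complex
  have hG0 : (Nat.card G : ℂ) ≠ 0 := natCard_ne_zero_complex
  calc ∑ g, blockCoeff B g * indFun H (ξ : H → ℂ) g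
      = (Nat.card G : ℂ) * ((Nat.card G : ℂ)⁻¹ *
          ∑ g, blockCoeff B g * indFun H (ξ : H → ℂ) g) := by
        rw [← mul_assoc, mul_inv_cancel₀ hG0, one_mul]
    _ = _ := by
        rw [h2, hG]
        simp only [resFun]
        field_simp

theorem exists_blockPart_one_nat (B : Set (IrrCharacter G)) (ξ : IrrCharacter H) :
    ∃ n : ℕ, blockPart B (indFun H (ξ : H → ℂ)) 1 = (n : ℂ) := by
  classical
  haveI := Fintype.ofFinite (IrrCharacter G)
  choose m hm using fun χ : IrrCharacter G =>
    IsCharacter.exists_classInner_nat (IsCharacter.indFun H (irr_isCharacter ξ)) (irr_isCharacter χ)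
  refine ⟨∑ χ : IrrCharacter G, if χ ∈ B then m χ * charDegree (χ : G → ℂ) else 0, ?_⟩
  rw [blockPart_eq_sum, Finset.sum_apply, Nat.cast_sum]
  refine Finset.sum_congr rfl fun χ _ => ?_
  split_ifs
  · rw [Pi.smul_apply, smul_eq_mul, hm, irr_apply_one]; push_cast; rfl
  · simp

/-- **The block of `b ^ G` carries the exact `p`-part of the degree.** -/
theorem blockPart_indFun_valuation (hM : IsPModular p M) {b : Set (IrrCharacter H)}
    {B₀ : Set (IrrCharacter G)} (hind : IsInducedBlock M H b B₀) {ξ : IrrCharacter H}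
    (hξ : ξ ∈ b) :
    (∃ n : ℕ, blockPart B₀ (indFun H (ξ : H → ℂ)) 1 = (n : ℂ) ∧ n ≠ 0 ∧
      n.factorization p = (charDegree (indFun H (ξ : H → ℂ))).factorization p) ∧
    ∀ B : Set (IrrCharacter G), IsPBlock M B → B ≠ B₀ →
      ∃ n : ℕ, blockPart B (indFun H (ξ : H → ℂ)) 1 = (n : ℂ) ∧
        (n = 0 ∨ (charDegree (indFun H (ξ : H → ℂ))).factorization p < n.factorization p) := by
  set D := charDegree (indFun H (ξ : H → ℂ))
  have hD : indFun H (ξ : H → ℂ) 1 = (D : ℂ) :=
    apply_one_eq_charDegree (IsCharacter.indFun H (irr_isCharacter ξ))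
  have hD0 : D ≠ 0 := fun h => by
    rw [h, Nat.cast_zero, indFun_one, mul_eq_zero] at hD
    exact hD.elim (Nat.cast_ne_zero.2 Subgroup.index_ne_zero_of_finite)
      (IsIrrCharacter.apply_one_ne_zero ξ.2)
  obtain ⟨χ, hχ⟩ := IsPBlock.nonempty hind.2.1
  have key : ∀ B : Set (IrrCharacter G), IsPBlock M B → ∀ n : ℕ,
      blockPart B (indFun H (ξ : H → ℂ)) 1 = (n : ℂ) →
      (p : ℤ) ^ D.factorization p ∣ (n : ℤ) ∧
        ((p : ℤ) ^ (D.factorization p + 1) ∣ (n : ℤ) ↔ χ ∉ B) := by
    intro B hB n hn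
    have hω := IsInducedBlock.omega_congr hind hξ hχ (isRCentral_blockCoeff hM hB)
    have hwR := memLocalRing_omega (isRCentral_resFun H (isRCentral_blockCoeff hM hB)) ξ
    rw [blockPart_indFun_one, hD] at hn
    have hq : omega (ξ : H → ℂ) (resFun H (blockCoeff B)) = ((n : ℤ) : ℂ) / (D : ℂ) := by
      rw [Int.cast_natCast, ← hn, mul_div_cancel_left₀ _ (Nat.cast_ne_zero.2 hD0)]
    rw [hq] at hwR hω
    rw [memLocalRing_div_natCast_iff hM hD0] at hwR
    refine ⟨pow_dvd_of_memLocalRing_div hM _ _ hwR, ?_⟩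
    rw [← memLocalIdeal_div_pow_iff hM, ← memLocalIdeal_div_natCast_iff hM hD0,
      memLocalIdeal_iff_of_sub hω, omega_blockCoeff]
    split_ifs with h
    · exact ⟨fun h1 => absurd h1 not_memLocalIdeal_one, fun h1 => absurd h h1⟩
    · exact ⟨fun _ => h, fun _ => memLocalIdeal_zero⟩
  refine ⟨?_, fun B hB hne => ?_⟩
  · obtain ⟨n, hn⟩ := exists_blockPart_one_nat B₀ ξ
    obtain ⟨h1, h2⟩ := key B₀ hind.2.1 n hn
    have h3 : ¬ (p : ℤ) ^ (D.factorization p + 1) ∣ (n : ℤ) := fun h => h2.1 h hχ
    have hn0 : n ≠ 0 := fun h => h3 (by rw [h]; exact dvd_zero _)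
    have h1' : p ^ D.factorization p ∣ n := by exact_mod_cast h1
    have h3' : ¬ p ^ (D.factorization p + 1) ∣ n := fun h => h3 (by exact_mod_cast h)
    rw [hM.1.pow_dvd_iff_le_factorization hn0] at h1' h3'
    exact ⟨n, hn, hn0, by omega⟩
  · obtain ⟨n, hn⟩ := exists_blockPart_one_nat B ξ
    refine ⟨n, hn, ?_⟩
    by_cases hn0 : n = 0
    · exact Or.inl hn0
    have h2 := (key B hB n hn).2.2 fun h => hne (IsPBlock.eq_of_mem hB hind.2.1 h hχ)
    have h2' : p ^ (D.factorization p + 1) ∣ n := by exact_mod_cast h2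
    rw [hM.1.pow_dvd_iff_le_factorization hn0] at h2'
    exact Or.inr h2'

/-- **A height zero constituent of odd multiplicity modulo `p`.** -/
theorem exists_constituent_height_zero (hM : IsPModular p M) {b : Set (IrrCharacter H)}
    {B : Set (IrrCharacter G)} (hind : IsInducedBlock M H b B)
    (hdef : blockDefect p b = blockDefect p B) {ζ : IrrCharacter H} (hζ : ζ ∈ b)
    (hζ0 : blockHeight p b (ζ : H → ℂ) = 0) :
    ∃ χ ∈ B, blockHeight p B (χ : G → ℂ) = 0 ∧ ∃ a : ℕ,
      classInner (indFun H (ζ : H → ℂ)) (χ : G → ℂ) = (a : ℂ) ∧ ¬ p ∣ a := by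
  classical
  haveI := Fintype.ofFinite (IrrCharacter G)
  obtain ⟨⟨n, hn, hn0, hv⟩, -⟩ := blockPart_indFun_valuation hM hind hζ
  choose m hm using fun χ : IrrCharacter G =>
    IsCharacter.exists_classInner_nat (IsCharacter.indFun H (irr_isCharacter ζ)) (irr_isCharacter χ)
  have hD : charDegree (indFun H (ζ : H → ℂ)) = H.index * charDegree (ζ : H → ℂ) :=
    charDegree_of_apply_one (by rw [indFun_one, irr_apply_one ζ]; push_cast; rfl)
  have hk : (charDegree (indFun H (ζ : H → ℂ))).factorization p = minExp p B := by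
    have h1 := blockDefect_add_minExp (p := p) hind.1
    have h2 := blockDefect_add_minExp (p := p) hind.2.1
    have h3 := minExp_add_blockHeight (p := p) hζ
    rw [hζ0, add_zero] at h3
    rw [hD, Nat.factorization_mul Subgroup.index_ne_zero_of_finite (charDegree_irr_pos ζ).ne',
      Finsupp.add_apply]
    have h4 : (Nat.card G).factorization p =
        H.index.factorization p + (Nat.card H).factorization p := by
      rw [← H.index_mul_card, Nat.factorization_mul Subgroup.index_ne_zero_of_finite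
        Nat.card_pos.ne', Finsupp.add_apply]
    simp only [nu] at h3
    omega
  by_contra hcon
  simp only [not_exists, not_and, not_not] at hcon
  have hdvd : p ^ (minExp p B + 1) ∣ n := by
    have hn' : n = ∑ χ : IrrCharacter G, if χ ∈ B then m χ * charDegree (χ : G → ℂ) else 0 := by
      have h : (n : ℂ) = ((∑ χ : IrrCharacter G,
          if χ ∈ B then m χ * charDegree (χ : G → ℂ) else 0 : ℕ) : ℂ) := by
        rw [← hn, blockPart_eq_sum, Finset.sum_apply, Nat.cast_sum]
        refine Finset.sum_congr rfl fun χ _ => ?_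
        split_ifs
        · rw [Pi.smul_apply, smul_eq_mul, hm, irr_apply_one]; push_cast; rfl
        · simp
      exact_mod_cast h
    rw [hn']
    refine Finset.dvd_sum fun χ _ => ?_
    split_ifs with hχ
    · have hle := minExp_le (p := p) hχ
      by_cases hh : blockHeight p B (χ : G → ℂ) = 0
      · rw [pow_succ']
        exact Nat.mul_dvd_mul (hcon χ hχ hh (m χ) (hm χ))
          ((pow_dvd_pow p hle).trans (Nat.ordProj_dvd _ p))
      · have h5 := minExp_add_blockHeight (p := p) hχ
        exact Dvd.dvd.mul_left ((pow_dvd_pow p (show minExp p B + 1 ≤ nu p (χ : G → ℂ) by omega)).trans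
          (Nat.ordProj_dvd _ p)) _
    · exact dvd_zero _
  rw [hM.1.pow_dvd_iff_le_factorization hn0, hv, hk] at hdvd
  omega

/-- **The restricted pairing detects the induced block.** -/
theorem classInner_tilde_restrict (hM : IsPModular p M) {b : Set (IrrCharacter H)}
    {B₀ : Set (IrrCharacter G)} (hind : IsInducedBlock M H b B₀) {χ : IrrCharacter G}
    {ψ : IrrCharacter H} (hψ : ψ ∈ b) :
    (χ ∉ B₀ → MemLocalIdeal M (classInner (fun h : H => if p ∣ orderOf h then (0 : ℂ) else
      ((p ^ (Nat.card H).factorization p : ℕ) : ℂ) * (χ : G → ℂ) h) (ψ : H → ℂ) /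
        (ψ : H → ℂ) 1)) ∧
    (χ ∈ B₀ → blockHeight p B₀ (χ : G → ℂ) = 0 →
      ¬ MemLocalIdeal M (classInner (fun h : H => if p ∣ orderOf h then (0 : ℂ) else
        ((p ^ (Nat.card H).factorization p : ℕ) : ℂ) * (χ : G → ℂ) h) (ψ : H → ℂ) /
          (ψ : H → ℂ) 1)) := by
  classical
  haveI := Fintype.ofFinite (IrrCharacter H)
  set r : ℂ := (ordPart p G : ℂ) * (ordPart p H : ℂ)⁻¹ with hr
  have hrR : MemLocalRing M r := memLocalRing_mul (memLocalRing_natCast _)
    (memLocalRing_inv_natCast hM (Nat.not_dvd_ordCompl hM.1 Nat.card_pos.ne'))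
  have hr0 : ¬ MemLocalIdeal M r := fun h => by
    have h1 := memLocalIdeal_mul_right h (memLocalRing_natCast (M := M) (ordPart p H))
    rw [hr, mul_assoc, inv_mul_cancel₀ ordPart_ne_zero, mul_one, memLocalIdeal_natCast_iff hM] at h1
    exact Nat.not_dvd_ordCompl hM.1 Nat.card_pos.ne' h1
  have hP := isRCentral_pairFun hM χ
  have key : classInner (fun h : H => if p ∣ orderOf h then (0 : ℂ) else
      ((p ^ (Nat.card H).factorization p : ℕ) : ℂ) * (χ : G → ℂ) h) (ψ : H → ℂ) / (ψ : H → ℂ) 1 =
      r * omega (ψ : H → ℂ) (resFun H (pairFun p χ)) := by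
    have hfun : (∑ η : IrrCharacter H, resMult H χ η • pairFun p η) =
        r • resFun H (pairFun p χ) := by
      funext y
      have h1 := congrArg conj (congrFun (resFun_eq_sum χ) y)
      simp only [resFun, Finset.sum_apply, Pi.smul_apply, smul_eq_mul, map_sum, map_mul] at h1
      simp only [Finset.sum_apply, Pi.smul_apply, smul_eq_mul, resFun, pairFun, h1,
        regInd_subgroup, Finset.mul_sum, hr]
      refine Finset.sum_congr rfl fun η _ => ?_
      obtain ⟨m, hm⟩ := exists_resMult_nat χ η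
      rw [hm, map_natCast]
      field_simp [ordPart_ne_zero (p := p) (G := G), ordPart_ne_zero (p := p) (G := H)]
    rw [← omega_smul, ← hfun, ite_dvd_eq_smul, omega_sum]
    simp only [omega_smul, omega_pairFun hM.1]
    rw [show (fun h : H => (χ : G → ℂ) (h : G)) =
      ∑ η : IrrCharacter H, resMult H χ η • (η : H → ℂ) from resFun_eq_sum χ]
    simp only [Finset.mul_sum, mul_smul_comm, Finset.smul_sum]
    rw [classInner_sum_left, Finset.sum_div]
    refine Finset.sum_congr rfl fun η _ => ?_
    rw [smul_comm, classInner_smul_left, classInner_smul_regInd hM.1, Nat.cast_pow,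
      mul_div_cancel_left₀ _ (pow_ne_zero _ (Nat.cast_ne_zero.2 hM.1.ne_zero)), mul_div_assoc]
  obtain ⟨χ', hχ'⟩ := IsPBlock.nonempty hind.2.1
  have hcong := IsInducedBlock.omega_congr hind hψ hχ' hP
  rw [key]
  refine ⟨fun hχ => ?_, fun hχ h0 => ?_⟩
  · refine memLocalIdeal_mul_left hrR ((memLocalIdeal_iff_of_sub hcong).2 ?_)
    rw [omega_pairFun hM.1, pairing_symm hM.1, pairing_eq_zero hM hind.2.1 hχ' hχ]
    simpa using memLocalIdeal_zero
  · refine not_memLocalIdeal_mul hrR (memLocalRing_omega (isRCentral_resFun H hP) ψ) hr0 ?_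
    rw [memLocalIdeal_iff_of_sub hcong, omega_pairFun hM.1]
    exact pairing_unit_of_minimal hM hind.2.1 hχ
      (by rw [← minExp_add_blockHeight (p := p) hχ, h0, add_zero]) hχ'

end Cfsg.Agent.Lib.BlockHeights
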