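import Cfsg.Agent.Lib.BlockHeights.KleinFourSection
import Cfsg.Agent.Lib.BrauerPairs.Saturation
import Mathlib.GroupTheory.SpecificGroups.KleinFour

/-!
# Blocks with Klein four defect group
-/

set_option autoImplicit false
set_option linter.unusedSectionVars false
set_option linter.style.haveILetI false

namespace Cfsg.Agent.Lib.BlockHeights

open Cfsg Cfsg.Agent.Lib.Blocks Cfsg.Agent.Lib.Characters Cfsg.Agent.Lib.BrauerPairs

universe u

variable {G : Type u} [Group G] [Fintype G] {M : Ideal AlgInt} [M.IsPrime]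
  {B : Set (IrrCharacter G)} {P : Subgroup G}
  {c : Set (IrrCharacter (Subgroup.centralizer (P : Set G)))}

theorem klein_mul_of_ne (hV : IsKleinFour P) {v x y : G} (hv : v ∈ P) (hx : x ∈ P) (hy : y ∈ P)
    (hv1 : v ≠ 1) (hx1 : x ≠ 1) (hxv : x ≠ v) (hy1 : y ≠ 1) (hyv : y ≠ v) (hyx : y ≠ x) :
    y = v * x := by
  haveI := hV
  exact congrArg Subtype.val (IsKleinFour.eq_mul_of_ne_all (x := (⟨v, hv⟩ : P)) (y := ⟨x, hx⟩)
    (z := ⟨y, hy⟩) (fun h => hv1 (congrArg Subtype.val h)) (fun h => hx1 (congrArg Subtype.val h))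
    (fun h => hxv (congrArg Subtype.val h).symm) (fun h => hy1 (congrArg Subtype.val h))
    (fun h => hyv (congrArg Subtype.val h)) (fun h => hyx (congrArg Subtype.val h)))

theorem klein_comm (hV : IsKleinFour P) : ∀ x ∈ P, ∀ y ∈ P, x * y = y * x := by
  haveI := hV
  intro x hx y hy
  exact congrArg Subtype.val
    (mul_comm_of_exponent_two IsKleinFour.exponent_two (⟨x, hx⟩ : P) ⟨y, hy⟩)

theorem klein_orderOf (hV : IsKleinFour P) {v : G} (hv : v ∈ P) (hv1 : v ≠ 1) : orderOf v = 2 := by
  haveI := hV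
  haveI : Fact (Nat.Prime 2) := ⟨Nat.prime_two⟩
  refine orderOf_eq_prime ?_ hv1
  have h := Monoid.pow_exponent_eq_one (⟨v, hv⟩ : P)
  rw [IsKleinFour.exponent_two] at h
  exact congrArg Subtype.val h

/-- An inertial element fixing an involution of the defect group centralises it. -/
theorem klein_fix (hM : IsPModular 2 M) (hmax : IsMaximalBrauerPair 2 M B P c) (hV : IsKleinFour P)
    {t : G} (ht : t ∈ pairStab P c) {v : G} (hv : v ∈ P) (hv1 : v ≠ 1)
    (hfix : t * v * t⁻¹ = v) : t ∈ Subgroup.centralizer (P : Set G) := by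
  have hN : ∀ x ∈ P, t * x * t⁻¹ ∈ P := fun x hx => (Subgroup.mem_normalizer_iff.1 ht.1 x).1 hx
  refine mem_centralizer_of_pow hM hmax (klein_comm hV) ht (k := 1) ?_
  rw [pow_one, mem_centralizer_subgroup_iff]
  intro x hx
  suffices h : t * (t * x * t⁻¹) * t⁻¹ = x by
    have h2 : t ^ 2 * x = x * t ^ 2 := by
      conv_rhs => rw [← h]
      rw [pow_two]; group
    exact h2.symm
  by_cases hx1 : x = 1
  · simp [hx1]
  by_cases hxv : x = v
  · rw [hxv, hfix, hfix]
  by_cases hfx : t * x * t⁻¹ = x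
  · rw [hfx, hfx]
  have hinj : ∀ a b : G, t * a * t⁻¹ = t * b * t⁻¹ → a = b := fun a b h => by simpa using h
  set y := t * x * t⁻¹ with hy
  have hyv : y ≠ v := fun h => hxv (hinj x v (by rw [hfix]; exact h))
  have hy1 : y ≠ 1 := fun h => hx1 (hinj x 1 (by rw [mul_one, mul_inv_cancel]; exact h))
  have hyP : y ∈ P := hN x hx
  set z := t * y * t⁻¹ with hz
  have hzv : z ≠ v := fun h => hyv (hinj y v (by rw [hfix]; exact h))
  have hz1 : z ≠ 1 := fun h => hy1 (hinj y 1 (by rw [mul_one, mul_inv_cancel]; exact h))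
  have hzy : z ≠ y := fun h => hfx (hinj y x h)
  have h1 := klein_mul_of_ne hV hv hyP (hN y hyP) hv1 hy1 hyv hz1 hzv hzy
  have h2 := klein_mul_of_ne hV hv hyP hx hv1 hy1 hyv hx1 hxv fun h => hfx h.symm
  exact h1.trans h2.symm

open Classical in
/-- The orbit of an involution under the inertial group. -/
noncomputable def inertialOrbit (P : Subgroup G)
    (c : Set (IrrCharacter (Subgroup.centralizer (P : Set G)))) (v : G) : Finset G :=
  (Finset.univ.filter (· ∈ pairStab P c)).image fun t => t * v * t⁻¹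

theorem mem_inertialOrbit {v w : G} :
    w ∈ inertialOrbit P c v ↔ ∃ t ∈ pairStab P c, t * v * t⁻¹ = w := by
  classical
  simp [inertialOrbit]

/-- Every orbit has the inertial index as its length. -/
theorem card_inertialOrbit (hM : IsPModular 2 M) (hmax : IsMaximalBrauerPair 2 M B P c)
    (hV : IsKleinFour P) {v : G} (hv : v ∈ P) (hv1 : v ≠ 1) :
    (inertialOrbit P c v).card =
      (Subgroup.centralizer (P : Set G)).relIndex (pairStab P c) := by
  classical
  rw [Subgroup.relIndex, Subgroup.index, ← Nat.card_eq_finsetCard]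
  symm
  let φ : pairStab P c ⧸ (Subgroup.centralizer (P : Set G)).subgroupOf (pairStab P c) →
      inertialOrbit P c v :=
    Quotient.lift (fun t => ⟨(t : G) * v * (t : G)⁻¹, mem_inertialOrbit.2 ⟨t, t.2, rfl⟩⟩)
      fun a b hab => by
        have h1 : (a : G)⁻¹ * (b : G) ∈ Subgroup.centralizer (P : Set G) :=
          Subgroup.mem_subgroupOf.1 (QuotientGroup.leftRel_apply.1 hab)
        refine Subtype.ext ?_
        have h2 := mem_centralizer_subgroup_iff.1 h1 v hv
        show (a : G) * v * (a : G)⁻¹ = (b : G) * v * (b : G)⁻¹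
        calc (a : G) * v * (a : G)⁻¹ = (a : G) * (v * ((a : G)⁻¹ * (b : G))) * (b : G)⁻¹ := by group
          _ = (a : G) * (((a : G)⁻¹ * (b : G)) * v) * (b : G)⁻¹ := by rw [h2]
          _ = _ := by group
  refine Nat.card_congr (Equiv.ofBijective φ ⟨?_, ?_⟩)
  · intro a b hab
    induction a using QuotientGroup.induction_on with
    | H a =>
      induction b using QuotientGroup.induction_on with
      | H b =>
        refine QuotientGroup.eq.2 (Subgroup.mem_subgroupOf.2 ?_)
        have h1 : (a : G) * v * (a : G)⁻¹ = (b : G) * v * (b : G)⁻¹ := congrArg Subtype.val hab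
        refine klein_fix hM hmax hV (mul_mem (inv_mem a.2) b.2) hv hv1 ?_
        show (a : G)⁻¹ * (b : G) * v * ((a : G)⁻¹ * (b : G))⁻¹ = v
        calc (a : G)⁻¹ * (b : G) * v * ((a : G)⁻¹ * (b : G))⁻¹
            = (a : G)⁻¹ * ((b : G) * v * (b : G)⁻¹) * (a : G) := by group
          _ = v := by rw [← h1]; group
  · rintro ⟨w, hw⟩
    obtain ⟨t, ht, rfl⟩ := mem_inertialOrbit.1 hw
    exact ⟨QuotientGroup.mk (⟨t, ht⟩ : pairStab P c), rfl⟩

/-- The inertial index is one or three. -/
theorem klein_inertial (hM : IsPModular 2 M) (hmax : IsMaximalBrauerPair 2 M B P c)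
    (hV : IsKleinFour P) :
    (Subgroup.centralizer (P : Set G)).relIndex (pairStab P c) = 1 ∨
      (Subgroup.centralizer (P : Set G)).relIndex (pairStab P c) = 3 := by
  classical
  haveI := hV
  have hP4 : Nat.card P = 4 := IsKleinFour.card_four
  have hne : P ≠ ⊥ := fun h => by rw [h, Subgroup.card_bot] at hP4; omega
  obtain ⟨v, hv, hv1⟩ := (Subgroup.bot_or_exists_ne_one P).resolve_left hne
  have hle : (inertialOrbit P c v).card ≤ 3 := by
    have hsub : inertialOrbit P c v ⊆ (Finset.univ.filter (· ∈ P)).erase 1 := fun w hw => by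
      obtain ⟨t, ht, rfl⟩ := mem_inertialOrbit.1 hw
      refine Finset.mem_erase.2 ⟨fun h => hv1 (by simpa using h), ?_⟩
      exact Finset.mem_filter.2 ⟨Finset.mem_univ _, (Subgroup.mem_normalizer_iff.1 ht.1 v).1 hv⟩
    refine (Finset.card_le_card hsub).trans ?_
    rw [Finset.card_erase_of_mem (by simp [one_mem]), ← Fintype.card_subtype,
      ← Nat.card_eq_fintype_card, show Nat.card {x // x ∈ P} = 4 from hP4]
  rw [card_inertialOrbit hM hmax hV hv hv1] at hle
  have hpos : 0 < (Subgroup.centralizer (P : Set G)).relIndex (pairStab P c) :=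
    Nat.pos_of_ne_zero (Subgroup.index_ne_zero_of_finite)
  have hne2 : (Subgroup.centralizer (P : Set G)).relIndex (pairStab P c) ≠ 2 := fun h2 => by
    have hlt : ¬ pairStab P c ≤ Subgroup.centralizer (P : Set G) := fun h => by
      rw [Subgroup.relIndex_eq_one.2 h] at h2; omega
    obtain ⟨g, hg, hgC⟩ := SetLike.not_le_iff_exists.1 hlt
    refine hgC (mem_centralizer_of_pow hM hmax (klein_comm hV) hg (k := 1) ?_)
    rw [pow_one]
    exact Subgroup.mem_subgroupOf.1
      (Subgroup.sq_mem_of_index_two (H := (Subgroup.centralizer (P : Set G)).subgroupOf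
        (pairStab P c)) h2 ⟨g, hg⟩)
  omega

theorem le_centralizer_zpowers (hV : IsKleinFour P) {v : G} (hv : v ∈ P) :
    P ≤ Subgroup.centralizer (Subgroup.zpowers v : Set G) := fun x hx =>
  mem_centralizer_zpowers_iff.2 (klein_comm hV v hv x hx)

theorem le_normalizer_zpowers (hV : IsKleinFour P) {v : G} (hv : v ∈ P) :
    P ≤ Subgroup.normalizer (Subgroup.zpowers v : Set G) :=
  (le_centralizer_zpowers hV hv).trans (centralizer_le_normalizer' _)

/-- **The rank at an involution and the number of characters.** -/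
theorem klein_subsection (hM : IsPModular 2 M) (hmax : IsMaximalBrauerPair 2 M B P c)
    (hV : IsKleinFour P) {v : G} (hv : v ∈ P) (hv1 : v ≠ 1)
    {f : Set (IrrCharacter (Subgroup.centralizer (Subgroup.zpowers v : Set G)))}
    (hle : SubpairLE 2 M (Subgroup.zpowers v) f P c) :
    blockRank 2 f = 1 ∧ Nat.card B = 4 := by
  classical
  haveI : Fact (Nat.Prime 2) := ⟨hM.1⟩
  haveI := hV
  have hvo := klein_orderOf hV hv hv1
  have hvC : v ∈ (Subgroup.centralizer (Subgroup.zpowers v : Set G)) := mem_centralizer_zpowers_iff.2 (Commute.refl v)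
  have hZC : Subgroup.zpowers v ≤ (Subgroup.centralizer (Subgroup.zpowers v : Set G)) := Subgroup.zpowers_le.2 hvC
  have hPC := le_centralizer_zpowers hV hv
  have hBd := IsDefectGroup.card_eq hM hmax.1.2.1 (isDefectGroup_of_isMaximal hM hmax)
  have hP4 : Nat.card P = 4 := IsKleinFour.card_four
  have hpair : IsBrauerPairOf 2 M B (Subgroup.zpowers v) f :=
    (isBrauerPairOf_iff_of_subpairLE hM hmax.1.1 hle hmax.1.2.1).1 hmax.1
  have hind := isInducedBlock_of_isBrauerPairOf_zpowers hM hpair
  obtain ⟨D, hD, hPD⟩ := exists_defectGroup_ge_centralizer hM hmax.1.1 hle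
  rw [inf_eq_left.2 hPC] at hPD
  have hD4 : Nat.card D = 4 := by
    refine le_antisymm ?_ ?_
    · obtain ⟨E, hE, hDE⟩ := exists_le_defectGroup hM hind hD
      rw [← card_map_subtype D]
      refine (Subgroup.card_le_of_le hDE).trans (le_of_eq ?_)
      rw [IsDefectGroup.card_eq hM hmax.1.2.1 hE, ← hBd, hP4]
    · rw [← hP4, ← card_subgroupOf hPC]
      exact Subgroup.card_le_of_le hPD
  have hKZ : (Subgroup.zpowers v).subgroupOf (Subgroup.centralizer (Subgroup.zpowers v : Set G)) ≤ Subgroup.center (Subgroup.centralizer (Subgroup.zpowers v : Set G)) := by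
    intro a ha
    obtain ⟨n, hn⟩ := Subgroup.mem_subgroupOf.1 ha
    refine Subgroup.mem_center_iff.2 fun g => Subtype.ext ?_
    show (g : G) * (a : G) = (a : G) * (g : G)
    rw [← hn]
    exact ((mem_centralizer_zpowers_iff.1 g.2).zpow_left n).symm.eq
  haveI : ((Subgroup.zpowers v).subgroupOf (Subgroup.centralizer (Subgroup.zpowers v : Set G))).Normal :=
    ⟨fun n hn g => by rw [Subgroup.mem_center_iff.1 (hKZ hn) g, mul_inv_cancel_right]; exact hn⟩
  haveI := Fintype.ofFinite (Subgroup.centralizer (Subgroup.zpowers v : Set G))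
  have hl : blockRank 2 f = 1 := blockRank_eq_one_of_central_two hM hind.1 hD hD4 _ hKZ
    (by rw [card_subgroupOf hZC, Nat.card_zpowers, hvo])
  refine ⟨hl, card_eq_four_of_subsection hM hmax.1.2.1 ?_ hvo
    (fun g => mem_centralizer_zpowers_iff) hind hD hD4 hl⟩
  exact Nat.pow_right_injective le_rfl (hBd.symm.trans hP4)

/-- Equality of centralisers does not affect the count. -/
theorem finsum_induced_congr {C D : Subgroup G} (h : C = D) (B : Set (IrrCharacter G)) :
    ∑ᶠ γ ∈ {γ : Set (IrrCharacter C) | IsInducedBlock M C γ B}, blockRank 2 γ =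
      ∑ᶠ γ ∈ {γ : Set (IrrCharacter D) | IsInducedBlock M D γ B}, blockRank 2 γ := by
  subst h; rfl

end Cfsg.Agent.Lib.BlockHeights
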