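import Cfsg.Agent.Lib.BlockHeights.KleinFourBlock
import Cfsg.Agent.Lib.BlockHeights.ChainCount

/-!
# Counting the subsections of a block with Klein four defect group
-/

set_option autoImplicit false
set_option linter.unusedSectionVars false
set_option linter.style.haveILetI false

namespace Cfsg.Agent.Lib.BlockHeights

open Cfsg Cfsg.Agent.Lib.Blocks Cfsg.Agent.Lib.Characters Cfsg.Agent.Lib.BrauerPairs

universe u

variable {G : Type u} [Group G] [Fintype G] {M : Ideal AlgInt} [M.IsPrime]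
  {B : Set (IrrCharacter G)} {P : Subgroup G}
  {c : Set (IrrCharacter (Subgroup.centralizer (P : Set G)))}

/-- The coefficient functions of two pairs at one subgroup determine the pairs. -/
theorem exists_conj_zpowers {v : G}
    (f : Set (IrrCharacter (Subgroup.centralizer (Subgroup.zpowers v : Set G)))) (g u : G)
    (hu : g * v * g⁻¹ = u) :
    ∃ γ : Set (IrrCharacter (Subgroup.centralizer (Subgroup.zpowers u : Set G))),
      (⟨Subgroup.zpowers u, γ⟩ : BrauerPairIdx G) = conjPair g ⟨Subgroup.zpowers v, f⟩ := by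
  have h : (conjPair g ⟨Subgroup.zpowers v, f⟩ : BrauerPairIdx G).1 = Subgroup.zpowers u := by
    show (Subgroup.zpowers v).map (MulAut.conj g).toMonoidHom = _
    rw [MonoidHom.map_zpowers, ← hu]
    rfl
  revert h
  generalize conjPair g (⟨Subgroup.zpowers v, f⟩ : BrauerPairIdx G) = a
  intro h
  obtain ⟨R, r⟩ := a
  simp only at h
  subst h
  exact ⟨r, rfl⟩

theorem pair_of_eq {a b : BrauerPairIdx G} (h : a = b) (ha : IsBrauerPairOf 2 M B a.1 a.2) :
    IsBrauerPairOf 2 M B b.1 b.2 := h ▸ ha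

theorem rank_of_eq {a b : BrauerPairIdx G} (h : a = b) :
    blockRank 2 a.2 = blockRank 2 b.2 := by subst h; rfl

theorem blockRank_conjPair (g : G) (a : BrauerPairIdx G) :
    blockRank 2 (conjPair g a).2 = blockRank 2 a.2 := by
  show blockRank 2 (conjBlock a.1 g a.2) = _
  haveI := Fintype.ofFinite (Subgroup.centralizer (a.1 : Set G))
  haveI := Fintype.ofFinite
    (Subgroup.centralizer ((a.1.map (MulAut.conj g).toMonoidHom : Subgroup G) : Set G))
  rw [conjBlock_eq_transBlock, blockRank_transBlock]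

/-- Fusion of involutions of the defect group is controlled by the inertial group. -/
theorem klein_fusion (hM : IsPModular 2 M) (hmax : IsMaximalBrauerPair 2 M B P c)
    (hV : IsKleinFour P) {v w : G} (hv : v ∈ P) (hw : w ∈ P)
    {f : Set (IrrCharacter (Subgroup.centralizer (Subgroup.zpowers v : Set G)))}
    {r : Set (IrrCharacter (Subgroup.centralizer (Subgroup.zpowers w : Set G)))}
    (hf : SubpairLE 2 M (Subgroup.zpowers v) f P c) (hr : SubpairLE 2 M (Subgroup.zpowers w) r P c)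
    {g : G} (hgv : g * v * g⁻¹ = w)
    (hg : conjPair g (⟨Subgroup.zpowers v, f⟩ : BrauerPairIdx G) = ⟨Subgroup.zpowers w, r⟩) :
    ∃ t ∈ pairStab P c, t * v * t⁻¹ = w := by
  haveI := Fact.mk hM.1
  have hfull : IsFullPair 2 M P (Subgroup.zpowers w) r :=
    isFullPair_of_isDefectGroup hM hmax.1.1 hr
      (isDefectGroup_stab_of_le hM hmax hr (le_normalizer_zpowers hV hw))
  set U := P.map (MulAut.conj g).toMonoidHom with hU
  have hUle : U ≤ Subgroup.centralizer (Subgroup.zpowers w : Set G) := by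
    rintro _ ⟨x, hx, rfl⟩
    rw [mem_centralizer_zpowers_iff, ← hgv]
    exact ((show Commute v x from klein_comm hV v hv x hx).map (MulAut.conj g).toMonoidHom)
  have hle' : Relation.ReflTransGen (NormalSubpairRel 2 M)
      (⟨Subgroup.zpowers w, r⟩ : BrauerPairIdx G) (conjPair g ⟨P, c⟩) := by
    rw [← hg]
    exact subpairLE_conj hf g
  have hu : IsNormalSubpair 2 M (Subgroup.zpowers w) r U (conjBlock P g c) :=
    isNormalSubpair_of_subpairLE hM (isBrauerPair_conj hmax.1.1 g) hle'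
      Relation.ReflTransGen.refl (subpairLE_le hle') (hUle.trans (centralizer_le_normalizer' _))
  obtain ⟨z, hz, hzle⟩ := exists_extend hM hmax hr hfull (hUle.trans le_sup_right) hu
  have h1 : conjPair z (conjPair g ⟨P, c⟩) = (⟨P, c⟩ : BrauerPairIdx G) := by
    rcases subpairLE_cases hM hzle with h | ⟨R, r', hlt, -, hle''⟩
    · exact h
    · exfalso
      have h2 := lt_of_lt_of_le (card_lt_card_subgroup hlt)
        (Subgroup.card_le_of_le (subpairLE_le hle''))
      rw [card_map_conj, hU, card_map_conj] at h2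
      exact lt_irrefl _ h2
  rw [← conjPair_mul] at h1
  refine ⟨z * g, ?_, ?_⟩
  · rw [mem_pairStab]
    refine ⟨mem_normalizer_of_map_eq (congrArg Sigma.fst h1), ?_⟩
    have h2 := congrArg pairCoeff h1
    rwa [pairCoeff_conjPair] at h2
  · rw [show z * g * v * (z * g)⁻¹ = z * (g * v * g⁻¹) * z⁻¹ by group, hgv,
      ← (mem_centralizer_zpowers_iff.1 hz).eq, mul_inv_cancel_right]

theorem card_centralizer_zpowers_conj (g : G) {v u : G} (hu : g * v * g⁻¹ = u) :
    Nat.card (Subgroup.centralizer (Subgroup.zpowers u : Set G)) =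
      Nat.card (Subgroup.centralizer (Subgroup.zpowers v : Set G)) := by
  have h : (Subgroup.zpowers v).map (MulAut.conj g).toMonoidHom = Subgroup.zpowers u := by
    rw [MonoidHom.map_zpowers, ← hu]
    rfl
  rw [← h]
  exact (Nat.card_congr (conjEquiv g (mem_centralizer_map_conj _ g)).toEquiv).symm

set_option maxHeartbeats 800000 in
/-- **The count of subsections.** -/
theorem klein_count (hM : IsPModular 2 M) (hmax : IsMaximalBrauerPair 2 M B P c)
    (hV : IsKleinFour P) :
    (Nat.card G : ℤ) * ((Nat.card B : ℤ) - (blockRank 2 B : ℤ)) *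
      ((Subgroup.centralizer (P : Set G)).relIndex (pairStab P c) : ℤ) =
    (Nat.card G : ℤ) * 3 := by
  classical
  haveI := Fact.mk hM.1
  haveI := hV
  set e := (Subgroup.centralizer (P : Set G)).relIndex (pairStab P c) with he
  let V : Finset G := Finset.univ.filter fun v => v ∈ P ∧ v ≠ 1
  have hVcard : V.card = 3 := by
    have h : V = (Finset.univ.filter (· ∈ P)).erase 1 := by ext; simp [V, and_comm]
    rw [h, Finset.card_erase_of_mem (by simp [one_mem]), ← Fintype.card_subtype,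
      ← Nat.card_eq_fintype_card, show Nat.card {x // x ∈ P} = 4 from IsKleinFour.card_four]
  have hmemV : ∀ {v}, v ∈ V → v ∈ P ∧ v ≠ 1 := fun h => (Finset.mem_filter.1 h).2
  have hf : ∀ v : V, ∃ f : Set (IrrCharacter (Subgroup.centralizer (Subgroup.zpowers (v : G) : Set G))),
      SubpairLE 2 M (Subgroup.zpowers (v : G)) f P c := fun v => by
    obtain ⟨f, -, hf⟩ := exists_subpairLE hM hmax.1.1
      (Subgroup.zpowers_le.2 (hmemV v.2).1)
    exact ⟨f, hf⟩
  choose f hf using hf
  have hΨ : ∀ a : G × V, ∃ γ : Set (IrrCharacter (Subgroup.centralizer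
      (Subgroup.zpowers (a.1 * (a.2 : G) * a.1⁻¹) : Set G))),
      (⟨Subgroup.zpowers (a.1 * (a.2 : G) * a.1⁻¹), γ⟩ : BrauerPairIdx G) =
        conjPair a.1 ⟨Subgroup.zpowers (a.2 : G), f a.2⟩ :=
    fun a => exists_conj_zpowers (f a.2) a.1 _ rfl
  choose γ hγ using hΨ
  let U : Finset G := Finset.univ.filter fun u => u ≠ 1 ∧ ∃ k : ℕ, orderOf u = 2 ^ k
  let S : (u : G) → Finset (Set (IrrCharacter (Subgroup.centralizer (Subgroup.zpowers u : Set G)))) :=
    fun u => (Set.toFinite {δ | IsBrauerPairOf 2 M B (Subgroup.zpowers u) δ}).toFinset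
  let T := U.sigma S
  let Ψ : G × V → Σ u : G, Set (IrrCharacter (Subgroup.centralizer (Subgroup.zpowers u : Set G))) :=
    fun a => ⟨a.1 * (a.2 : G) * a.1⁻¹, γ a⟩
  have hord : ∀ {u : G}, u ∈ U ↔ u ≠ 1 ∧ ∃ k : ℕ, orderOf u = 2 ^ k := fun {u} => by simp [U]
  have hpairv : ∀ v : V, IsBrauerPairOf 2 M B (Subgroup.zpowers (v : G)) (f v) := fun v =>
    (isBrauerPairOf_iff_of_subpairLE hM hmax.1.1 (hf v) hmax.1.2.1).1 hmax.1
  have hmaps : ∀ a ∈ (Finset.univ : Finset (G × V)), Ψ a ∈ T := by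
    rintro ⟨g, v⟩ -
    refine Finset.mem_sigma.2 ⟨hord.2 ⟨fun h => (hmemV v.2).2 ?_, 1, ?_⟩, ?_⟩
    · simpa [Ψ] using h
    · show orderOf (g * (v : G) * g⁻¹) = 2 ^ 1
      rw [show orderOf (g * (v : G) * g⁻¹) = orderOf (v : G) from
        orderOf_injective (MulAut.conj g).toMonoidHom (MulAut.conj g).injective _,
        klein_orderOf hV (hmemV v.2).1 (hmemV v.2).2, pow_one]
    · rw [Set.Finite.mem_toFinset]
      exact pair_of_eq (hγ (g, v)).symm (isBrauerPairOf_conj (hpairv v) g)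
  -- facts about the members
  have hmember : ∀ t ∈ T, blockRank 2 t.2 = 1 ∧
      ((Finset.univ : Finset (G × V)).filter fun a => Ψ a = t).card =
        e * Nat.card (Subgroup.centralizer (Subgroup.zpowers t.1 : Set G)) := by
    rintro ⟨u, δ⟩ ht
    obtain ⟨huU, hδ⟩ := Finset.mem_sigma.1 ht
    rw [Set.Finite.mem_toFinset] at hδ
    obtain ⟨x, hx⟩ := exists_conj_subpairLE hM hmax hδ
    have hu0 : x * u * x⁻¹ ∈ P :=
      subpairLE_le hx ⟨u, Subgroup.mem_zpowers u, rfl⟩
    have hu1 : x * u * x⁻¹ ≠ 1 := fun h => (hord.1 huU).1 (by simpa using h)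
    set v₀ : V := ⟨x * u * x⁻¹, Finset.mem_filter.2 ⟨Finset.mem_univ _, hu0, hu1⟩⟩ with hv₀
    have hpair₀ : conjPair x (⟨Subgroup.zpowers u, δ⟩ : BrauerPairIdx G) =
        ⟨Subgroup.zpowers (v₀ : G), f v₀⟩ := by
      obtain ⟨δ', hδ'⟩ := exists_conj_zpowers δ x (v₀ : G) rfl
      have hle : Relation.ReflTransGen (NormalSubpairRel 2 M)
          (⟨Subgroup.zpowers (v₀ : G), δ'⟩ : BrauerPairIdx G) ⟨P, c⟩ := hδ' ▸ hx
      rw [← hδ', subpairLE_unique hM hmax.1.1 hle (hf v₀)]
    have hpair₁ : conjPair x⁻¹ (⟨Subgroup.zpowers (v₀ : G), f v₀⟩ : BrauerPairIdx G) =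
        ⟨Subgroup.zpowers u, δ⟩ := by
      rw [← hpair₀, conjPair_inv_conjPair]
    refine ⟨?_, ?_⟩
    · show blockRank 2 (⟨Subgroup.zpowers u, δ⟩ : BrauerPairIdx G).2 = 1
      rw [← rank_of_eq hpair₁, blockRank_conjPair]
      exact (klein_subsection hM hmax hV hu0 hu1 (hf v₀)).1
    -- membership in the fibre
    have hiff : ∀ a : G × V, Ψ a = ⟨u, δ⟩ ↔ a.1 * (a.2 : G) * a.1⁻¹ = u ∧
        conjPair a.1 (⟨Subgroup.zpowers (a.2 : G), f a.2⟩ : BrauerPairIdx G) =
          ⟨Subgroup.zpowers u, δ⟩ := by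
      intro a
      rw [← hγ a]
      constructor
      · intro h
        refine ⟨congrArg Sigma.fst h, ?_⟩
        exact congrArg (fun s : Σ u : G, Set (IrrCharacter
          (Subgroup.centralizer (Subgroup.zpowers u : Set G))) =>
            (⟨Subgroup.zpowers s.1, s.2⟩ : BrauerPairIdx G)) h
      · rintro ⟨h1, h2⟩
        show (⟨a.1 * (a.2 : G) * a.1⁻¹, γ a⟩ : Σ u : G, Set (IrrCharacter
          (Subgroup.centralizer (Subgroup.zpowers u : Set G)))) = ⟨u, δ⟩
        revert h2
        generalize γ a = γa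
        revert γa
        rw [h1]
        intro γa h2
        simp only [Sigma.mk.injEq, heq_eq_eq, true_and] at h2 ⊢
        exact h2
    -- the orbit of `v₀`
    have hfib : ∀ a : G × V, Ψ a = ⟨u, δ⟩ → (a.2 : G) ∈ inertialOrbit P c (v₀ : G) := by
      intro a ha
      obtain ⟨h1, h2⟩ := (hiff a).1 ha
      have hg : conjPair (x * a.1) (⟨Subgroup.zpowers (a.2 : G), f a.2⟩ : BrauerPairIdx G) =
          ⟨Subgroup.zpowers (v₀ : G), f v₀⟩ := by rw [conjPair_mul, h2, hpair₀]
      have hgv : x * a.1 * (a.2 : G) * (x * a.1)⁻¹ = x * u * x⁻¹ :=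
        calc x * a.1 * (a.2 : G) * (x * a.1)⁻¹ = x * (a.1 * (a.2 : G) * a.1⁻¹) * x⁻¹ := by group
          _ = _ := by rw [h1]
      obtain ⟨t, ht, htv⟩ := klein_fusion hM hmax hV (hmemV a.2.2).1 hu0 (hf a.2) (hf v₀) hgv hg
      refine mem_inertialOrbit.2 ⟨t⁻¹, inv_mem ht, ?_⟩
      show t⁻¹ * (x * u * x⁻¹) * t⁻¹⁻¹ = _
      rw [← htv]; group
    have horb : ∀ w ∈ inertialOrbit P c (v₀ : G), w ∈ V := fun w hw => by
      obtain ⟨t, ht, rfl⟩ := mem_inertialOrbit.1 hw
      refine Finset.mem_filter.2 ⟨Finset.mem_univ _,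
        (Subgroup.mem_normalizer_iff.1 ht.1 _).1 hu0, fun h => hu1 ?_⟩
      have h' : (v₀ : G) = 1 := by simpa using h
      exact h'
    rw [Finset.card_eq_sum_card_fiberwise (f := fun a : G × V => (a.2 : G))
      (t := inertialOrbit P c (v₀ : G))
      (fun a ha => hfib a (Finset.mem_filter.1 ha).2)]
    rw [Finset.sum_congr rfl (g := fun _ =>
      Nat.card (Subgroup.centralizer (Subgroup.zpowers u : Set G))) fun w hw => ?_,
      Finset.sum_const, smul_eq_mul, card_inertialOrbit hM hmax hV hu0 hu1]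
    obtain ⟨t, ht, htw⟩ := mem_inertialOrbit.1 hw
    set wV : V := ⟨w, horb w hw⟩
    -- one element carrying the pair at `w` to `(u, δ)`
    have htpair : conjPair t (⟨Subgroup.zpowers (v₀ : G), f v₀⟩ : BrauerPairIdx G) =
        ⟨Subgroup.zpowers w, f wV⟩ := by
      obtain ⟨δ', hδ'⟩ := exists_conj_zpowers (f v₀) t w htw
      have h1 : Relation.ReflTransGen (NormalSubpairRel 2 M)
          (⟨Subgroup.zpowers w, δ'⟩ : BrauerPairIdx G) ⟨P, c⟩ := by
        have h2 : Relation.ReflTransGen (NormalSubpairRel 2 M)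
            (conjPair t ⟨Subgroup.zpowers (v₀ : G), f v₀⟩) (conjPair t ⟨P, c⟩) :=
          subpairLE_conj (hf v₀) t
        rwa [← hδ', show conjPair t (⟨P, c⟩ : BrauerPairIdx G) = ⟨P, c⟩ from
          pair_ext (normalizer_map_eq ht.1)
            (by rw [pairCoeff_conjPair]; exact (mem_pairStab.1 ht).2)] at h2
      rw [← hδ', subpairLE_unique hM hmax.1.1 h1 (hf wV)]
    set g₁ := x⁻¹ * t⁻¹ with hg₁
    have hg₁w : g₁ * w * g₁⁻¹ = u := by rw [hg₁, ← htw, hv₀]; group
    have hg₁p : conjPair g₁ (⟨Subgroup.zpowers w, f wV⟩ : BrauerPairIdx G) =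
        ⟨Subgroup.zpowers u, δ⟩ := by
      rw [hg₁, conjPair_mul, ← htpair, conjPair_inv_conjPair, hpair₁]
    rw [card_centralizer_zpowers_conj g₁ hg₁w, Nat.card_eq_fintype_card,
      ← Finset.card_univ]
    symm
    refine Finset.card_bij (fun z _ => ((g₁ * (z : G), wV) : G × V)) (fun z _ => ?_)
      (fun a _ b _ h => Subtype.ext (mul_left_cancel (congrArg Prod.fst h))) (fun a ha => ?_)
    · rw [Finset.mem_filter, Finset.mem_filter]
      refine ⟨⟨Finset.mem_univ _, (hiff _).2 ⟨?_, ?_⟩⟩, rfl⟩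
      · have hz := (mem_centralizer_zpowers_iff.1 z.2).eq
        show g₁ * (z : G) * w * (g₁ * (z : G))⁻¹ = u
        rw [mul_assoc g₁, ← hz, ← hg₁w]
        group
      · have hzfix : conjPair (z : G) (⟨Subgroup.zpowers w, f wV⟩ : BrauerPairIdx G) =
            ⟨Subgroup.zpowers w, f wV⟩ :=
          pair_ext (map_conj_of_mem_normalizer (centralizer_le_normalizer' _ z.2))
            (by rw [pairCoeff_conjPair]
                exact gconj_eq_self_iff.2 fun y => isPInv_subgroupBlockCoeff_self _ _ z.2 y)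
        show conjPair (g₁ * (z : G)) _ = _
        rw [conjPair_mul, hzfix, hg₁p]
    · rw [Finset.mem_filter, Finset.mem_filter] at ha
      obtain ⟨⟨-, ha⟩, haw⟩ := ha
      obtain ⟨h1, -⟩ := (hiff a).1 ha
      have hz : g₁⁻¹ * a.1 ∈ Subgroup.centralizer (Subgroup.zpowers (wV : G) : Set G) := by
        rw [mem_centralizer_zpowers_iff]
        show w * (g₁⁻¹ * a.1) = g₁⁻¹ * a.1 * w
        rw [← hg₁w] at h1
        calc w * (g₁⁻¹ * a.1) = g₁⁻¹ * (g₁ * w * g₁⁻¹) * a.1 := by group
          _ = g₁⁻¹ * (a.1 * (a.2 : G) * a.1⁻¹) * a.1 := by rw [h1]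
          _ = g₁⁻¹ * a.1 * (a.2 : G) := by group
          _ = _ := by rw [haw]
      exact ⟨⟨_, hz⟩, Finset.mem_univ _,
        Prod.ext (mul_inv_cancel_left g₁ a.1) (Subtype.ext haw.symm)⟩
  -- assemble
  have hcount : Nat.card G * 3 =
      ∑ u ∈ U, ∑ δ ∈ S u, e * Nat.card (Subgroup.centralizer (Subgroup.zpowers u : Set G)) := by
    rw [Nat.card_eq_fintype_card, ← hVcard, ← Fintype.card_coe, ← Fintype.card_prod,
      ← Finset.card_univ, Finset.card_eq_sum_card_fiberwise (f := Ψ) (t := T) hmaps,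
      Finset.sum_congr rfl fun t ht => (hmember t ht).2, Finset.sum_sigma]
  have hrank : ∀ u ∈ U,
      ∑ᶠ γ ∈ {γ : Set (IrrCharacter (Subgroup.centralizer ({u} : Set G))) |
        IsInducedBlock M (Subgroup.centralizer ({u} : Set G)) γ B}, blockRank 2 γ =
      (S u).card := by
    intro u hu
    rw [finsum_induced_congr (centralizer_singleton_eq_zpowers u) B,
      finsum_mem_eq_finite_toFinset_sum _ (Set.toFinite _), Finset.card_eq_sum_ones]
    refine Finset.sum_congr ?_ fun δ hδ => (hmember ⟨u, δ⟩ (Finset.mem_sigma.2 ⟨hu, hδ⟩)).1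
    ext δ
    simp only [S, Set.Finite.mem_toFinset, Set.mem_ofPred_eq]
    exact isInducedBlock_zpowers_iff hM (hord.1 hu).2 δ
  have h3 : ((Nat.card G * 3 : ℕ) : ℤ) =
      ((∑ u ∈ U, ∑ δ ∈ S u, e * Nat.card (Subgroup.centralizer (Subgroup.zpowers u : Set G)) : ℕ) :
        ℤ) := by rw [hcount]
  simp only [Nat.cast_mul, Nat.cast_sum, Nat.cast_ofNat] at h3
  rw [h3, card_mul_sub_blockRank hM hmax.1.2.1, Finset.sum_mul]
  refine Finset.sum_congr (by ext u; simp [U]) fun u hu => ?_
  rw [hrank u hu, centralizer_singleton_eq_zpowers u, Finset.sum_const, nsmul_eq_mul]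
  ring

/-- **Blocks with Klein four defect group.** -/
theorem klein_main (hM : IsPModular 2 M) (hmax : IsMaximalBrauerPair 2 M B P c)
    (hV : IsKleinFour P) :
    ((Subgroup.centralizer (P : Set G)).relIndex (pairStab P c) = 1 ∨
      (Subgroup.centralizer (P : Set G)).relIndex (pairStab P c) = 3) ∧
    Nat.card B = 4 ∧
      blockRank 2 B = (Subgroup.centralizer (P : Set G)).relIndex (pairStab P c) := by
  haveI := hV
  have hP4 : Nat.card P = 4 := IsKleinFour.card_four
  obtain ⟨v, hv, hv1⟩ := (Subgroup.bot_or_exists_ne_one P).resolve_left fun h => by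
    rw [h, Subgroup.card_bot] at hP4; omega
  obtain ⟨f, -, hf⟩ := exists_subpairLE hM hmax.1.1 (Subgroup.zpowers_le.2 hv)
  have hk := (klein_subsection hM hmax hV hv hv1 hf).2
  have he := klein_inertial hM hmax hV
  refine ⟨he, hk, ?_⟩
  have h := klein_count hM hmax hV
  rw [mul_assoc] at h
  have h' := mul_left_cancel₀ (Nat.cast_ne_zero.2 Nat.card_pos.ne' : (Nat.card G : ℤ) ≠ 0) h
  rw [hk] at h'
  rcases he with he | he <;> rw [he] at h' ⊢ <;> push_cast at h' <;> omega

end Cfsg.Agent.Lib.BlockHeights
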