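import Cfsg.Agent.Lib.BlockHeights.SectionCount
import Mathlib.FieldTheory.Minpoly.IsConjRoot
import Mathlib.RingTheory.Polynomial.Cyclotomic.Roots

/-!
# Height zero characters at a subsection for the prime two
-/

set_option autoImplicit false
set_option linter.unusedSectionVars false
set_option linter.style.haveILetI false

namespace Cfsg.Agent.Lib.BlockHeights

open Cfsg Cfsg.Agent.Lib.Blocks Cfsg.Agent.Lib.Characters
open scoped ComplexConjugate

universe u

/-! ### Galois sums in a cyclotomic field of `2`-power conductor -/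

/-- `±1` kept, every other number sent to zero. -/
noncomputable def signPart (z : ℂ) : ℤ := if z = 1 then 1 else if z = -1 then -1 else 0

theorem signPart_conj (z : ℂ) : signPart (conj z) = signPart z := by
  unfold signPart
  have h1 : conj z = 1 ↔ z = 1 :=
    ⟨fun h => by simpa using congrArg conj h, fun h => by simp [h]⟩
  have h2 : conj z = -1 ↔ z = -1 :=
    ⟨fun h => by simpa using congrArg conj h, fun h => by simp [h]⟩
  simp only [h1, h2]

theorem even_signPart_sub_one (z : ℂ) (hz : signPart z ≠ 0) : Even (signPart z - 1) := by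
  unfold signPart at hz ⊢
  split_ifs with h1 h2
  · exact ⟨0, by norm_num⟩
  · exact ⟨-1, by norm_num⟩
  · simp [h1, h2] at hz

variable {n k : ℕ} [NeZero n]

/-- The sum of the Galois conjugates of a root of unity of `2`-power order. -/
theorem sum_gal_root [Fintype (cycField n ≃ₐ[ℚ] cycField n)] (w : cycField n)
    (hw : (w : ℂ) ^ 2 ^ k = 1) :
    ∑ σ : cycField n ≃ₐ[ℚ] cycField n, ((σ w : cycField n) : ℂ) =
      (Fintype.card (cycField n ≃ₐ[ℚ] cycField n) : ℂ) * (signPart (w : ℂ) : ℂ) := by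
  classical
  unfold signPart
  split_ifs with h1 h2
  · have : w = 1 := Subtype.ext h1
    subst this
    simp
  · have : w = -1 := Subtype.ext (by simpa using h2)
    subst this
    simp
  haveI := isCyclotomic_cycField n
  haveI : IsGalois ℚ (cycField n) := IsCyclotomicExtension.isGalois {n} ℚ _
  have hdvd : orderOf (w : ℂ) ∣ 2 ^ k := orderOf_dvd_of_pow_eq_one hw
  obtain ⟨j, -, hj⟩ := (Nat.dvd_prime_pow Nat.prime_two).1 hdvd
  obtain ⟨i, rfl⟩ : ∃ i, j = i + 2 := by
    rcases j with _ | _ | i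
    · rw [pow_zero, orderOf_eq_one_iff] at hj; exact absurd hj h1
    · have hsq := pow_orderOf_eq_one (w : ℂ)
      rw [hj, zero_add, pow_one, sq_eq_one_iff] at hsq
      exact absurd hsq (by simp [h1, h2])
    · exact ⟨i, rfl⟩
  have hneg : orderOf (-(w : ℂ)) = 2 ^ (i + 2) := by
    haveI := Fact.mk Nat.prime_two
    refine orderOf_eq_prime_pow (n := i + 1) ?_ ?_
    · rw [neg_pow, Even.neg_one_pow ⟨2 ^ i, by ring⟩, one_mul]
      exact pow_ne_one_of_lt_orderOf (pow_ne_zero _ two_ne_zero)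
        (by rw [hj]; exact Nat.pow_lt_pow_right Nat.one_lt_two (by omega))
    · show (-(w : ℂ)) ^ 2 ^ (i + 1 + 1) = 1
      rw [neg_pow, Even.neg_one_pow ⟨2 ^ (i + 1), by ring⟩, one_mul,
        show i + 1 + 1 = i + 2 from rfl, ← hj, pow_orderOf_eq_one]
  have hp1 : IsPrimitiveRoot w (2 ^ (i + 2)) := by
    refine IsPrimitiveRoot.of_map_of_injective (f := (cycField n).val) ?_ (cycField n).val.injective
    rw [← hj]
    exact IsPrimitiveRoot.orderOf _
  have hp2 : IsPrimitiveRoot (-w) (2 ^ (i + 2)) := by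
    refine IsPrimitiveRoot.of_map_of_injective (f := (cycField n).val) ?_ (cycField n).val.injective
    rw [← hneg, show (cycField n).val (-w) = -(w : ℂ) from map_neg _ w]
    exact IsPrimitiveRoot.orderOf _
  have hconj : IsConjRoot ℚ (-w) w := by
    show minpoly ℚ (-w) = minpoly ℚ w
    rw [← Polynomial.cyclotomic_eq_minpoly_rat hp2 (by positivity),
      ← Polynomial.cyclotomic_eq_minpoly_rat hp1 (by positivity)]
  obtain ⟨τ, hτ⟩ := hconj.exists_algEquiv
  have hS : ∑ σ : cycField n ≃ₐ[ℚ] cycField n, ((σ w : cycField n) : ℂ) =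
      -∑ σ : cycField n ≃ₐ[ℚ] cycField n, ((σ w : cycField n) : ℂ) := by
    conv_lhs => rw [← Equiv.sum_comp (Equiv.mulRight τ)]
    rw [← Finset.sum_neg_distrib]
    refine Finset.sum_congr rfl fun σ _ => ?_
    simp [AlgEquiv.mul_apply, hτ]
  rw [Int.cast_zero, mul_zero]
  linear_combination (1 / 2 : ℂ) * hS

/-! ### The bound -/

variable {G : Type u} [Group G] [Fintype G] {M : Ideal AlgInt} [M.IsPrime]
  {C : Subgroup G} [Fintype C] {x : G}

/-- The rows of contributions have the norm of the diagonal entry. -/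
theorem sum_contrib_sq {p : ℕ} (hM : IsPModular p M) (hC : ∀ g, g ∈ C ↔ Commute x g)
    (hx : ∃ k : ℕ, orderOf x = p ^ k) [Fintype (IrrCharacter G)] {e : Set (IrrCharacter C)}
    {B : Set (IrrCharacter G)} (hind : IsInducedBlock M C e B) [Fintype {χ // χ ∈ B}]
    (χ : IrrCharacter G) :
    ∑ ψ : {ψ // ψ ∈ B}, contrib p x e χ ψ.1 * conj (contrib p x e χ ψ.1) =
      (p : ℂ) ^ blockDefect p e * contrib p x e χ χ := by
  classical
  haveI := Fintype.ofFinite (IrrCharacter C)
  set f := sect p x e (χ : G → ℂ) with hf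
  set n : ℂ := (Nat.card C : ℂ)⁻¹ with hn
  -- a row of inner products through the kernel
  have key : ∀ {ι : Type u} [Fintype ι] (w : ι → C → ℂ),
      ∑ i, classInner f (w i) * conj (classInner f (w i)) =
        n * n * ∑ s, ∑ t, f s * conj (f t) * ∑ i, w i t * conj (w i s) := by
    intro ι _ w
    have hnc : conj n = n := by simp [hn]
    simp only [classInner, map_mul, map_sum, Complex.conj_conj, ← hn, hnc]
    rw [Finset.sum_congr rfl fun i _ => by
      rw [mul_mul_mul_comm, Finset.sum_mul_sum, Finset.mul_sum]]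
    rw [Finset.sum_comm, Finset.mul_sum]
    refine Finset.sum_congr rfl fun s _ => ?_
    simp only [Finset.mul_sum]
    rw [Finset.sum_comm]
    refine Finset.sum_congr rfl fun t _ => Finset.sum_congr rfl fun i _ => ?_
    ring
  have hker : ∀ s t, ∑ ψ : {ψ // ψ ∈ B}, sect p x e (ψ.1 : G → ℂ) t *
      conj (sect p x e (ψ.1 : G → ℂ) s) = ∑ η : {η // η ∈ e},
        pRegularPart p (η.1 : C → ℂ) t * conj (pRegularPart p (η.1 : C → ℂ) s) := fun s t => by
    have h1 := sum_sect_block hM hC hx hind t s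
    rw [finsum_irr_eq_sum_ite, ← Finset.sum_filter, ← Finset.sum_filter,
      Finset.sum_subtype (p := (· ∈ B)) _ (fun y => by simp)
      (fun ψ => sect p x e (ψ : G → ℂ) t * conj (sect p x e (ψ : G → ℂ) s)),
      Finset.sum_subtype (p := (· ∈ e)) _ (fun y => by simp)
      (fun η => pRegularPart p (η : C → ℂ) t * conj (pRegularPart p (η : C → ℂ) s))] at h1
    exact h1
  have hθ : IsClassFunction C (shiftRes C x (χ : G → ℂ)) :=
    isClassFunction_shiftRes hC (irr_isClassFunction χ)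
  have h2 : ∑ ψ : {ψ // ψ ∈ B},
      classInner f (sect p x e (ψ.1 : G → ℂ)) * conj (classInner f (sect p x e (ψ.1 : G → ℂ))) =
      classInner f f := by
    rw [key, Finset.sum_congr rfl fun s _ => Finset.sum_congr rfl fun t _ => by rw [hker s t],
      ← key (fun η : {η // η ∈ e} => pRegularPart p (η.1 : C → ℂ))]
    have hc : ∀ η : IrrCharacter C, classInner f (pRegularPart p (η : C → ℂ)) =
        classInner f (η : C → ℂ) := fun η => by
      rw [← classInner_pRegularPart_comm]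
      congr 1
      funext y
      simp only [hf, sect, pRegularPart_eq, ← mul_assoc, regInd_mul_self]
    have hout : ∀ η : IrrCharacter C, η ∉ e → classInner f (η : C → ℂ) = 0 := fun η hη => by
      rw [hf, sect, ← blockPart_pRegularPart hM hind.1 hθ, classInner_blockPart, if_neg hη]
    simp only [hc]
    have hfc : IsClassFunction C f := by
      rw [hf]; exact isClassFunction_pRegularPart p (isClassFunction_blockPart e _)
    rw [classInner_eq_sum_irr hfc hfc,
      ← Finset.sum_subset (Finset.subset_univ (Finset.univ.filter (· ∈ e))) fun η _ hη => by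
        rw [show classInner f (η : C → ℂ) = 0 from hout η (by simpa using hη), zero_mul],
      Finset.sum_subtype (p := (· ∈ e)) _ (fun y => by simp)
        (fun η => classInner f (η : C → ℂ) * conj (classInner f (η : C → ℂ)))]
  simp only [contrib, map_mul, map_pow, map_natCast, mul_mul_mul_comm _ (classInner _ _) _
    (conj (classInner _ _)), ← Finset.mul_sum]
  rw [h2]
  ring

/-- **The Galois averages of the diagonal contributions.** -/
theorem exists_odd_averages (hM : IsPModular 2 M) (hC : ∀ g, g ∈ C ↔ Commute x g)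
    (hx : ∃ j : ℕ, orderOf x = 2 ^ j) {e : Set (IrrCharacter C)} {B : Set (IrrCharacter G)}
    (hind : IsInducedBlock M C e B) :
    ∃ t : IrrCharacter G → ℕ,
      (∀ χ ∈ B, blockHeight 2 B (χ : G → ℂ) = 0 → Odd (t χ) ∧
        Nat.card {ψ : IrrCharacter G // ψ ∈ B ∧ blockHeight 2 B (ψ : G → ℂ) = 0} ≤
          2 ^ blockDefect 2 e * t χ) ∧
      ∑ᶠ χ ∈ {χ | χ ∈ B ∧ blockHeight 2 B (χ : G → ℂ) = 0}, t χ ≤
        2 ^ blockDefect 2 e * blockRank 2 e := by
  classical
  obtain ⟨k, hk⟩ := id hx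
  have hxk : x ^ 2 ^ k = 1 := by rw [← hk, pow_orderOf_eq_one]
  haveI : NeZero (2 ^ k) := ⟨pow_ne_zero _ two_ne_zero⟩
  haveI := isCyclotomic_cycField (2 ^ k)
  haveI : FiniteDimensional ℚ (cycField (2 ^ k)) :=
    IsCyclotomicExtension.finiteDimensional {2 ^ k} ℚ _
  set K := cycField (2 ^ k)
  haveI : Fintype (K ≃ₐ[ℚ] K) := Fintype.ofFinite _
  set N := Fintype.card (K ≃ₐ[ℚ] K) with hN
  have hN0 : (0 : ℝ) < N := by exact_mod_cast Fintype.card_pos
  haveI := Fintype.ofFinite (IrrCharacter G)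
  haveI := Fintype.ofFinite (IrrCharacter C)
  haveI : Fintype {χ // χ ∈ B} := Fintype.ofFinite _
  set d := blockDefect 2 e with hd
  have hK2 : (((2 : K)) : ℂ) = 2 := map_ofNat K.val 2
  have hxC : x ∈ C := (hC x).2 (Commute.refl x)
  let a : IrrCharacter G → IrrCharacter G → K := fun χ ψ =>
    ⟨contrib 2 x e χ ψ, contrib_mem_cycField hM hC hind.1 hxk χ ψ⟩
  -- squares of conjugates
  let nsq : (K ≃ₐ[ℚ] K) → IrrCharacter G → IrrCharacter G → ℝ := fun σ χ ψ =>
    ‖((σ (a χ ψ) : K) : ℂ)‖ ^ 2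
  have hrow : ∀ (σ : K ≃ₐ[ℚ] K) (χ : IrrCharacter G),
      ((∑ ψ : {ψ // ψ ∈ B}, nsq σ χ ψ.1 : ℝ) : ℂ) =
        ((2 : ℝ) ^ d : ℝ) * ((σ (a χ χ) : K) : ℂ) := by
    intro σ χ
    choose hc hcσ using fun ψ : {ψ // ψ ∈ B} =>
      exists_conj_mem_comm σ (a χ ψ.1).2
    have h1 : ∑ ψ : {ψ // ψ ∈ B}, a χ ψ.1 * ⟨conj (a χ ψ.1 : ℂ), hc ψ⟩ =
        (2 : K) ^ d * a χ χ := Subtype.ext (by
      rw [AddSubmonoidClass.coe_finsetSum]
      simpa [a, hd, hK2] using sum_contrib_sq hM hC hx hind χ)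
    have h2 := congrArg (fun z : K => ((σ z : K) : ℂ)) h1
    simp only [map_sum, AddSubmonoidClass.coe_finsetSum, map_mul, map_pow, map_ofNat,
      MulMemClass.coe_mul, SubmonoidClass.coe_pow, hcσ] at h2
    push_cast [nsq]
    refine (Finset.sum_congr rfl fun ψ _ => (Complex.mul_conj' _).symm).trans (h2.trans ?_)
    congr 1
  -- the averages
  let ω : IrrCharacter C → IrrCharacter C → ℂ := fun η η' =>
    centralRoot x hxC η * conj (centralRoot x hxC η')
  have hω : ∀ η η', ω η η' ^ 2 ^ k = 1 := fun η η' => by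
    simp only [ω, mul_pow, centralRoot_pow hC hxC η hxk, ← map_pow,
      centralRoot_pow hC hxC η' hxk, map_one, mul_one]
  choose m hm using fun (χ : IrrCharacter G) (η : IrrCharacter C) =>
    exists_resMult_nat (C := C) χ η
  let F : IrrCharacter G → IrrCharacter C → IrrCharacter C → ℤ := fun χ η η' =>
    (m χ η : ℤ) * m χ η' * contribCoef 2 e η η'
  let T : IrrCharacter G → ℤ := fun χ => ∑ η, ∑ η', signPart (ω η η') * F χ η η'
  have hT : ∀ χ, ∑ σ : K ≃ₐ[ℚ] K, ((σ (a χ χ) : K) : ℂ) = (N : ℂ) * (T χ : ℂ) := by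
    intro χ
    have ha : a χ χ = ∑ η, ∑ η', (⟨ω η η', mem_cycField_of_pow_eq_one (hω η η')⟩ : K) *
        ((F χ η η' : ℤ) : K) := Subtype.ext (by
      simp only [AddSubmonoidClass.coe_finsetSum, MulMemClass.coe_mul]
      show contrib 2 x e χ χ = _
      rw [contrib_eq hM hC hxC hind.1]
      simp [ω, F, hm])
    simp only [ha, map_sum, map_mul, map_intCast, AddSubmonoidClass.coe_finsetSum,
      MulMemClass.coe_mul, T, Int.cast_sum, Int.cast_mul, Finset.mul_sum]
    rw [Finset.sum_comm]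
    refine Finset.sum_congr rfl fun η _ => ?_
    rw [Finset.sum_comm]
    refine Finset.sum_congr rfl fun η' _ => ?_
    rw [show (((F χ η η' : ℤ) : K) : ℂ) = (F χ η η' : ℂ) by simp, ← Finset.sum_mul,
      sum_gal_root (k := k) _ (hω η η'), mul_assoc]
  -- the rows
  have hTsum : ∀ χ, ∑ σ : K ≃ₐ[ℚ] K, ∑ ψ : {ψ // ψ ∈ B}, nsq σ χ ψ.1 =
      (2 : ℝ) ^ d * ((N : ℝ) * (T χ : ℝ)) := by
    intro χ
    have h : ((∑ σ : K ≃ₐ[ℚ] K, ∑ ψ : {ψ // ψ ∈ B}, nsq σ χ ψ.1 : ℝ) : ℂ) =
        (((2 : ℝ) ^ d * ((N : ℝ) * (T χ : ℝ)) : ℝ) : ℂ) := by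
      rw [Complex.ofReal_sum, Finset.sum_congr rfl fun σ _ => hrow σ χ, ← Finset.mul_sum, hT]
      push_cast
      ring
    exact_mod_cast h
  have hT0 : ∀ χ, 0 ≤ T χ := fun χ => by
    have h1 : (0 : ℝ) ≤ (2 : ℝ) ^ d * ((N : ℝ) * (T χ : ℝ)) :=
      hTsum χ ▸ Finset.sum_nonneg fun σ _ => Finset.sum_nonneg fun ψ _ => by positivity
    have h2 : (0 : ℝ) ≤ (T χ : ℝ) :=
      nonneg_of_mul_nonneg_right (nonneg_of_mul_nonneg_right h1 (by positivity)) hN0
    exact_mod_cast h2
  have hodd : ∀ χ ∈ B, blockHeight 2 B (χ : G → ℂ) = 0 → Odd (T χ) := by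
    intro χ hχ h0
    have hu : ¬ MemLocalIdeal M (((∑ η, ∑ η', F χ η η' : ℤ)) : ℂ) := by
      intro h
      apply contrib_unit hM hC hx hind hχ h0 hχ h0
      refine (memLocalIdeal_iff_of_sub ?_).1 h
      have := memLocalIdeal_neg (contrib_congr_sum hM hC hxC hx hind.1 χ χ)
      rw [neg_sub] at this
      simpa [F, hm] using this
    rw [memLocalIdeal_intCast_iff hM] at hu
    have hev : Even (T χ - ∑ η, ∑ η', F χ η η') := by
      rw [even_iff_two_dvd, show (2 : ℤ) = ((2 : ℕ) : ℤ) from rfl,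
        ← ZMod.intCast_zmod_eq_zero_iff_dvd]
      simp only [T, ← Finset.sum_sub_distrib, Int.cast_sum, ← sub_one_mul, ← Finset.sum_product']
      refine Finset.sum_involution (fun q _ => (q.2, q.1)) ?_ ?_ (fun q _ => by simp)
        (fun q _ => rfl)
      · intro q _
        have hs : signPart (ω q.2 q.1) = signPart (ω q.1 q.2) := by
          rw [show ω q.2 q.1 = conj (ω q.1 q.2) by simp [ω, mul_comm], signPart_conj]
        have hF : F χ q.2 q.1 = F χ q.1 q.2 := by
          simp only [F, contribCoef_symm hM.1 e q.2 q.1]; ring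
        rw [hs, hF]
        exact CharTwo.add_self_eq_zero _
      · intro q _ hq hfix
        apply hq
        have h12 : q.2 = q.1 := congrArg Prod.fst hfix
        have h1 : ω q.1 q.2 = 1 := by
          have hz := centralRoot_pow hC hxC q.1 hxk
          have hnorm := norm_eq_one_of_pow_eq_one' (pow_ne_zero k two_ne_zero) hz
          simp only [ω, h12]
          rw [Complex.mul_conj', hnorm]
          simp
        rw [h1]
        simp [signPart]
    have h2 : Odd (∑ η, ∑ η', F χ η η') := by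
      rw [← Int.not_even_iff_odd, even_iff_two_dvd]
      exact_mod_cast hu
    exact (Int.even_sub'.1 hev).2 h2
  refine ⟨fun χ => (T χ).toNat, fun χ hχ h0 => ⟨?_, ?_⟩, ?_⟩
  · have := hodd χ hχ h0
    rw [← Int.toNat_of_nonneg (hT0 χ)] at this
    exact_mod_cast this
  · -- the Galois norm of a nonzero entry
    have hlow : ∀ ψ : {ψ // ψ ∈ B}, blockHeight 2 B (ψ.1 : G → ℂ) = 0 →
        (N : ℝ) ≤ ∑ σ : K ≃ₐ[ℚ] K, nsq σ χ ψ.1 := by
      intro ψ hψ0
      refine card_le_sum_gal_normSq (a χ ψ.1) (isIntegral_contrib hM hC hind.1 χ ψ.1) ?_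
      exact fun h => contrib_unit hM hC hx hind hχ h0 ψ.2 hψ0
        (by rw [show contrib 2 x e χ ψ.1 = 0 from congrArg Subtype.val h]
            exact memLocalIdeal_zero)
    set S := Finset.univ.filter (fun ψ : {ψ // ψ ∈ B} => blockHeight 2 B (ψ.1 : G → ℂ) = 0) with hS
    have hcard : Nat.card {ψ : IrrCharacter G // ψ ∈ B ∧ blockHeight 2 B (ψ : G → ℂ) = 0} =
        S.card := by
      rw [hS, ← Fintype.card_subtype, ← Nat.card_eq_fintype_card]
      exact Nat.card_congr (Equiv.subtypeSubtypeEquivSubtypeInter _ _).symm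
    have h1 : (S.card : ℝ) * N ≤ (2 : ℝ) ^ d * ((N : ℝ) * (T χ : ℝ)) := by
      rw [← hTsum χ, Finset.sum_comm]
      calc (S.card : ℝ) * N = ∑ _ψ ∈ S, (N : ℝ) := by rw [Finset.sum_const, nsmul_eq_mul]
        _ ≤ ∑ ψ ∈ S, ∑ σ : K ≃ₐ[ℚ] K, nsq σ χ ψ.1 :=
            Finset.sum_le_sum fun ψ hψ => hlow ψ (Finset.mem_filter.1 hψ).2
        _ ≤ _ := Finset.sum_le_univ_sum_of_nonneg fun ψ =>
            Finset.sum_nonneg fun σ _ => by positivity
    have h2 : (S.card : ℤ) ≤ 2 ^ d * T χ := by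
      have : (S.card : ℝ) ≤ (2 : ℝ) ^ d * (T χ : ℝ) := by nlinarith [hN0]
      exact_mod_cast this
    rw [hcard]
    have h3 := Int.toNat_of_nonneg (hT0 χ)
    rw [← h3] at h2
    exact_mod_cast h2
  · -- the trace
    have htr : ∑ χ : {χ // χ ∈ B}, T χ.1 = (2 : ℤ) ^ d * blockRank 2 e := by
      have h1 : (∑ χ : {χ // χ ∈ B}, a χ.1 χ.1) = (2 : K) ^ d * (blockRank 2 e : K) := by
        refine Subtype.ext ?_
        rw [AddSubmonoidClass.coe_finsetSum]
        simp only [a, contrib, classInner]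
        rw [← Finset.mul_sum, ← Finset.mul_sum]
        have h2 := sum_sect_norm hM hC hx hind
        rw [finsum_mem_eq_finite_toFinset_sum _ (Set.toFinite B),
          Finset.sum_subtype (p := (· ∈ B)) _ (fun y => Set.Finite.mem_toFinset _)
          (fun χ => ∑ s : C, sect 2 x e (χ : G → ℂ) s * conj (sect 2 x e (χ : G → ℂ) s))] at h2
        rw [h2, ← mul_assoc ((Nat.card C : ℂ)⁻¹), inv_mul_cancel₀ natCard_ne_zero_complex, one_mul]
        simp [hd, hK2]
      have h2 : ∑ σ : K ≃ₐ[ℚ] K, ((σ (∑ χ : {χ // χ ∈ B}, a χ.1 χ.1) : K) : ℂ) =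
          (N : ℂ) * ((2 : ℂ) ^ d * (blockRank 2 e : ℂ)) := by
        simp [h1, hN, hK2, map_ofNat]
      simp only [map_sum, AddSubmonoidClass.coe_finsetSum] at h2
      rw [Finset.sum_comm, Finset.sum_congr rfl fun χ _ => hT χ.1, ← Finset.mul_sum] at h2
      have h3 := mul_left_cancel₀ (show (N : ℂ) ≠ 0 by exact_mod_cast hN0.ne') h2
      exact_mod_cast h3
    have hnn : ((∑ χ : {χ // χ ∈ B}, (T χ.1).toNat : ℕ) : ℤ) = (2 : ℤ) ^ d * blockRank 2 e := by
      rw [← htr, Nat.cast_sum]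
      exact Finset.sum_congr rfl fun χ _ => Int.toNat_of_nonneg (hT0 χ.1)
    have hnn' : ∑ χ : {χ // χ ∈ B}, (T χ.1).toNat = 2 ^ d * blockRank 2 e := by exact_mod_cast hnn
    rw [← hnn', finsum_mem_eq_finite_toFinset_sum _ (Set.toFinite _),
      ← Finset.sum_subtype (p := (· ∈ B)) (Set.toFinite B).toFinset
        (fun y => Set.Finite.mem_toFinset _) (fun χ => (T χ).toNat)]
    exact Finset.sum_le_sum_of_subset (Set.Finite.toFinset_mono fun y hy => hy.1)

/-- **Sambale's bounds for the height zero characters, `p = 2`.** -/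
theorem two_height_zero_bounds (hM : IsPModular 2 M) (hC : ∀ g, g ∈ C ↔ Commute x g)
    (hx : ∃ j : ℕ, orderOf x = 2 ^ j) {e : Set (IrrCharacter C)} {B : Set (IrrCharacter G)}
    (hind : IsInducedBlock M C e B) :
    (Odd (Nat.sqrt (blockRank 2 e)) →
      Nat.card {χ : IrrCharacter G // χ ∈ B ∧ blockHeight 2 B (χ : G → ℂ) = 0} ≤
        Nat.sqrt (blockRank 2 e) * 2 ^ blockDefect 2 e) ∧
    (¬ Odd (Nat.sqrt (blockRank 2 e)) →
      (Nat.sqrt (blockRank 2 e) + 1) *
          Nat.card {χ : IrrCharacter G // χ ∈ B ∧ blockHeight 2 B (χ : G → ℂ) = 0} ≤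
        blockRank 2 e * 2 ^ blockDefect 2 e) ∧
    (blockRank 2 e ≤ 3 →
      Nat.card {χ : IrrCharacter G // χ ∈ B ∧ blockHeight 2 B (χ : G → ℂ) = 0} ≤
        2 ^ blockDefect 2 e) := by
  classical
  obtain ⟨t, ht, hsum⟩ := exists_odd_averages hM hC hx hind
  set l := blockRank 2 e
  set s := Nat.sqrt l
  set S : Set (IrrCharacter G) := {χ | χ ∈ B ∧ blockHeight 2 B (χ : G → ℂ) = 0} with hS
  set k₀ := Nat.card {χ : IrrCharacter G // χ ∈ B ∧ blockHeight 2 B (χ : G → ℂ) = 0} with hk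
  set q := 2 ^ blockDefect 2 e
  have hl1 : s * s ≤ l := Nat.sqrt_le l
  have hl2 : l < (s + 1) * (s + 1) := Nat.lt_succ_sqrt l
  have hbig : ∀ c : ℕ, (∀ χ ∈ B, blockHeight 2 B (χ : G → ℂ) = 0 → c ≤ t χ) →
      c * k₀ ≤ q * l := by
    intro c hc
    refine le_trans (le_of_eq ?_) (le_trans (Finset.sum_le_sum (f := fun _ => c)
      (s := (Set.toFinite S).toFinset) fun χ hχ => ?_)
      (le_of_eq (finsum_mem_eq_finite_toFinset_sum _ (Set.toFinite S)).symm |>.trans hsum))
    · rw [Finset.sum_const, smul_eq_mul, ← Set.ncard_eq_toFinset_card S,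
        ← Nat.card_coe_set_eq, mul_comm]
      rfl
    · rw [Set.Finite.mem_toFinset] at hχ
      exact hc χ hχ.1 hχ.2
  have hodd : Odd s → k₀ ≤ s * q := by
    intro hs
    by_cases h : ∃ χ ∈ B, blockHeight 2 B (χ : G → ℂ) = 0 ∧ t χ ≤ s
    · obtain ⟨χ, hχ, h0, hts⟩ := h
      exact le_trans (ht χ hχ h0).2 (by rw [mul_comm]; exact Nat.mul_le_mul_right q hts)
    · simp only [not_exists, not_and, not_le] at h
      have h1 := hbig (s + 2) fun χ hχ h0 => by
        obtain ⟨i, hi⟩ := hs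
        obtain ⟨j, hj⟩ := (ht χ hχ h0).1
        have := h χ hχ h0
        omega
      have h2 : q * l ≤ q * (s * (s + 2)) := Nat.mul_le_mul_left q (by
        have h5 : s * (s + 2) + 1 = (s + 1) * (s + 1) := by ring
        omega)
      have h3 : (s + 2) * k₀ ≤ (s + 2) * (s * q) := h1.trans (h2.trans (le_of_eq (by ring)))
      exact Nat.le_of_mul_le_mul_left h3 (by omega)
  refine ⟨hodd, fun hs => ?_, fun h3 => ?_⟩
  · by_cases h : ∃ χ ∈ B, blockHeight 2 B (χ : G → ℂ) = 0 ∧ t χ ≤ s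
    · obtain ⟨χ, hχ, h0, hts⟩ := h
      obtain ⟨j, hj⟩ := (ht χ hχ h0).1
      obtain ⟨i, hi⟩ := Nat.not_odd_iff_even.1 hs
      have h1 := (ht χ hχ h0).2
      have h2 : t χ * (s + 1) ≤ l := by
        refine le_trans ?_ hl1
        nlinarith [show t χ + 1 ≤ s by omega]
      calc (s + 1) * k₀ ≤ (s + 1) * (q * t χ) := Nat.mul_le_mul_left _ h1
        _ = q * (t χ * (s + 1)) := by ring
        _ ≤ _ := by rw [mul_comm l]; exact Nat.mul_le_mul_left q h2
    · simp only [not_exists, not_and, not_le] at h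
      exact (hbig (s + 1) fun χ hχ h0 => h χ hχ h0).trans (le_of_eq (mul_comm _ _))
  · have hl0 : 0 < l := blockRank_pos hM hind.1
    have hs1 : s = 1 := by
      have h1 : s < 2 := by
        by_contra h
        have := Nat.mul_le_mul (not_lt.1 h) (not_lt.1 h)
        omega
      rcases Nat.eq_zero_or_pos s with h | h
      · rw [h] at hl2; omega
      · omega
    simpa [hs1] using hodd (by rw [hs1]; exact odd_one)

end Cfsg.Agent.Lib.BlockHeights
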