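import Cfsg.Agent.Lib.BlockHeights.CentralQuotientRank
import Cfsg.Agent.Lib.BlockHeights.AbelianInertial
import Cfsg.Agent.Lib.BlockHeights.TwoSubsection

/-!
# A major subsection of a block with Klein four defect group
-/

set_option autoImplicit false
set_option linter.unusedSectionVars false
set_option linter.style.haveILetI false

namespace Cfsg.Agent.Lib.BlockHeights

open Cfsg Cfsg.Agent.Lib.Blocks Cfsg.Agent.Lib.Characters Cfsg.Agent.Lib.BrauerPairs
open scoped ComplexConjugate

universe u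

variable {G : Type u} [Group G] [Fintype G] {M : Ideal AlgInt} [M.IsPrime]
  {B : Set (IrrCharacter G)}

set_option maxHeartbeats 800000 in
open Classical in
/-- **One subsection gives the number of characters.** -/
theorem card_eq_four_of_subsection (hM : IsPModular 2 M) (hB : IsPBlock M B)
    (hd : blockDefect 2 B = 2) {x : G} (hx : orderOf x = 2) {C : Subgroup G} [Fintype C]
    (hC : ∀ g, g ∈ C ↔ Commute x g) {b : Set (IrrCharacter C)} (hb : IsInducedBlock M C b B)
    {Db : Subgroup C} (hDb : IsDefectGroup 2 M b Db) (hDb4 : Nat.card Db = 4)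
    (hl : blockRank 2 b = 1) : Nat.card B = 4 := by
  haveI : Fact (Nat.Prime 2) := ⟨hM.1⟩
  haveI := Fintype.ofFinite (IrrCharacter G)
  haveI := Fintype.ofFinite (IrrCharacter C)
  have hx2 : ∃ k : ℕ, orderOf x = 2 ^ k := ⟨1, by rw [hx, pow_one]⟩
  have hxC : x ∈ C := (hC x).2 (Commute.refl x)
  have hh : ∀ χ ∈ B, blockHeight 2 B (χ : G → ℂ) = 0 := fun χ hχ => by
    by_contra hne
    have h1 := minExp_add_blockHeight (p := 2) hχ
    have h2 := nu_add_two_le hM hB hχ (by omega)
    have h3 := blockDefect_add_minExp (p := 2) hB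
    omega
  have hbd : blockDefect 2 b = 2 :=
    Nat.pow_right_injective le_rfl ((IsDefectGroup.card_eq hM hb.1 hDb).symm.trans hDb4)
  obtain ⟨φ, d, -, hval, hdsum⟩ := rank_one_data hM hb.1 hDb hl
  rw [hDb4, finsum_mem_eq_finite_toFinset_sum _ (Set.toFinite b)] at hdsum
  have hdec : ∀ χ : IrrCharacter G, ∃ a : ℤ, ∀ s, IsPRegular 2 s →
      blockPart b (shiftRes C x (χ : G → ℂ)) s = (a : ℂ) * φ s := by
    intro χ
    have hroot : ∀ η : IrrCharacter C, ∃ e : ℤ,
        centralRoot x hxC η * resMult C χ η = (e : ℂ) := by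
      intro η
      obtain ⟨m, hm⟩ := exists_resMult_nat χ η
      have h2 := centralRoot_pow hC hxC η (m := 2) (by rw [← hx, pow_orderOf_eq_one])
      rcases sq_eq_one_iff.1 h2 with h | h
      · exact ⟨m, by rw [h, hm, one_mul]; norm_num⟩
      · exact ⟨-m, by rw [h, hm]; push_cast; ring⟩
    choose e he using hroot
    refine ⟨∑ η ∈ Finset.univ.filter (· ∈ b), e η * d η, fun s hs => ?_⟩
    rw [blockPart_eq_sum, Finset.sum_apply, Int.cast_sum, Finset.sum_mul, Finset.sum_filter]
    refine Finset.sum_congr rfl fun η _ => ?_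
    by_cases hη : η ∈ b
    · rw [if_pos hη, if_pos hη, Pi.smul_apply, smul_eq_mul, classInner_shiftRes hC hxC, he,
        hval η hη s hs, Int.cast_mul, Int.cast_natCast, mul_assoc]
    · simp [hη]
  choose a ha using hdec
  set w : C → ℂ := fun s => regInd 2 s * φ s with hw
  have hsect : ∀ χ : IrrCharacter G,
      sect 2 x b (χ : G → ℂ) = (a χ : ℂ) • w := fun χ => by
    funext s
    simp only [sect, pRegularPart_eq, hw, Pi.smul_apply, smul_eq_mul]
    by_cases hs : IsPRegular 2 s
    · rw [ha χ s hs]; ring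
    · rw [regInd_of_singular hs]; ring
  obtain ⟨θ, hθ⟩ := IsPBlock.nonempty hb.1
  have hφ1 : φ 1 ≠ 0 := fun h => IsIrrCharacter.apply_one_ne_zero θ.2 (by
    rw [hval θ hθ 1 (isPRegular_one hM.1), h, mul_zero])
  have hw1 : w 1 = φ 1 := by simp only [hw, regInd_of_regular (isPRegular_one hM.1), one_mul]
  set s := (Set.toFinite B).toFinset with hs
  -- the sum of the squares
  have hsum : ∑ χ ∈ s, a χ ^ 2 = 4 := by
    have h := sum_sect_block hM hC hx2 hb 1 1
    rw [finsum_mem_eq_finite_toFinset_sum _ (Set.toFinite B)] at h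
    simp only [hsect, Pi.smul_apply, smul_eq_mul, hw1, map_mul, map_intCast] at h
    rw [← Finset.sum_filter, show Finset.univ.filter (· ∈ b) = (Set.toFinite b).toFinset by
      ext η; simp] at h
    rw [Finset.sum_congr (s₁ := (Set.toFinite b).toFinset) rfl (fun η hη => by
      rw [pRegularPart_one hM.1, hval η ((Set.toFinite b).mem_toFinset.1 hη) 1
        (isPRegular_one hM.1)])] at h
    have hne : φ 1 * conj (φ 1) ≠ 0 := mul_ne_zero hφ1 (by simpa using hφ1)
    have h' : ((∑ χ ∈ s, a χ ^ 2 : ℤ) : ℂ) * (φ 1 * conj (φ 1)) =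
        ((∑ η ∈ (Set.toFinite b).toFinset, d η ^ 2 : ℕ) : ℂ) * (φ 1 * conj (φ 1)) := by
      rw [Int.cast_sum, Nat.cast_sum, Finset.sum_mul, Finset.sum_mul]
      convert h using 1
      · refine Finset.sum_congr rfl fun χ _ => ?_
        push_cast
        ring
      · refine Finset.sum_congr rfl fun η _ => ?_
        rw [map_mul, map_natCast]
        push_cast
        ring
    rw [hdsum] at h'
    exact_mod_cast mul_right_cancel₀ hne h'
  -- the norm of the Brauer character
  have hnorm : ∀ χ : IrrCharacter G, classInner (sect 2 x b (χ : G → ℂ)) (sect 2 x b (χ : G → ℂ)) =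
      ((a χ ^ 2 : ℤ) : ℂ) * classInner w w := fun χ => by
    rw [hsect, classInner_smul_left, classInner_smul_right, map_intCast]
    push_cast
    ring
  have hww : (4 : ℂ) * classInner w w = 1 := by
    have h := sum_sect_norm hM hC hx2 hb
    rw [finsum_mem_eq_finite_toFinset_sum _ (Set.toFinite B), hl, Nat.cast_one, mul_one] at h
    have h' : ∑ χ ∈ s, classInner (sect 2 x b (χ : G → ℂ)) (sect 2 x b (χ : G → ℂ)) = 1 := by
      simp only [classInner, ← Finset.mul_sum]
      rw [h, inv_mul_cancel₀ natCard_ne_zero_complex]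
    simp only [hnorm] at h'
    rw [← Finset.sum_mul, ← Int.cast_sum, hsum] at h'
    exact_mod_cast h'
  have hodd : ∀ χ ∈ s, a χ ^ 2 = 1 := fun χ hχ => by
    have hχB : χ ∈ B := (Set.toFinite B).mem_toFinset.1 hχ
    have h1 := contrib_unit hM hC hx2 hb hχB (hh χ hχB) hχB (hh χ hχB)
    have h2 : contrib 2 x b χ χ = ((a χ ^ 2 : ℤ) : ℂ) := by
      rw [contrib, hnorm, hbd]
      linear_combination ((a χ ^ 2 : ℤ) : ℂ) * hww
    rw [h2, memLocalIdeal_intCast_iff hM] at h1
    have h3 : a χ ^ 2 ≤ 4 :=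
      le_trans (Finset.single_le_sum (f := fun χ => a χ ^ 2) (fun _ _ => sq_nonneg _) hχ) hsum.le
    have h4 : -2 ≤ a χ ∧ a χ ≤ 2 := ⟨by nlinarith, by nlinarith⟩
    obtain ⟨h4, h5⟩ := h4
    interval_cases (a χ) <;> first | rfl | (norm_num at h1)
  rw [Finset.sum_congr rfl hodd, Finset.sum_const, nsmul_eq_mul, mul_one] at hsum
  rw [Nat.card_eq_card_toFinset]
  have : s.card = 4 := by exact_mod_cast hsum
  convert this using 2
  ext; simp [hs]

end Cfsg.Agent.Lib.BlockHeights
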