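import Cfsg.Agent.Lib.Blocks.NormalP
import Mathlib.LinearAlgebra.Lagrange

/-!
# Exact support of block idempotents

If some local integral central function supported on a normal subgroup separates a block from
the other characters modulo `M`, then the idempotent of the block is supported on that subgroup.
-/

set_option autoImplicit false
set_option linter.unusedSectionVars false
set_option linter.style.haveILetI false

namespace Cfsg.Agent.Lib.BlockHeights

open Cfsg Cfsg.Agent.Lib.Blocks Cfsg.Agent.Lib.Characters

universe u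

variable {G : Type u} [Group G] [Fintype G] {p : ℕ} {M : Ideal AlgInt} [M.IsPrime]

theorem convPow_eq_zero_of_notMem {f : G → ℂ} {N : Subgroup G} (hf : ∀ x ∉ N, f x = 0) :
    ∀ (n : ℕ), ∀ x ∉ N, convPow f n x = 0
  | 0, x, hx => by
    classical
    rw [convPow, deltaOne_apply, if_neg]
    rintro rfl
    exact hx N.one_mem
  | n + 1, x, hx => by
    rw [convPow, conv]
    refine Finset.sum_eq_zero fun y _ => ?_
    by_cases hy : y ∈ N
    · rw [convPow_eq_zero_of_notMem hf n (y⁻¹ * x) (fun h => hx (by simpa using N.mul_mem hy h)),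
        mul_zero]
    · rw [hf y hy, zero_mul]

theorem isClassFunction_convPow {f : G → ℂ} (hf : IsClassFunction G f) :
    ∀ n, IsClassFunction G (convPow f n)
  | 0 => isClassFunction_deltaOne
  | n + 1 => isClassFunction_conv hf (isClassFunction_convPow hf n)

/-- A set separated by a function supported on `N` has idempotent supported on `N`. -/
theorem blockCoeff_eq_zero_of_separated {A : Set (IrrCharacter G)} {f : G → ℂ}
    (hf : IsClassFunction G f) {N : Subgroup G} (hN : ∀ x ∉ N, f x = 0)
    (hsep : ∀ χ ψ : IrrCharacter G, omega (χ : G → ℂ) f = omega (ψ : G → ℂ) f →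
      (χ ∈ A ↔ ψ ∈ A)) {g : G} (hg : g ∉ N) : blockCoeff A g = 0 := by
  classical
  haveI := Fintype.ofFinite (IrrCharacter G)
  let v : IrrCharacter G → ℂ := fun χ => omega (χ : G → ℂ) f
  let s : Finset ℂ := Finset.univ.image v
  let r : ℂ → ℂ := fun z => if ∃ χ ∈ A, v χ = z then 1 else 0
  let P : Polynomial ℂ := Lagrange.interpolate s id r
  have hP : ∀ χ : IrrCharacter G, P.eval (v χ) = if χ ∈ A then 1 else 0 := by
    intro χ
    have h := Lagrange.eval_interpolate_at_node (s := s) (v := id) r Function.injective_id.injOn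
      (Finset.mem_image_of_mem v (Finset.mem_univ χ))
    rw [id_eq] at h
    show Polynomial.eval (v χ) (Lagrange.interpolate s id r) = _
    rw [h]
    show (if ∃ χ' ∈ A, v χ' = v χ then (1 : ℂ) else 0) = _
    refine if_congr ⟨fun ⟨χ', h1, h2⟩ => (hsep χ' χ h2).1 h1, fun h => ⟨χ, h, rfl⟩⟩ rfl rfl
  have heq : blockCoeff A =
      ∑ i ∈ Finset.range (P.natDegree + 1), P.coeff i • convPow f i := by
    refine ext_omega (isClassFunction_blockCoeff A)
      (IsClassFunction.sum _ fun i _ => IsClassFunction.smul (isClassFunction_convPow hf i) _)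
      fun χ => ?_
    rw [omega_blockCoeff, omega_sum]
    simp only [omega_smul, omega_convPow χ.2 hf]
    rw [← Polynomial.eval_eq_sum_range]
    exact (hP χ).symm
  rw [heq, Finset.sum_apply]
  exact Finset.sum_eq_zero fun i _ => by
    rw [Pi.smul_apply, convPow_eq_zero_of_notMem hN i g hg, smul_zero]

/-- **The idempotent of a block is supported on the centralizer of a normal `p`-subgroup.** -/
theorem blockCoeff_eq_zero_of_notMem_centralizer (hM : IsPModular p M) {Q : Subgroup G}
    [Q.Normal] (hQ : IsPGroup p Q) {B : Set (IrrCharacter G)} (hB : IsPBlock M B) {g : G}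
    (hg : g ∉ Subgroup.centralizer (Q : Set G)) : blockCoeff B g = 0 := by
  classical
  haveI := Fact.mk hM.1
  haveI : Finite (ConjClasses G) := Finite.of_surjective _ ConjClasses.mk_surjective
  haveI := Fintype.ofFinite (ConjClasses G)
  have he := isRCentral_blockCoeff hM hB
  have hcl := isClassFunction_trunc_of_normal (P := Q) he.1
  have hclose : ∀ χ : IrrCharacter G, MemLocalIdeal M
      (omega (χ : G → ℂ) (trunc Q (blockCoeff B)) - omega (χ : G → ℂ) (blockCoeff B)) := by
    intro χ
    rw [omega_eq_sum_classes (irr_isClassFunction χ) hcl,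
      omega_eq_sum_classes (irr_isClassFunction χ) he.1, ← Finset.sum_sub_distrib]
    refine memLocalIdeal_sum _ fun C _ => ?_
    by_cases hC : Quotient.out C ∈ Subgroup.centralizer (Q : Set G)
    · rw [trunc_of_mem hC, sub_self]; exact memLocalIdeal_zero
    · rw [trunc_of_notMem hC, ← sub_mul, zero_sub]
      refine memLocalIdeal_mul_left (memLocalRing_neg (he.2 _)) ?_
      by_contra h
      exact hC (mem_centralizer_of_centralChar_ne hM hQ h)
  refine blockCoeff_eq_zero_of_separated hcl (fun x hx => trunc_of_notMem hx)
    (fun χ ψ h => ?_) hg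
  have h1 := hclose χ
  have h2 := hclose ψ
  rw [h] at h1
  have h3 := memLocalIdeal_sub h2 h1
  rw [omega_blockCoeff, omega_blockCoeff] at h3
  by_cases hχ : χ ∈ B <;> by_cases hψ : ψ ∈ B <;>
    simp only [hχ, hψ, if_true, if_false] at h3 ⊢
  · exact absurd (by simpa using h3) not_memLocalIdeal_one
  · exact absurd (by simpa using memLocalIdeal_neg h3) not_memLocalIdeal_one

end Cfsg.Agent.Lib.BlockHeights
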