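import Cfsg.Agent.Lib.BlockHeights.StabPIndex
import Cfsg.Agent.Lib.BlockHeights.Support
import Cfsg.Agent.Lib.BrauerPairs.Inertial

/-!
# Blocks of a group with a normal `p`-subgroup and blocks of its centralizer
-/

set_option autoImplicit false
set_option linter.unusedSectionVars false
set_option linter.style.haveILetI false

namespace Cfsg.Agent.Lib.BlockHeights

open Cfsg Cfsg.Agent.Lib.Blocks Cfsg.Agent.Lib.Characters
open scoped ComplexConjugate

universe u

variable {G : Type u} [Group G] [Fintype G] {p : ℕ} {M : Ideal AlgInt} [hMp : M.IsPrime]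
  (N : Subgroup G) [hN : N.Normal] [Fintype N]

theorem eq_orbitIdem_of_supported (hM : IsPModular p M) {B : Set (IrrCharacter G)}
    (hB : IsPBlock M B) (hsupp : ∀ x, x ∉ N → blockCoeff B x = 0) {e : Set (IrrCharacter N)}
    (he : IsPBlock M e) {η : IrrCharacter N} (hη : η ∈ e)
    (hω : MemLocalIdeal M (omega (η : N → ℂ) (resFun N (blockCoeff B)) - 1)) :
    blockCoeff B = orbitIdem N e := by
  classical
  have hBcl := isClassFunction_blockCoeff (G := G) B
  have heO := isRCentral_orbitIdem N hM (IsPBlock.blockOf_subset he)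
  obtain ⟨χe, hχe⟩ := exists_over N η
  have hχB : χe ∈ B := by
    by_contra hn
    rw [← omega_eq_of_constituent N hχe hBcl hsupp, omega_blockCoeff, if_neg hn, zero_sub] at hω
    exact not_memLocalIdeal_one (by simpa using memLocalIdeal_neg hω)
  refine ext_omega hBcl heO.1 fun χ => ?_
  obtain ⟨ψ, hψ⟩ := exists_constituent_restrict N χ
  rw [omega_blockCoeff, omega_orbitIdem N e hψ]
  refine if_congr ⟨fun hχ => constituent_mem_conjClosure N hM (IsPBlock.blockOf_subset he)
    (IsPBlock.sameBlock hB hχB hχ) hη hχe hψ, ?_⟩ rfl rfl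
  rintro ⟨g, θ, hθ, rfl⟩
  rw [classInner_restrict_conjIrrN] at hψ
  by_contra hn
  have h1 : omega (θ : N → ℂ) (resFun N (blockCoeff B)) = 0 := by
    rw [← omega_eq_of_constituent N hψ hBcl hsupp, omega_blockCoeff, if_neg hn]
  have h2 := omega_congr_of_sameBlock (IsPBlock.sameBlock he hη hθ)
    (isRCentral_resFun N (isRCentral_blockCoeff hM hB))
  rw [h1, sub_zero] at h2
  exact not_memLocalIdeal_of_sub not_memLocalIdeal_one hω h2

theorem orbitIdem_eq_average (hM : IsPModular p M) {e : Set (IrrCharacter N)}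
    (he : IsPBlock M e) (g : G) :
    orbitIdem N e g = (Nat.card (setStab N e) : ℂ)⁻¹ *
      ∑ x : G, extendByZero N (blockCoeff e) (x⁻¹ * g * x) := by
  classical
  have hmem : ∀ x : G, g ∈ N ↔ x⁻¹ * g * x ∈ N := fun x =>
    ⟨fun h => by simpa using hN.conj_mem g h x⁻¹, fun h => by
      simpa [mul_assoc] using hN.conj_mem _ h x⟩
  by_cases hg : g ∈ N
  swap
  · rw [orbitIdem_of_notMem N e hg, Finset.sum_eq_zero (fun x _ =>
      extendByZero_of_not_mem N _ fun h => hg ((hmem x).2 h)), mul_zero]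
  have hT0 : (Nat.card (setStab N e) : ℂ) ≠ 0 := Nat.cast_ne_zero.2 Nat.card_pos.ne'
  let β : N → ℂ := (Nat.card (setStab N e) : ℂ)⁻¹ •
    ∑ x : G, blockCoeff (conjIrrN N x⁻¹ '' e)
  suffices h : blockCoeff (conjClosure N e) = β by
    rw [orbitIdem, extendByZero_of_mem _ _ hg, h]
    simp only [β, Pi.smul_apply, Finset.sum_apply, smul_eq_mul]
    refine congrArg _ (Finset.sum_congr rfl fun x _ => ?_)
    rw [blockCoeff_image_conjIrrN, extendByZero_of_mem _ _ ((hmem x).1 hg)]
    exact congrArg _ (Subtype.ext (by simp))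
  refine ext_omega (isClassFunction_blockCoeff _) (fun a b => ?_) fun φ => ?_
  · simp only [β, Pi.smul_apply, Finset.sum_apply]
    exact congrArg _ (Finset.sum_congr rfl fun x _ => isClassFunction_blockCoeff _ a b)
  rw [omega_smul, omega_sum, omega_blockCoeff]
  simp only [omega_blockCoeff]
  rw [Finset.sum_boole]
  split_ifs with hφ
  · obtain ⟨a, θ, hθ, rfl⟩ := hφ
    rw [show ((Finset.univ.filter fun x : G => conjIrrN N a θ ∈ conjIrrN N x⁻¹ '' e).card) =
      Nat.card (setStab N e) from ?_, inv_mul_cancel₀ hT0]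
    rw [Nat.card_eq_fintype_card, Fintype.card_subtype]
    refine Finset.card_equiv (Equiv.mulLeft a) fun x => ?_
    simp only [Finset.mem_filter, Finset.mem_univ, true_and, Equiv.coe_mulLeft]
    have himg : conjIrrN N (a * x) '' e = blockOf M (conjIrrN N (a * x) θ : N → ℂ) := by
      rw [IsPBlock.eq_blockOf he hθ, image_blockOf]
    constructor
    · rintro ⟨θ', hθ', hθx⟩
      show conjIrrN N (a * x) '' e = e
      have e1 : conjIrrN N (a * x) θ = θ' := by
        rw [conjIrrN_mul, ← hθx, conjIrrN_cancel_inv]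
      rw [himg, e1, ← IsPBlock.eq_blockOf he hθ']
    · intro h
      refine ⟨conjIrrN N (a * x) θ, (show conjIrrN N (a * x) '' e = e from h) ▸
        Set.mem_image_of_mem _ hθ, ?_⟩
      rw [conjIrrN_mul, conjIrrN_inv_cancel]
  · rw [Finset.card_eq_zero.2 (Finset.filter_eq_empty_iff.2 fun x _ => ?_), Nat.cast_zero, mul_zero]
    rintro ⟨θ, hθ, rfl⟩
    exact hφ ⟨x⁻¹, θ, hθ, rfl⟩

theorem normal_p_centralizer (hM : IsPModular p M) (P : Subgroup G) [hPn : P.Normal]
    (hP : IsPGroup p P) {B : Set (IrrCharacter G)}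
    {e : Set (IrrCharacter (Subgroup.centralizer (P : Set G)))} (hBe : IsBrauerPairOf p M B P e)
    (T : Subgroup G) [Fintype T]
    (hT : ∀ x : G, x ∈ T ↔ StabilizesBlock (Subgroup.centralizer (P : Set G)) e x) :
    (∃ E : Set (IrrCharacter T), IsPBlock M E ∧ ∀ t : T, blockCoeff E t =
      subgroupBlockCoeff (Subgroup.centralizer (P : Set G)) e (t : G)) ∧
    ∀ g : G, blockCoeff B g = (Nat.card T : ℂ)⁻¹ *
      ∑ x : G, subgroupBlockCoeff (Subgroup.centralizer (P : Set G)) e (x⁻¹ * g * x) := by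
  classical
  haveI := Fact.mk hM.1
  obtain ⟨hpair, hB, hω⟩ := hBe
  have he : IsPBlock M e := hpair.2
  haveI : (Subgroup.centralizer (P : Set G)).Normal := by
    refine ⟨fun c hc a => mem_centralizer_subgroup_iff.2 fun u hu => ?_⟩
    have h := mem_centralizer_subgroup_iff.1 hc (a⁻¹ * u * a)
      (by simpa using hPn.conj_mem u hu a⁻¹)
    calc u * (a * c * a⁻¹) = a * (a⁻¹ * u * a * c) * a⁻¹ := by group
      _ = a * (c * (a⁻¹ * u * a)) * a⁻¹ := by rw [h]
      _ = (a * c * a⁻¹) * u := by group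
  haveI := Fintype.ofFinite (Subgroup.centralizer (P : Set G))
  haveI : Finite (IrrCharacter (Subgroup.centralizer (P : Set G))) := finite_irrCharacter
  haveI := Fintype.ofFinite (IrrCharacter (Subgroup.centralizer (P : Set G)))
  have hTeq : ∀ x, x ∈ T ↔ x ∈ BrauerPairs.pairStab P e := fun x => by
    rw [hT x, BrauerPairs.mem_pairStab_iff]
    exact ⟨fun h => ⟨by rw [Subgroup.normalizer_eq_top]; exact Subgroup.mem_top x, h⟩, And.right⟩
  refine ⟨⟨BrauerPairs.blockAbove T e, BrauerPairs.isPBlock_blockAbove hM hP he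
    (fun x hx => (hTeq x).2 (BrauerPairs.centralizer_le_pairStab hx))
    (fun x hx => (hTeq x).2 (BrauerPairs.le_pairStab_self hx)) (fun x hx => (hTeq x).1 hx),
    fun t => ?_⟩, fun g => ?_⟩
  · rw [BrauerPairs.blockCoeff_blockAbove hM he
      (fun x hx => (hTeq x).2 (BrauerPairs.centralizer_le_pairStab hx))
      (fun x hx => (hTeq x).1 hx)]
    rfl
  obtain ⟨η, hη⟩ := IsPBlock.nonempty he
  have h1 := hω η hη
  rw [BrauerPairs.brauerOmega_eq_omega] at h1
  rw [eq_orbitIdem_of_supported _ hM hB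
    (fun x hx => blockCoeff_eq_zero_of_notMem_centralizer hM hP hB hx) he hη h1,
    orbitIdem_eq_average _ hM he, BrauerPairs.subgroupBlockCoeff_eq_extendByZero,
    show T = setStab (Subgroup.centralizer (P : Set G)) e from
      Subgroup.ext fun x => (hT x).trans (mem_setStab_iff _ e x).symm]

end Cfsg.Agent.Lib.BlockHeights
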