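import Cfsg.Agent.Lib.Blocks.Covering3
import Cfsg.Agent.Lib.Blocks.MainTheorems
import Cfsg.Agent.Lib.BrauerPairs.PIndex
import Cfsg.Agent.Lib.Glauberman.PGroup
import Cfsg.Agent.Lib.Glauberman.Conj
import Cfsg.Agent.Lib.Glauberman.RelativeInertial
import Cfsg.Agent.Lib.Cores.PCore

/-!
# Blocks of `p`-constrained groups

Let `K` be a normal `p'`-subgroup, `L ⊇ K` normal with `L / K` a `p`-group and `Q` a Sylow
`p`-subgroup of `L` such that every `p`-regular element centralising `Q` lies in `K`. Then the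
characters over an `L`-invariant character of `K` form a single block.
-/

set_option autoImplicit false
set_option linter.unusedSectionVars false
set_option linter.style.haveILetI false

namespace Cfsg.Agent.Lib.BlockHeights

open Cfsg Cfsg.Agent.Lib.Blocks Cfsg.Agent.Lib.Characters Cfsg.Agent.Lib.BrauerPairs
open scoped ComplexConjugate

universe u

variable {p : ℕ} {M : Ideal AlgInt} [M.IsPrime]

open Classical in
/-- Over an invariant character of a normal `p'`-subgroup of `p`-power index the defect is full. -/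
theorem full_defect_over (hM : IsPModular p M) {H : Type u} [Group H] [Fintype H] (N : Subgroup H)
    [N.Normal] [Fintype N] (hN : ¬ p ∣ Nat.card N) {k : ℕ} (hk : N.index = p ^ k)
    (θ : IrrCharacter N) (hinv : ∀ g, conjIrrN N g θ = θ) {ψ : IrrCharacter H}
    (hψ : classInner (fun n : N => (ψ : H → ℂ) n) (θ : N → ℂ) ≠ 0) :
    (∀ D : Subgroup H, IsDefectGroup p M (blockOf M (ψ : H → ℂ)) D → Nat.card D = p ^ k) ∧
      ∃ ψ' : IrrCharacter H, classInner (fun n : N => (ψ' : H → ℂ) n) (θ : N → ℂ) ≠ 0 ∧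
        ¬ p ∣ charDegree (ψ' : H → ℂ) := by
  haveI := Fact.mk hM.1
  have hsing := blockOf_eq_singleton_of_not_dvd hM hN θ
  have hc : IsPBlock M ({θ} : Set (IrrCharacter N)) := hsing ▸ isPBlock_blockOf θ
  have hst : ∀ g : H, StabilizesBlock N ({θ} : Set (IrrCharacter N)) g := fun g => by
    refine ⟨by rw [Subgroup.normalizer_eq_top N]; exact Subgroup.mem_top g,
      fun χ hχ => ⟨θ, rfl, ?_⟩⟩
    rw [Set.mem_singleton_iff.1 hχ]
    intro a b hab
    have h := congrFun (congrArg (fun η : IrrCharacter N => (η : N → ℂ)) (hinv g)) a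
    have hb : (⟨g * (a : H) * g⁻¹, Subgroup.Normal.conj_mem inferInstance _ a.2 g⟩ : N) = b :=
      Subtype.ext hab.symm
    show _ = _
    rw [← hb]
    exact h
  have hB := isPBlock_blockOf (M := M) ψ
  have hE : ∀ g, blockCoeff (blockOf M (ψ : H → ℂ)) g =
      subgroupBlockCoeff N ({θ} : Set (IrrCharacter N)) g := fun g => by
    rw [blockCoeff_eq_orbitIdem hM hk hc (Set.mem_singleton θ) hψ, orbitIdem,
      conjClosure_eq_of_stable hst, subgroupBlockCoeff_eq_extendByZero]
  have hcardH : Nat.card N * p ^ k = Nat.card H := by rw [← hk]; exact N.card_mul_index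
  have hcard : ∀ D : Subgroup H, IsDefectGroup p M (blockOf M (ψ : H → ℂ)) D →
      Nat.card D = p ^ k := by
    intro D hD
    obtain ⟨htop, -⟩ := defectGroup_of_stable hM hk hc hst hB hE hD
    obtain ⟨j, hj⟩ := (IsDefectGroup.isPGroup hD).exists_card_eq
    have hinf : D ⊓ N = ⊥ := by
      refine Subgroup.eq_bot_of_card_le _ (le_of_eq (Nat.eq_one_of_dvd_one ?_))
      have h1 : Nat.card ↥(D ⊓ N) ∣ Nat.card D := Subgroup.card_dvd_of_le inf_le_left
      have h2 : Nat.card ↥(D ⊓ N) ∣ Nat.card N := Subgroup.card_dvd_of_le inf_le_right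
      have h3 : Nat.Coprime (Nat.card D) (Nat.card N) := by
        rw [hj]; exact (hM.1.coprime_iff_not_dvd.2 hN).pow_left j
      exact h3 ▸ Nat.dvd_gcd h1 h2
    have h := Cores.card_sup_mul_card_inf D N
    rw [hinf, Subgroup.card_bot, mul_one, sup_comm, htop, Subgroup.card_top, ← hcardH,
      mul_comm (Nat.card D)] at h
    exact (Nat.eq_of_mul_eq_mul_left Nat.card_pos h).symm
  refine ⟨hcard, ?_⟩
  obtain ⟨D, hD⟩ := exists_isDefectGroup hM hB
  have hd : blockDefect p (blockOf M (ψ : H → ℂ)) = k :=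
    Nat.pow_right_injective hM.1.two_le ((IsDefectGroup.card_eq hM hB hD).symm.trans (hcard D hD))
  obtain ⟨ψ', hψ', h0⟩ := exists_blockHeight_eq_zero (p := p) hB
  refine ⟨ψ', classInner_ne_zero_of_sameBlock N hM hN
    (IsPBlock.sameBlock hB (self_mem_blockOf ψ) hψ') hψ, fun hdvd => ?_⟩
  have hfac : (Nat.card H).factorization p = k := by
    rw [← hcardH, Nat.factorization_mul Nat.card_pos.ne' (pow_ne_zero _ hM.1.ne_zero),
      Finsupp.add_apply, Nat.factorization_eq_zero_of_not_dvd hN,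
      Nat.Prime.factorization_pow hM.1, Finsupp.single_eq_same, zero_add]
  have h1 : 0 < (charDegree (ψ' : H → ℂ)).factorization p :=
    hM.1.factorization_pos_of_dvd (charDegree_pos ψ').ne' hdvd
  have h2 := (Nat.factorization_le_iff_dvd (charDegree_pos ψ').ne' Nat.card_pos.ne').2
    (charDegree_dvd_card ψ') p
  rw [blockDefect] at hd
  rw [blockHeight] at h0
  omega

variable {G : Type u} [Group G] [Fintype G]

/-- Constituents of constituents. -/
theorem classInner_restrict_restrict {K H : Subgroup G} (hKH : K ≤ H) [Fintype K] [Fintype H]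
    [Fintype (IrrCharacter H)] (χ : IrrCharacter G) (θ : IrrCharacter K) :
    classInner (fun n : K => (χ : G → ℂ) n) (θ : K → ℂ) =
      ∑ ψ : IrrCharacter H, classInner (fun h : H => (χ : G → ℂ) h) (ψ : H → ℂ) *
        classInner (fun n : K => (ψ : H → ℂ) ⟨n, hKH n.2⟩) (θ : K → ℂ) := by
  have hd := eq_sum_classInner
    (IsCharacter.isClassFunction (IsCharacter.restrict (irr_isCharacter χ) H))
  have h2 : (fun n : K => (χ : G → ℂ) n) = ∑ ψ : IrrCharacter H,
      classInner (fun h : H => (χ : G → ℂ) h) (ψ : H → ℂ) •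
        (fun n : K => (ψ : H → ℂ) ⟨n, hKH n.2⟩) := funext fun n => by
    simpa [Finset.sum_apply] using congrFun hd ⟨n, hKH n.2⟩
  rw [h2, classInner_sum_left]
  exact Finset.sum_congr rfl fun ψ _ => classInner_smul_left _ _ _

theorem classInner_restrict_nat {K H : Subgroup G} (hKH : K ≤ H) [Fintype K]
    (ψ : IrrCharacter H) (θ : IrrCharacter K) :
    ∃ m : ℕ, classInner (fun n : K => (ψ : H → ℂ) ⟨n, hKH n.2⟩) (θ : K → ℂ) = (m : ℂ) :=
  IsCharacter.exists_classInner_nat
    (IsCharacter.comp (irr_isCharacter ψ) (Subgroup.inclusion hKH)) (irr_isCharacter θ)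

theorem classInner_subgroupOf_trans {K H : Subgroup G} (hKH : K ≤ H) [Fintype K]
    [Fintype (K.subgroupOf H)] (f : H → ℂ) (θ : IrrCharacter K) :
    classInner (fun n : K.subgroupOf H => f n)
        (transIrr (Subgroup.subgroupOfEquivOfLe hKH).symm θ : K.subgroupOf H → ℂ) =
      classInner (fun n : K => f ⟨n, hKH n.2⟩) (θ : K → ℂ) :=
  Glauberman.classInner_subgroupOf K H hKH f (θ : K → ℂ)

section

variable (K : Subgroup G) [hKn : K.Normal] [Fintype K] {H : Subgroup G} [Fintype H]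

theorem conjIrrN_transIrr (hKH : K ≤ H) [Fintype (K.subgroupOf H)] {θ : IrrCharacter K}
    (hinv : ∀ g ∈ H, conjIrrN K g θ = θ) (h : H) :
    conjIrrN (K.subgroupOf H) h (transIrr (Subgroup.subgroupOfEquivOfLe hKH).symm θ) =
      transIrr (Subgroup.subgroupOfEquivOfLe hKH).symm θ := by
  refine Subtype.ext (funext fun n => ?_)
  have h1 := congrFun (congrArg (fun η : IrrCharacter K => (η : K → ℂ)) (hinv h h.2))
    ⟨((n : H) : G), Subgroup.mem_subgroupOf.1 n.2⟩
  exact h1

/-- The `p'`-degree character over an invariant character of a `p'`-subgroup. -/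
theorem exists_not_dvd_over (hM : IsPModular p M) (hK : ¬ p ∣ Nat.card K) (hKH : K ≤ H) {k : ℕ}
    (hk : (K.subgroupOf H).index = p ^ k) (hH : ¬ p ∣ H.index) {θ : IrrCharacter K}
    (hinv : ∀ g ∈ H, conjIrrN K g θ = θ) :
    ∃ χ : IrrCharacter G, classInner (fun n : K => (χ : G → ℂ) n) (θ : K → ℂ) ≠ 0 ∧
      ¬ p ∣ charDegree (χ : G → ℂ) := by
  classical
  haveI := Fintype.ofFinite (IrrCharacter G)
  haveI := Fintype.ofFinite (IrrCharacter H)
  haveI := Fintype.ofFinite (K.subgroupOf H)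
  have hN : ¬ p ∣ Nat.card (K.subgroupOf H) := by
    rwa [Nat.card_congr (Subgroup.subgroupOfEquivOfLe hKH).toEquiv]
  set θ' := transIrr (Subgroup.subgroupOfEquivOfLe hKH).symm θ with hθ'
  obtain ⟨ψ₀, hψ₀⟩ := exists_over (K.subgroupOf H) θ'
  obtain ⟨-, ψ, hψ, hdeg⟩ :=
    full_defect_over hM (K.subgroupOf H) hN hk θ' (conjIrrN_transIrr K hKH hinv) hψ₀
  have hI := IsCharacter.indFun H (irr_isCharacter ψ)
  have hd := congrFun (eq_sum_classInner (IsCharacter.isClassFunction hI)) 1
  have hcase : ∃ χ : IrrCharacter G, classInner (indFun H (ψ : H → ℂ)) (χ : G → ℂ) ≠ 0 ∧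
      ¬ p ∣ charDegree (χ : G → ℂ) := by
    by_contra hcon
    push Not at hcon
    have hm : ∀ χ : IrrCharacter G, ∃ m : ℕ,
        classInner (indFun H (ψ : H → ℂ)) (χ : G → ℂ) * (χ : G → ℂ) 1 = ((p * m : ℕ) : ℂ) := by
      intro χ
      obtain ⟨c, hc⟩ := IsCharacter.exists_classInner_nat hI (irr_isCharacter χ)
      by_cases h0 : classInner (indFun H (ψ : H → ℂ)) (χ : G → ℂ) = 0
      · exact ⟨0, by simp [h0]⟩
      · obtain ⟨m, hm⟩ := hcon χ h0
        exact ⟨c * m, by rw [hc, ← charDegree_eq, hm]; push_cast; ring⟩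
    choose m hm using hm
    rw [indFun_one, Finset.sum_apply] at hd
    simp only [Pi.smul_apply, smul_eq_mul, hm, ← charDegree_eq ψ, ← Nat.cast_mul,
      ← Nat.cast_sum, Nat.cast_inj, ← Finset.mul_sum] at hd
    exact ((Nat.Prime.dvd_mul hM.1).1 ⟨_, hd⟩).elim hH hdeg
  obtain ⟨χ, hχ, hχd⟩ := hcase
  refine ⟨χ, ?_, hχd⟩
  have h1 : classInner (fun h : H => (χ : G → ℂ) h) (ψ : H → ℂ) ≠ 0 := fun h => hχ (by
    rw [classInner_indFun H _ (irr_isClassFunction χ), ← classInner_conj_symm, h, map_zero])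
  rw [classInner_restrict_restrict hKH]
  intro h0
  have hc : ∀ η : IrrCharacter H, ∃ c : ℕ,
      classInner (fun h : H => (χ : G → ℂ) h) (η : H → ℂ) = (c : ℂ) := fun η =>
    IsCharacter.exists_classInner_nat (IsCharacter.restrict (irr_isCharacter χ) H)
      (irr_isCharacter η)
  choose c hc using hc
  choose e he using fun η => classInner_restrict_nat hKH η θ
  simp only [hc, he, ← Nat.cast_mul, ← Nat.cast_sum, Nat.cast_eq_zero,
    Finset.sum_eq_zero_iff] at h0
  rw [classInner_subgroupOf_trans hKH (ψ : H → ℂ) θ, he] at hψ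
  rw [hc] at h1
  exact mul_ne_zero (fun h => h1 (by rw [h, Nat.cast_zero]))
    (fun h => hψ (by rw [h, Nat.cast_zero])) (h0 ψ (Finset.mem_univ _))

/-- Defect groups of blocks over an invariant character contain a Sylow subgroup of `H`. -/
theorem exists_defectGroup_ge (hM : IsPModular p M) (hK : ¬ p ∣ Nat.card K) [hHn : H.Normal]
    (hKH : K ≤ H) {k : ℕ} (hk : (K.subgroupOf H).index = p ^ k) {Q : Subgroup G} (hQH : Q ≤ H)
    (hQ : IsPGroup p Q) (hQk : ¬ p ∣ Q.relIndex H) {θ : IrrCharacter K}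
    (hinv : ∀ g ∈ H, conjIrrN K g θ = θ) {χ : IrrCharacter G}
    (hχ : classInner (fun n : K => (χ : G → ℂ) n) (θ : K → ℂ) ≠ 0) :
    ∃ P : Subgroup G, IsDefectGroup p M (blockOf M (χ : G → ℂ)) P ∧ Q ≤ P := by
  classical
  haveI := Fact.mk hM.1
  haveI := Fintype.ofFinite (IrrCharacter H)
  haveI := Fintype.ofFinite (K.subgroupOf H)
  obtain ⟨ψ, hψ1, hψ2⟩ : ∃ ψ : IrrCharacter H,
      classInner (fun h : H => (χ : G → ℂ) h) (ψ : H → ℂ) ≠ 0 ∧
        classInner (fun n : K => (ψ : H → ℂ) ⟨n, hKH n.2⟩) (θ : K → ℂ) ≠ 0 := by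
    by_contra hcon
    push Not at hcon
    refine hχ ?_
    rw [classInner_restrict_restrict hKH]
    refine Finset.sum_eq_zero fun ψ _ => ?_
    by_cases h : classInner (fun h : H => (χ : G → ℂ) h) (ψ : H → ℂ) = 0
    · rw [h, zero_mul]
    · rw [hcon ψ h, mul_zero]
  rw [← classInner_subgroupOf_trans hKH (ψ : H → ℂ) θ] at hψ2
  have hN : ¬ p ∣ Nat.card (K.subgroupOf H) := by
    rwa [Nat.card_congr (Subgroup.subgroupOfEquivOfLe hKH).toEquiv]
  obtain ⟨hcard, -⟩ := full_defect_over hM (K.subgroupOf H) hN hk _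
    (conjIrrN_transIrr K hKH hinv) hψ2
  have hb := isPBlock_blockOf (M := M) ψ
  obtain ⟨D, hD⟩ := exists_isDefectGroup hM hb
  have hDcard := hcard D hD
  have hQp : IsPGroup p (Q.subgroupOf H) :=
    hQ.of_equiv (Subgroup.subgroupOfEquivOfLe hQH).symm
  let SQ : Sylow p H := hQp.toSylow (by rwa [Subgroup.relIndex] at hQk)
  have hDS : ¬ p ∣ D.index := by
    intro hd
    have h1 := D.card_mul_index
    rw [hDcard] at h1
    obtain ⟨e, he⟩ := hd
    have h2 : p ^ (k + 1) ∣ Nat.card H := ⟨e, by rw [← h1, he]; ring⟩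
    rw [← (K.subgroupOf H).card_mul_index, hk, pow_succ, mul_comm (Nat.card _)] at h2
    exact hN (Nat.dvd_of_mul_dvd_mul_left (pow_pos hM.1.pos _) h2)
  let SD : Sylow p H := (IsDefectGroup.isPGroup hD).toSylow hDS
  obtain ⟨a, ha⟩ := MulAction.exists_smul_eq H SD SQ
  have hQD : IsDefectGroup p M (blockOf M (ψ : H → ℂ)) (Q.subgroupOf H) := by
    have h := IsDefectGroup.map_conj hD a
    have h2 := congrArg (fun S : Sylow p H => (S : Subgroup H)) ha
    rw [Sylow.coe_subgroup_smul, IsPGroup.toSylow_coe] at h2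
    rw [show Q.subgroupOf H = D.map (MulAut.conj a).toMonoidHom from h2.symm]
    exact h
  obtain ⟨P, hP, hPQ⟩ := exists_defectGroup_inf_eq H hM (isPBlock_blockOf χ) hb
    ⟨χ, self_mem_blockOf χ, ψ, self_mem_blockOf ψ, hψ1⟩ hQH hQD
  exact ⟨P, hP, hPQ ▸ inf_le_left⟩

/-- **One block over an invariant character.** -/
theorem sameBlock_over (hM : IsPModular p M) (hK : ¬ p ∣ Nat.card K) [H.Normal] (hKH : K ≤ H)
    {k : ℕ} (hk : (K.subgroupOf H).index = p ^ k) {Q : Subgroup G} (hQH : Q ≤ H)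
    (hQ : IsPGroup p Q) (hQk : ¬ p ∣ Q.relIndex H)
    (hreg : ∀ g ∈ Subgroup.centralizer (Q : Set G), IsPRegular p g → g ∈ K)
    {θ : IrrCharacter K} (hinv : ∀ g ∈ H, conjIrrN K g θ = θ) {χ χ' : IrrCharacter G}
    (hχ : classInner (fun n : K => (χ : G → ℂ) n) (θ : K → ℂ) ≠ 0)
    (hχ' : classInner (fun n : K => (χ' : G → ℂ) n) (θ : K → ℂ) ≠ 0) :
    SameBlock M (χ : G → ℂ) (χ' : G → ℂ) := by
  classical
  haveI := Fact.mk hM.1
  haveI : Finite (ConjClasses G) := Finite.of_surjective _ ConjClasses.mk_surjective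
  haveI := Fintype.ofFinite (ConjClasses G)
  set e := blockCoeff (blockOf M (χ : G → ℂ)) with he
  have heR : IsRCentral M e := isRCentral_blockCoeff hM (isPBlock_blockOf χ)
  set F : G → ℂ := fun x => if x ∈ K then e x else 0 with hF
  have hFc : IsClassFunction G F := fun x g => by
    have hiff : g * x * g⁻¹ ∈ K ↔ x ∈ K :=
      ⟨fun h => by simpa [mul_assoc] using hKn.conj_mem _ h g⁻¹, fun h => hKn.conj_mem x h g⟩
    simp only [hF, hiff, heR.1 x g]
  have hsupp : ∀ x, x ∉ K → F x = 0 := fun x hx => if_neg hx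
  have key : ∀ η : IrrCharacter G, classInner (fun n : K => (η : G → ℂ) n) (θ : K → ℂ) ≠ 0 →
      MemLocalIdeal M (omega (η : G → ℂ) e - omega (θ : K → ℂ) (resFun K F)) := by
    intro η hη
    rw [← omega_eq_of_constituent K hη hFc hsupp,
      omega_eq_sum_classes (irr_isClassFunction η) heR.1,
      omega_eq_sum_classes (irr_isClassFunction η) hFc, ← Finset.sum_sub_distrib]
    refine memLocalIdeal_sum _ fun C _ => ?_
    rw [← sub_mul]
    by_cases hC : Quotient.out C ∈ K
    · simp [hF, hC, memLocalIdeal_zero]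
    · rw [hsupp _ hC, sub_zero]
      by_cases hreg' : p ∣ orderOf (Quotient.out C)
      · rw [he, blockCoeff_eq_zero_of_dvd hM (isPBlock_blockOf χ) hreg', zero_mul]
        exact memLocalIdeal_zero
      refine memLocalIdeal_mul_left (heR.2 _) ?_
      by_contra hne
      obtain ⟨P, hP, hQP⟩ := exists_defectGroup_ge K hM hK hKH hk hQH hQ hQk hinv hη
      obtain ⟨g₀, hg₀, S, rfl⟩ := hP
      obtain ⟨S'⟩ : Nonempty (Sylow p (Subgroup.centralizer ({Quotient.out C} : Set G))) :=
        inferInstance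
      obtain ⟨a, ha⟩ := isConjLE_of_omega hM (isPBlock_blockOf η) hg₀ S S' (self_mem_blockOf η) hne
      refine hC ?_
      have hc : a⁻¹ * Quotient.out C * a ∈ Subgroup.centralizer (Q : Set G) := by
        rw [mem_centralizer_subgroup_iff]
        intro q hq
        have h := mem_centralizer_subgroup_iff.1 (mem_centralizer_sylowSub S') (a * q * a⁻¹)
          (ha ⟨q, hQP hq, rfl⟩)
        have h' := congrArg (fun t => a⁻¹ * t * a) h
        simpa [mul_assoc] using h'
      have ho : orderOf (a⁻¹ * Quotient.out C * a) = orderOf (Quotient.out C) := by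
        have h := orderOf_injective (MulAut.conj a⁻¹).toMonoidHom (MulAut.conj a⁻¹).injective
          (Quotient.out C)
        simpa using h
      have hmem := hreg _ hc (by rw [IsPRegular, ho]; exact hreg')
      simpa [mul_assoc] using hKn.conj_mem _ hmem a
  have h := memLocalIdeal_sub (key χ hχ) (key χ' hχ')
  rw [sub_sub_sub_cancel_right, he, omega_blockCoeff, omega_blockCoeff,
    if_pos (self_mem_blockOf χ)] at h
  by_contra hne
  rw [if_neg (fun hh : χ' ∈ blockOf M (χ : G → ℂ) => hne hh), sub_zero] at h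
  exact not_memLocalIdeal_one h

end

end Cfsg.Agent.Lib.BlockHeights
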