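import Cfsg.Agent.Lib.BlockHeights.PConstrainedPrincipal

/-!
# The data of `O_{p',p}`
-/

set_option autoImplicit false
set_option linter.style.haveILetI false

namespace Cfsg.Agent.Lib.BlockHeights

open Cfsg

universe u

variable {G : Type u} [Group G] [Finite G] {p : ℕ} [hp : Fact p.Prime]

/-- `O_{p'}(G) ≤ O_{p',p}(G)` and a Sylow subgroup of the latter form constrained data. -/
theorem constrained_pPrimePCore {Q : Subgroup G} (hQL : Q ≤ pPrimePCore p G) (hQ : IsPGroup p Q)
    (hQS : ¬ p ∣ Q.relIndex (pPrimePCore p G))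
    (hC : Subgroup.centralizer (Q : Set G) ≤ pPrimePCore p G) :
    Constrained p (pPrimeCore p G) (pPrimePCore p G) Q where
  kNormal := (Cores.pPrimeCore_mem p G).1
  lNormal := (inferInstance : (pCore p (G ⧸ pPrimeCore p G)).Normal).comap _
  le := by
    conv_lhs => rw [← QuotientGroup.ker_mk' (pPrimeCore p G)]
    exact MonoidHom.comap_bot (QuotientGroup.mk' (pPrimeCore p G)) ▸ Subgroup.comap_mono bot_le
  notDvd := Cores.not_dvd_card_pPrimeCore
  index := by
    obtain ⟨k, hk⟩ := (Cores.pCore_isPGroup p (G ⧸ pPrimeCore p G)).exists_card_eq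
    refine ⟨k, ?_⟩
    have h : (pPrimeCore p G) =
        (⊥ : Subgroup (G ⧸ pPrimeCore p G)).comap (QuotientGroup.mk' (pPrimeCore p G)) := by
      rw [MonoidHom.comap_bot, QuotientGroup.ker_mk']
    show (pPrimeCore p G).relIndex (pPrimePCore p G) = _
    conv_lhs => arg 1; rw [h]
    rw [Subgroup.relIndex_comap, pPrimePCore,
      Subgroup.map_comap_eq_self_of_surjective (QuotientGroup.mk'_surjective _),
      Subgroup.relIndex_bot_left, hk]
  qle := hQL
  pGroup := hQ
  sylow := hQS
  centralizer := hC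

/-- Quotients of `p`-soluble groups are `p`-soluble. -/
theorem isPSolvable_quot (N : Subgroup G) [N.Normal] (h : IsPSolvable p G) :
    IsPSolvable p (G ⧸ N) := by
  obtain ⟨n, H, h0, h1, hm, hn, hf⟩ := h
  refine ⟨n, fun i => (H i).map (QuotientGroup.mk' N), by simp only [h0, Subgroup.map_bot], by
    simp only [h1, Subgroup.map_top_of_surjective _ (QuotientGroup.mk'_surjective N)],
    fun i j hij => Subgroup.map_mono (hm hij),
    fun i => (hn i).map _ (QuotientGroup.mk'_surjective N), fun i => ?_⟩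
  have hd : ((H i.castSucc).map (QuotientGroup.mk' N)).relIndex
      ((H i.succ).map (QuotientGroup.mk' N)) ∣ (H i.castSucc).relIndex (H i.succ) := by
    rw [Subgroup.relIndex_map_map, QuotientGroup.ker_mk']
    have := hn i.castSucc
    have hsn : (H i.castSucc ⊔ N).Normal := Subgroup.sup_normal _ _
    have e : H i.succ ⊔ N = H i.succ ⊔ (H i.castSucc ⊔ N) := by
      rw [← sup_assoc, sup_eq_left.mpr (hm (Fin.castSucc_lt_succ).le : H i.castSucc ≤ H i.succ)]
    rw [e, Subgroup.relIndex_sup_right]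
    exact Subgroup.relIndex_dvd_of_le_left _ le_sup_left
  rcases hf i with ⟨m, hm'⟩ | hc
  · rw [hm'] at hd
    obtain ⟨j, -, hj⟩ := (Nat.dvd_prime_pow hp.out).mp hd
    exact Or.inl ⟨j, hj⟩
  · exact Or.inr (Nat.Coprime.coprime_dvd_left hd hc)

/-- In a `p`-soluble group `C(Q) ≤ O_{p',p}(G)` for a Sylow subgroup `Q` of `O_{p',p}(G)`. -/
theorem centralizer_le_pPrimePCore (h : IsPSolvable p G) {Q : Subgroup G}
    (hQL : Q ≤ pPrimePCore p G) (hQ : IsPGroup p Q) (hQS : ¬ p ∣ Q.relIndex (pPrimePCore p G)) :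
    Subgroup.centralizer (Q : Set G) ≤ pPrimePCore p G := by
  intro c hc
  rw [pPrimePCore, Subgroup.mem_comap]
  refine Blocks.centralizer_pCore_le_of_isPSolvable p (isPSolvable_quot _ h)
    (Cores.pPrimeCore_quotient_pPrimeCore p G) ?_
  rw [Subgroup.mem_centralizer_iff]
  intro y hy
  set π := QuotientGroup.mk' (pPrimeCore p G) with hπ
  -- the image of `Q` is everything
  have hsub : Q.map π ≤ pCore p (G ⧸ pPrimeCore p G) :=
    Subgroup.map_le_iff_le_comap.2 hQL
  have heq : Q.map π = pCore p (G ⧸ pPrimeCore p G) := by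
    refine le_antisymm hsub (Subgroup.relIndex_eq_one.1 ?_)
    have h1 : (Q.map π).relIndex (pCore p (G ⧸ pPrimeCore p G)) ∣
        Nat.card (pCore p (G ⧸ pPrimeCore p G)) := Subgroup.relIndex_dvd_card _ _
    obtain ⟨k, hk⟩ := (Cores.pCore_isPGroup p (G ⧸ pPrimeCore p G)).exists_card_eq
    have h2 : (Q.map π).relIndex (pCore p (G ⧸ pPrimeCore p G)) ∣
        Q.relIndex (pPrimePCore p G) := by
      conv_lhs => rw [← Subgroup.map_comap_eq_self_of_surjective
        (QuotientGroup.mk'_surjective (pPrimeCore p G)) (pCore p (G ⧸ pPrimeCore p G))]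
      rw [hπ, Subgroup.relIndex_map_map]
      refine dvd_trans (Subgroup.relIndex_dvd_of_le_left _ le_sup_left) ?_
      rw [sup_eq_left.2 (by
        rw [QuotientGroup.ker_mk']
        conv_lhs => rw [← QuotientGroup.ker_mk' (pPrimeCore p G)]
        exact MonoidHom.comap_bot (QuotientGroup.mk' (pPrimeCore p G)) ▸ Subgroup.comap_mono bot_le)]
      rfl
    rw [hk] at h1
    obtain ⟨j, -, hj⟩ := (Nat.dvd_prime_pow hp.out).1 h1
    rcases Nat.eq_zero_or_pos j with rfl | hj0
    · simpa using hj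
    · exact absurd ((dvd_pow_self p hj0.ne').trans (hj ▸ h2)) hQS
  rw [SetLike.mem_coe, ← heq] at hy
  obtain ⟨q, hq, rfl⟩ := hy
  rw [← map_mul, ← map_mul, Subgroup.mem_centralizer_iff.1 hc q hq]

end Cfsg.Agent.Lib.BlockHeights
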