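import Cfsg.Agent.Lib.BlockHeights.PConstrained
import Cfsg.Agent.Lib.BlockHeights.AbelianInertial
import Cfsg.Agent.Lib.Coprime.PxQ
import Cfsg.Agent.Lib.Blocks.PSolvable
import Cfsg.Agent.Lib.BrauerPairs.DefectPairs

/-!
# Blocks of principal type in `p`-constrained groups
-/

set_option autoImplicit false
set_option linter.unusedSectionVars false
set_option linter.style.haveILetI false

namespace Cfsg.Agent.Lib.BlockHeights

open Cfsg Cfsg.Agent.Lib.Blocks Cfsg.Agent.Lib.Characters Cfsg.Agent.Lib.BrauerPairs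
open scoped ComplexConjugate

universe u

variable {G : Type u} [Group G] {p : ℕ} {M : Ideal AlgInt} [M.IsPrime]

/-- The groups entering the theorem. -/
structure Constrained (p : ℕ) (K L Q : Subgroup G) : Prop where
  kNormal : K.Normal
  lNormal : L.Normal
  le : K ≤ L
  notDvd : ¬ p ∣ Nat.card K
  index : ∃ k : ℕ, (K.subgroupOf L).index = p ^ k
  qle : Q ≤ L
  pGroup : IsPGroup p Q
  sylow : ¬ p ∣ Q.relIndex L
  centralizer : Subgroup.centralizer (Q : Set G) ≤ L

namespace Constrained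

variable [Fintype G] [hp : Fact p.Prime] {K L Q : Subgroup G}

theorem regular_mem (h : Constrained p K L Q) {g : G} (hgL : g ∈ L) (hg : IsPRegular p g) :
    g ∈ K := by
  classical
  haveI := Fintype.ofFinite L
  haveI := h.kNormal
  obtain ⟨k, hk⟩ := h.index
  have h1 := mem_of_index_eq_pow hp.out (K.subgroupOf L) hk (x := (⟨g, hgL⟩ : L))
    (by rwa [Subgroup.orderOf_mk])
  exact Subgroup.mem_subgroupOf.1 h1

theorem inf_eq_bot (h : Constrained p K L Q) : K ⊓ Q = ⊥ := by
  obtain ⟨j, hj⟩ := h.pGroup.exists_card_eq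
  refine Coprime.inf_eq_bot_of_coprime_card ?_
  rw [hj]
  exact ((hp.out.coprime_iff_not_dvd.2 h.notDvd).pow_left j).symm

theorem eq_one_of_mem (h : Constrained p K L Q) {x : G} (h1 : x ∈ K) (h2 : x ∈ Q) : x = 1 :=
  Subgroup.mem_bot.1 (h.inf_eq_bot ▸ Subgroup.mem_inf.2 ⟨h1, h2⟩)

theorem sup_eq (h : Constrained p K L Q) : K ⊔ Q = L := by
  haveI := h.kNormal
  have hle : K ⊔ Q ≤ L := sup_le h.le h.qle
  refine le_antisymm hle ?_
  obtain ⟨k, hk⟩ := h.index
  have h1 : (K ⊔ Q).relIndex L ∣ p ^ k := by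
    rw [← hk]
    exact Subgroup.relIndex_dvd_of_le_left L le_sup_left
  have h2 : (K ⊔ Q).relIndex L ∣ Q.relIndex L := Subgroup.relIndex_dvd_of_le_left L le_sup_right
  obtain ⟨j, -, hj⟩ := (Nat.dvd_prime_pow hp.out).1 h1
  refine Subgroup.relIndex_eq_one.1 ?_
  rcases Nat.eq_zero_or_pos j with rfl | hj0
  · simpa using hj
  · exact absurd ((dvd_pow_self p hj0.ne').trans (hj ▸ h2)) h.sylow

theorem exists_mul (h : Constrained p K L Q) {x : G} (hx : x ∈ L) :
    ∃ a ∈ K, ∃ q ∈ Q, x = a * q := by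
  haveI := h.kNormal
  rw [← h.sup_eq] at hx
  exact Coprime.exists_mul_of_mem_sup (by
    rw [Subgroup.normalizer_eq_top K]; exact le_top) hx

/-- Another Sylow subgroup of `L`. -/
theorem change (h : Constrained p K L Q) {Q' : Subgroup G} (hQ' : Q' ≤ L) (hp' : IsPGroup p Q')
    (hs : ¬ p ∣ Q'.relIndex L) : Constrained p K L Q' := by
  refine ⟨h.kNormal, h.lNormal, h.le, h.notDvd, h.index, hQ', hp', hs, fun c hc => ?_⟩
  let S : Sylow p L := (h.pGroup.of_equiv (Subgroup.subgroupOfEquivOfLe h.qle).symm).toSylow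
    (by have := h.sylow; rwa [Subgroup.relIndex] at this)
  let S' : Sylow p L := (hp'.of_equiv (Subgroup.subgroupOfEquivOfLe hQ').symm).toSylow
    (by rwa [Subgroup.relIndex] at hs)
  obtain ⟨a, ha⟩ := MulAction.exists_smul_eq L S S'
  have h2 := congrArg (fun T : Sylow p L => (T : Subgroup L)) ha
  rw [Sylow.coe_subgroup_smul, IsPGroup.toSylow_coe, IsPGroup.toSylow_coe] at h2
  have hmem : (a : G)⁻¹ * c * a ∈ Subgroup.centralizer (Q : Set G) := by
    rw [Subgroup.mem_centralizer_iff]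
    intro q hq
    have hq' : a * ⟨q, h.qle hq⟩ * a⁻¹ ∈ Q'.subgroupOf L := by
      rw [← h2]
      exact ⟨⟨q, h.qle hq⟩, hq, rfl⟩
    have h3 : (a : G) * q * (a : G)⁻¹ * c = c * ((a : G) * q * (a : G)⁻¹) :=
      Subgroup.mem_centralizer_iff.1 hc _ (Subgroup.mem_subgroupOf.1 hq')
    have h4 := congrArg (fun t => (a : G)⁻¹ * t * a) h3
    simpa [mul_assoc] using h4
  have h5 := L.mul_mem (L.mul_mem a.2 (h.centralizer hmem)) (L.inv_mem a.2)
  simpa [mul_assoc] using h5

/-- Elements centralising `L` modulo `K` lie in `L`. -/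
theorem mem_of_commutator (h : Constrained p K L Q) {g : G}
    (hg : ∀ q ∈ Q, g * q * g⁻¹ * q⁻¹ ∈ K) : g ∈ L := by
  haveI := h.lNormal
  haveI := h.kNormal
  have hQ' : ∀ q ∈ Q, g * q * g⁻¹ ∈ L := fun q hq => h.lNormal.conj_mem q (h.qle hq) g
  let S : Sylow p L := (h.pGroup.of_equiv (Subgroup.subgroupOfEquivOfLe h.qle).symm).toSylow
    (by have := h.sylow; rwa [Subgroup.relIndex] at this)
  let σ : MulAut L := (MulAut.conjNormal g : MulAut L)
  obtain ⟨a, ha⟩ := MulAction.exists_smul_eq L S (σ • S)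
  obtain ⟨m, hm, q₀, hq₀, ham⟩ := h.exists_mul a.2
  have h2 := congrArg (fun T : Sylow p L => (T : Subgroup L)) ha
  have hcong : ∀ q ∈ Q, ∃ q' ∈ Q, g * q * g⁻¹ = (a : G) * q' * (a : G)⁻¹ := by
    intro q hq
    have hmem : σ ⟨q, h.qle hq⟩ ∈ ((σ • S : Sylow p L) : Subgroup L) :=
      ⟨⟨q, h.qle hq⟩, hq, rfl⟩
    rw [← h2] at hmem
    obtain ⟨q', hq', he⟩ := hmem
    exact ⟨q', hq', (congrArg Subtype.val he).symm⟩
  have hc : m⁻¹ * g ∈ Subgroup.centralizer (Q : Set G) := by
    rw [Subgroup.mem_centralizer_iff]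
    intro q hq
    obtain ⟨q', hq', he⟩ := hcong q hq
    set z := q₀ * q' * q₀⁻¹ with hz
    have hzQ : z ∈ Q := Q.mul_mem (Q.mul_mem hq₀ hq') (Q.inv_mem hq₀)
    have he' : g * q * g⁻¹ = m * z * m⁻¹ := by rw [he, ham, hz]; group
    have hzq : z * q⁻¹ = 1 := by
      refine h.eq_one_of_mem ?_ (Q.mul_mem hzQ (Q.inv_mem hq))
      have h1 := hg q hq
      rw [he'] at h1
      have h3 : m⁻¹ * (m * z * m⁻¹ * q⁻¹) * (q * m * q⁻¹) ∈ K :=
        K.mul_mem (K.mul_mem (K.inv_mem hm) h1) (h.kNormal.conj_mem m hm q)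
      rwa [show m⁻¹ * (m * z * m⁻¹ * q⁻¹) * (q * m * q⁻¹) = z * q⁻¹ by group] at h3
    rw [mul_inv_eq_one.1 hzq] at he'
    calc q * (m⁻¹ * g) = m⁻¹ * (m * q * m⁻¹) * g := by group
      _ = m⁻¹ * (g * q * g⁻¹) * g := by rw [he']
      _ = _ := by group
  have := L.mul_mem (h.le hm) (h.centralizer hc)
  simpa using this

/-- The groups inside the centraliser of a `p`-subgroup normalising `Q`: decomposition. -/
theorem exists_mul_centralizer (h : Constrained p K L Q) {R : Subgroup G}
    (hR : R ≤ Subgroup.normalizer (Q : Set G)) {x : G} (hxL : x ∈ L)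
    (hxR : x ∈ Subgroup.centralizer (R : Set G)) :
    ∃ a ∈ K, ∃ q ∈ Q, x = a * q ∧ a ∈ Subgroup.centralizer (R : Set G) ∧
      q ∈ Subgroup.centralizer (R : Set G) := by
  haveI := h.kNormal
  obtain ⟨a, ha, q, hq, rfl⟩ := h.exists_mul hxL
  have hfix : ∀ r ∈ R, r * a * r⁻¹ = a ∧ r * q * r⁻¹ = q := by
    intro r hr
    have h1 : r * (a * q) * r⁻¹ = a * q := by
      rw [Subgroup.mem_centralizer_iff.1 hxR r hr, mul_inv_cancel_right]
    have hqr : r * q * r⁻¹ ∈ Q := (Subgroup.mem_normalizer_iff.1 (hR hr) q).1 hq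
    have h2 : a⁻¹ * (r * a * r⁻¹) = q * (r * q * r⁻¹)⁻¹ := by
      rw [eq_mul_inv_iff_mul_eq, mul_assoc,
        show r * a * r⁻¹ * (r * q * r⁻¹) = r * (a * q) * r⁻¹ by group, h1, inv_mul_cancel_left]
    have h3 : a⁻¹ * (r * a * r⁻¹) = 1 :=
      h.eq_one_of_mem (K.mul_mem (K.inv_mem ha) (h.kNormal.conj_mem a ha r))
        (h2 ▸ Q.mul_mem hq (Q.inv_mem hqr))
    rw [h3] at h2
    exact ⟨(inv_mul_eq_one.1 h3).symm, (mul_inv_eq_one.1 h2.symm).symm⟩
  refine ⟨a, ha, q, hq, rfl, ?_, ?_⟩ <;> rw [Subgroup.mem_centralizer_iff] <;> intro r hr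
  · exact mul_inv_eq_iff_eq_mul.1 (hfix r hr).1
  · exact mul_inv_eq_iff_eq_mul.1 (hfix r hr).2

/-- The `p`-regular elements of `C(R) ∩ C(C_Q(R))` lie in `K`. -/
theorem mem_of_fixed (h : Constrained p K L Q) {R : Subgroup G} (hRp : IsPGroup p R)
    (hR : R ≤ Subgroup.normalizer (Q : Set G)) {c : G} (hc : IsPRegular p c)
    (hcR : c ∈ Subgroup.centralizer (R : Set G))
    (hcQ : ∀ q ∈ Q, q ∈ Subgroup.centralizer (R : Set G) → q * c = c * q) : c ∈ K := by
  haveI := h.kNormal
  haveI := h.lNormal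
  set π := QuotientGroup.mk' K with hπ
  haveI hLn : (L.map π).Normal := h.lNormal.map π (QuotientGroup.mk'_surjective K)
  have hπQ : L.map π = Q.map π := by
    rw [← h.sup_eq, Subgroup.map_sup, (Subgroup.map_eq_bot_iff K).2 (by simp [hπ]), bot_sup_eq]
  have hUp : IsPGroup p (L.map π) := hπQ ▸ h.pGroup.map π
  have hle : Subgroup.zpowers (π c) ≤ Subgroup.centralizer ((L.map π : Subgroup _) : Set _) := by
    refine Coprime.le_centralizer_of_PxQ (hRp.map π) ?_ hUp ?_
      (by rw [Subgroup.normalizer_eq_top (L.map π)]; exact le_top)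
      (by rw [Subgroup.normalizer_eq_top (L.map π)]; exact le_top) ?_
    · rw [Nat.card_zpowers]
      exact (Nat.Coprime.symm (hp.out.coprime_iff_not_dvd.2 hc)).coprime_dvd_left
        (orderOf_map_dvd π c)
    · rintro _ ⟨r, hr, rfl⟩
      rw [Subgroup.mem_centralizer_iff]
      rintro _ ⟨n, rfl⟩
      have hcom : Commute (π c) (π r) :=
        (show Commute c r from (Subgroup.mem_centralizer_iff.1 hcR r hr).symm).map π
      exact (hcom.zpow_left n).eq
    · rintro y ⟨hy, hyR⟩
      rw [SetLike.mem_coe, hπQ] at hy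
      obtain ⟨q, hq, rfl⟩ := hy
      have hqR : q ∈ Subgroup.centralizer (R : Set G) := by
        rw [Subgroup.mem_centralizer_iff]
        intro r hr
        have h1 : π (r * q * r⁻¹ * q⁻¹) = 1 := by
          rw [map_mul, map_mul, map_mul, map_inv, map_inv,
            Subgroup.mem_centralizer_iff.1 hyR (π r) ⟨r, hr, rfl⟩]
          group
        have h2 : r * q * r⁻¹ * q⁻¹ = 1 := h.eq_one_of_mem ((QuotientGroup.eq_one_iff _).1 h1)
          (Q.mul_mem ((Subgroup.mem_normalizer_iff.1 (hR hr) q).1 hq) (Q.inv_mem hq))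
        exact mul_inv_eq_iff_eq_mul.1 (mul_inv_eq_one.1 h2)
      rw [Subgroup.mem_centralizer_iff]
      rintro _ ⟨n, rfl⟩
      have hcom : Commute (π c) (π q) := (show Commute c q from (hcQ q hq hqR).symm).map π
      exact (hcom.zpow_left n).eq
  refine h.regular_mem (h.mem_of_commutator fun q hq => ?_) hc
  refine (QuotientGroup.eq_one_iff _).1 ?_
  show π (c * q * c⁻¹ * q⁻¹) = 1
  have h1 := Subgroup.mem_centralizer_iff.1 (hle (Subgroup.mem_zpowers (π c))) (π q)
    ⟨q, h.qle hq, rfl⟩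
  rw [map_mul, map_mul, map_mul, map_inv, map_inv, ← h1]
  group

/-- A `p`-subgroup inside a Sylow subgroup `S` normalises the Sylow subgroup `S ⊓ L` of `L`. -/
theorem inf_sylow (h : Constrained p K L Q) (S : Sylow p G) :
    Constrained p K L ((S : Subgroup G) ⊓ L) ∧
      (S : Subgroup G) ≤ Subgroup.normalizer (((S : Subgroup G) ⊓ L : Subgroup G) : Set G) := by
  haveI := h.lNormal
  refine ⟨h.change inf_le_right (S.isPGroup'.to_le inf_le_left) fun hd => S.not_dvd_index ?_, ?_⟩
  · refine hd.trans (Nat.dvd_of_mul_dvd_mul_left (Nat.card_pos (α := (S : Subgroup G))) ?_)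
    rw [Subgroup.card_mul_index]
    have h1 := Cores.card_sup_mul_card_inf (S : Subgroup G) L
    have h2 := Coprime.relIndex_mul_card (inf_le_right : (S : Subgroup G) ⊓ L ≤ L)
    have h3 : Nat.card (S : Subgroup G) * ((S : Subgroup G) ⊓ L).relIndex L =
        Nat.card ↥((S : Subgroup G) ⊔ L) := by
      refine Nat.eq_of_mul_eq_mul_right (Nat.card_pos (α := ↥((S : Subgroup G) ⊓ L))) ?_
      rw [h1, ← h2]
      ring
    rw [h3]
    exact Subgroup.card_subgroup_dvd_card _
  · intro r hr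
    rw [Subgroup.mem_normalizer_iff]
    intro y
    constructor
    · rintro ⟨h1, h2⟩
      exact ⟨(S : Subgroup G).mul_mem ((S : Subgroup G).mul_mem hr h1)
        ((S : Subgroup G).inv_mem hr), h.lNormal.conj_mem y h2 r⟩
    · rintro ⟨h1, h2⟩
      have h1' := (S : Subgroup G).mul_mem
        ((S : Subgroup G).mul_mem ((S : Subgroup G).inv_mem hr) h1) hr
      have h2' := h.lNormal.conj_mem _ h2 r⁻¹
      simp only [mul_assoc, inv_mul_cancel_left, inv_mul_cancel, mul_one, inv_inv] at h1' h2'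
      exact ⟨h1', h2'⟩

end Constrained

variable [Fintype G]

/-- A block of `C(R)` induces `B` exactly when it gives a Brauer pair of `B`. -/
theorem isInducedBlock_iff_isBrauerPairOf (hM : IsPModular p M) {R : Subgroup G}
    (hR : IsPGroup p R) {B : Set (IrrCharacter G)}
    {f : Set (IrrCharacter (Subgroup.centralizer (R : Set G)))} :
    IsInducedBlock M (Subgroup.centralizer (R : Set G)) f B ↔ IsBrauerPairOf p M B R f := by
  classical
  haveI := Fintype.ofFinite (Subgroup.centralizer (R : Set G))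
  refine ⟨isBrauerPairOf_of_induced hM hR, fun h => ?_⟩
  obtain ⟨ξ, hξ⟩ := IsPBlock.nonempty h.1.2
  obtain ⟨χ, hχ⟩ := IsPBlock.nonempty h.2.1
  refine isInducedBlock_of_pair h.1.2 h.2.1 hξ hχ fun g => ?_
  have h1 := brauerOmega_congr_omega hM h hξ hχ (isRCentral_classIndicator (M := M) g)
  rwa [brauerOmega_eq_omega, omega_classIndicator (irr_isClassFunction χ)] at h1

section Good

variable (K : Subgroup G) [K.Normal] [Fintype K] (R : Subgroup G)

/-- `C_K(R)` as a subgroup of `C(R)` and as fixed points of `R`. -/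
def fixedCentralizerEquiv (hnorm : ∀ s ∈ R, ∀ g ∈ K, s * g * s⁻¹ ∈ K) :
    K.subgroupOf (Subgroup.centralizer (R : Set G)) ≃* Glauberman.fixedSub (Glauberman.conjHom K R hnorm) where
  toFun x := ⟨⟨((x : (Subgroup.centralizer (R : Set G))) : G), Subgroup.mem_subgroupOf.1 x.2⟩,
    (Glauberman.mem_fixedSub_conjHom hnorm).2 fun s hs => by
      show s * ((x : (Subgroup.centralizer (R : Set G))) : G) * s⁻¹ = ((x : (Subgroup.centralizer (R : Set G))) : G)
      rw [Subgroup.mem_centralizer_iff.1 (x : (Subgroup.centralizer (R : Set G))).2 s hs, mul_inv_cancel_right]⟩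
  invFun y := ⟨⟨((y : K) : G), Subgroup.mem_centralizer_iff.2 fun s hs =>
    mul_inv_eq_iff_eq_mul.1 ((Glauberman.mem_fixedSub_conjHom hnorm).1 y.2 s hs)⟩,
    Subgroup.mem_subgroupOf.2 (y : K).2⟩
  left_inv _ := rfl
  right_inv _ := rfl
  map_mul' _ _ := rfl

open Classical in
/-- The pairs at `R` of the block over `θ` lie over one character of `C_K(R)`. -/
theorem exists_unique_below (hM : IsPModular p M) (hK : ¬ p ∣ Nat.card K) (hR : IsPGroup p R)
    {θ : IrrCharacter K} (hinv : ∀ g, conjIrrN K g θ = θ) {B : Set (IrrCharacter G)}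
    (hB : ∀ χ : IrrCharacter G,
      χ ∈ B ↔ classInner (fun k : K => (χ : G → ℂ) k) (θ : K → ℂ) ≠ 0)
    [Fintype (Subgroup.centralizer (R : Set G))] [Fintype (K.subgroupOf (Subgroup.centralizer (R : Set G)))] :
    ∀ f f' : Set (IrrCharacter (Subgroup.centralizer (R : Set G))), IsBrauerPairOf p M B R f → IsBrauerPairOf p M B R f' →
      ∀ ξ ∈ f, ∀ ξ' ∈ f', ∀ β β' : IrrCharacter (K.subgroupOf (Subgroup.centralizer (R : Set G))),
        classInner (fun n : K.subgroupOf (Subgroup.centralizer (R : Set G)) => (ξ : (Subgroup.centralizer (R : Set G)) → ℂ) n) (β : K.subgroupOf (Subgroup.centralizer (R : Set G)) → ℂ) ≠ 0 →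
        classInner (fun n : K.subgroupOf (Subgroup.centralizer (R : Set G)) => (ξ' : (Subgroup.centralizer (R : Set G)) → ℂ) n) (β' : K.subgroupOf (Subgroup.centralizer (R : Set G)) → ℂ) ≠ 0 →
        β' = β := by
  haveI := Fact.mk hM.1
  have hnorm : ∀ s ∈ R, ∀ g ∈ K, s * g * s⁻¹ ∈ K := fun s _ g hg =>
    (inferInstance : K.Normal).conj_mem g hg s
  haveI := Fintype.ofFinite (Glauberman.fixedSub (Glauberman.conjHom K R hnorm))
  have hθinv : Glauberman.IsInv (Glauberman.conjHom K R hnorm) (θ : K → ℂ) := fun s g => by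
    have h1 := congrFun (congrArg (fun η : IrrCharacter K => (η : K → ℂ)) (hinv (s : G))) g
    exact h1
  have hcl : conjClosure K ({θ} : Set (IrrCharacter K)) = {θ} := by
    ext φ
    constructor
    · rintro ⟨g, θ', rfl, rfl⟩
      exact hinv g
    · intro hφ
      exact subset_conjClosure K _ hφ
  have hBcoeff : blockCoeff B = orbitIdem K ({θ} : Set (IrrCharacter K)) := by
    refine ext_omega (isClassFunction_blockCoeff _) (isClassFunction_orbitIdem K _) fun η => ?_
    obtain ⟨φ, hφ⟩ := exists_constituent_restrict K η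
    rw [omega_blockCoeff, omega_orbitIdem K _ hφ]
    have hiff : η ∈ B ↔ φ ∈ conjClosure K ({θ} : Set (IrrCharacter K)) := by
      rw [hB, hcl, Set.mem_singleton_iff]
      constructor
      · intro hη
        obtain ⟨g, hg⟩ := exists_conjIrrN_eq K hη hφ
        rw [← hg, hinv g]
      · rintro rfl
        exact hφ
    simp only [hiff]
  set ε := fixedCentralizerEquiv K R hnorm with hε
  suffices hgood : ∀ f : Set (IrrCharacter (Subgroup.centralizer (R : Set G))), IsBrauerPairOf p M B R f → ∀ ξ ∈ f,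
      ∀ β : IrrCharacter (K.subgroupOf (Subgroup.centralizer (R : Set G))),
        classInner (fun n : K.subgroupOf (Subgroup.centralizer (R : Set G)) => (ξ : (Subgroup.centralizer (R : Set G)) → ℂ) n) (β : K.subgroupOf (Subgroup.centralizer (R : Set G)) → ℂ) ≠ 0 →
        ¬ p ∣ Glauberman.mult (Glauberman.conjHom K R hnorm) θ (transIrr ε β) from
    fun f f' hf hf' ξ hξ ξ' hξ' β β' hβ hβ' => transIrr_injective ε
      (Glauberman.good_unique (Glauberman.conjHom K R hnorm) hM hR hK hθinv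
        (hgood f hf ξ hξ β hβ) (hgood f' hf' ξ' hξ' β' hβ'))
  intro f hf ξ hξ β hβ hdvd
  have h1 := hf.2.2 ξ hξ
  rw [brauerOmega_eq_omega, hBcoeff] at h1
  have hF : IsClassFunction (Subgroup.centralizer (R : Set G)) (resFun (Subgroup.centralizer (R : Set G)) (orbitIdem K ({θ} : Set (IrrCharacter K)))) := fun x g =>
    isClassFunction_orbitIdem K _ (x : G) (g : G)
  have hsupp : ∀ x : (Subgroup.centralizer (R : Set G)), x ∉ K.subgroupOf (Subgroup.centralizer (R : Set G)) →
      resFun (Subgroup.centralizer (R : Set G)) (orbitIdem K ({θ} : Set (IrrCharacter K))) x = 0 := fun x hx =>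
    orbitIdem_of_notMem K _ fun hh => hx (Subgroup.mem_subgroupOf.2 hh)
  rw [omega_eq_of_constituent (K.subgroupOf (Subgroup.centralizer (R : Set G))) hβ hF hsupp] at h1
  have h2 := (Glauberman.omega_restrict_iff (Glauberman.conjHom K R hnorm) hM hR hK hθinv
    (transIrr ε β)).2 hdvd
  have heq : omega (β : K.subgroupOf (Subgroup.centralizer (R : Set G)) → ℂ)
      (resFun (K.subgroupOf (Subgroup.centralizer (R : Set G))) (resFun (Subgroup.centralizer (R : Set G)) (orbitIdem K ({θ} : Set (IrrCharacter K))))) =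
      omega (transIrr ε β : Glauberman.fixedSub (Glauberman.conjHom K R hnorm) → ℂ)
        (resFun (Glauberman.fixedSub (Glauberman.conjHom K R hnorm))
          (blockCoeff ({θ} : Set (IrrCharacter K)))) := by
    have hone : (transIrr ε β : Glauberman.fixedSub (Glauberman.conjHom K R hnorm) → ℂ) 1 =
        (β : K.subgroupOf (Subgroup.centralizer (R : Set G)) → ℂ) 1 := by
      rw [← map_one ε, transIrr_apply]
    rw [omega, omega, hone]
    congr 1
    refine Fintype.sum_equiv ε.toEquiv _ _ fun x => ?_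
    rw [MulEquiv.toEquiv_eq_coe, MulEquiv.coe_toEquiv, transIrr_apply]
    congr 1
    show orbitIdem K _ (((x : (Subgroup.centralizer (R : Set G))) : G)) = blockCoeff _ (⟨((x : (Subgroup.centralizer (R : Set G))) : G), _⟩ : K)
    rw [orbitIdem, hcl, extendByZero_of_mem _ _ (Subgroup.mem_subgroupOf.1 x.2)]
  rw [heq] at h1
  exact not_memLocalIdeal_one (M := M) (by simpa using memLocalIdeal_sub h2 h1)

open Classical in
/-- Inside `C(R)` the characters over one `C_L(R)`-invariant character form one block. -/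
theorem sameBlock_centralizer [hp : Fact p.Prime] (hM : IsPModular p M) {L S : Subgroup G}
    (h : Constrained p K L S) (hR : IsPGroup p R) (hRN : R ≤ Subgroup.normalizer (S : Set G))
    [Fintype (Subgroup.centralizer (R : Set G))] [Fintype (K.subgroupOf (Subgroup.centralizer (R : Set G)))] {β : IrrCharacter (K.subgroupOf (Subgroup.centralizer (R : Set G)))}
    (hβinv : ∀ g, conjIrrN (K.subgroupOf (Subgroup.centralizer (R : Set G))) g β = β) {ξ ξ' : IrrCharacter (Subgroup.centralizer (R : Set G))}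
    (hξ : classInner (fun n : K.subgroupOf (Subgroup.centralizer (R : Set G)) => (ξ : (Subgroup.centralizer (R : Set G)) → ℂ) n) (β : K.subgroupOf (Subgroup.centralizer (R : Set G)) → ℂ) ≠ 0)
    (hξ' : classInner (fun n : K.subgroupOf (Subgroup.centralizer (R : Set G)) => (ξ' : (Subgroup.centralizer (R : Set G)) → ℂ) n)
      (β : K.subgroupOf (Subgroup.centralizer (R : Set G)) → ℂ) ≠ 0) :
    SameBlock M (ξ : (Subgroup.centralizer (R : Set G)) → ℂ) (ξ' : (Subgroup.centralizer (R : Set G)) → ℂ) := by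
  haveI hLn : (L.subgroupOf (Subgroup.centralizer (R : Set G))).Normal := h.lNormal.subgroupOf _
  haveI := Fintype.ofFinite (L.subgroupOf (Subgroup.centralizer (R : Set G)))
  have hK'p : ¬ p ∣ Nat.card (K.subgroupOf (Subgroup.centralizer (R : Set G))) := fun hd => h.notDvd
    (hd.trans (Subgroup.card_comap_dvd_of_injective K _ (Subgroup.subtype_injective _)))
  have hK'L' : K.subgroupOf (Subgroup.centralizer (R : Set G)) ≤ L.subgroupOf (Subgroup.centralizer (R : Set G)) := fun x hx => h.le hx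
  have hsup : K.subgroupOf (Subgroup.centralizer (R : Set G)) ⊔ S.subgroupOf (Subgroup.centralizer (R : Set G)) = L.subgroupOf (Subgroup.centralizer (R : Set G)) := by
    refine le_antisymm (sup_le hK'L' fun x hx => h.qle hx) fun x hx => ?_
    obtain ⟨a, ha, q, hq, heq, haC, hqC⟩ := h.exists_mul_centralizer hRN hx x.2
    rw [show x = (⟨a, haC⟩ : (Subgroup.centralizer (R : Set G))) * ⟨q, hqC⟩ from Subtype.ext heq]
    exact Subgroup.mul_mem_sup ha hq
  have hQ'p : IsPGroup p (S.subgroupOf (Subgroup.centralizer (R : Set G))) :=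
    h.pGroup.comap_of_injective _ (Subgroup.subtype_injective _)
  obtain ⟨j, hj⟩ := hQ'p.exists_card_eq
  obtain ⟨i, -, hi⟩ := (Nat.dvd_prime_pow hM.1).1 (show
      (K.subgroupOf (Subgroup.centralizer (R : Set G))).relIndex (L.subgroupOf (Subgroup.centralizer (R : Set G))) ∣ p ^ j by
    rw [← hsup, Subgroup.relIndex_sup_left, ← hj]
    exact Subgroup.relIndex_dvd_card _ _)
  have hQ'syl : ¬ p ∣ (S.subgroupOf (Subgroup.centralizer (R : Set G))).relIndex (L.subgroupOf (Subgroup.centralizer (R : Set G))) := by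
    intro hd
    refine hK'p (hd.trans ?_)
    rw [← hsup]
    have h1 := Cores.card_sup_dvd (S.subgroupOf (Subgroup.centralizer (R : Set G))) (K.subgroupOf (Subgroup.centralizer (R : Set G)))
    rw [← Coprime.relIndex_mul_card (le_sup_left (a := S.subgroupOf (Subgroup.centralizer (R : Set G)))
      (b := K.subgroupOf (Subgroup.centralizer (R : Set G))))] at h1
    rw [sup_comm]
    exact Nat.dvd_of_mul_dvd_mul_left Nat.card_pos h1
  have hreg : ∀ c ∈ Subgroup.centralizer ((S.subgroupOf (Subgroup.centralizer (R : Set G)) : Subgroup (Subgroup.centralizer (R : Set G))) : Set (Subgroup.centralizer (R : Set G))),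
      IsPRegular p c → c ∈ K.subgroupOf (Subgroup.centralizer (R : Set G)) := by
    intro c hc hcr
    refine Subgroup.mem_subgroupOf.2 (h.mem_of_fixed hR hRN
      (by rw [IsPRegular, Subgroup.orderOf_coe]; exact hcr) c.2 fun q hq hqC => ?_)
    exact congrArg Subtype.val
      (Subgroup.mem_centralizer_iff.1 hc (⟨q, hqC⟩ : (Subgroup.centralizer (R : Set G))) (Subgroup.mem_subgroupOf.2 hq))
  exact sameBlock_over (H := L.subgroupOf (Subgroup.centralizer (R : Set G))) (K.subgroupOf (Subgroup.centralizer (R : Set G))) hM hK'p hK'L' hi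
    (fun x hx => h.qle hx) hQ'p hQ'syl hreg (fun g _ => hβinv g) hξ hξ'

end Good

open Classical in
/-- **Blocks of principal type.** -/
theorem block_over_spec (hM : IsPModular p M) {K L Q : Subgroup G} [K.Normal] [Fintype K]
    (h : Constrained p K L Q) {θ : IrrCharacter K} (hinv : ∀ g, conjIrrN K g θ = θ)
    {B : Set (IrrCharacter G)}
    (hB : ∀ χ : IrrCharacter G,
      χ ∈ B ↔ classInner (fun k : K => (χ : G → ℂ) k) (θ : K → ℂ) ≠ 0) :
    IsPBlock M B ∧ (∀ S : Sylow p G, IsDefectGroup p M B S) ∧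
      ∀ R : Subgroup G, IsPGroup p R → ∃! f : Set (IrrCharacter (Subgroup.centralizer (R : Set G))),
        IsInducedBlock M (Subgroup.centralizer (R : Set G)) f B := by
  haveI := Fact.mk hM.1
  haveI := h.lNormal
  haveI := Fintype.ofFinite L
  obtain ⟨k, hk⟩ := h.index
  obtain ⟨χ₀, hχ₀⟩ := exists_over K θ
  have hBeq : B = blockOf M (χ₀ : G → ℂ) := by
    ext χ
    rw [hB]
    exact ⟨fun hχ => sameBlock_over K hM h.notDvd h.le hk h.qle h.pGroup h.sylow
      (fun g hg hr => h.regular_mem (h.centralizer hg) hr) (fun g _ => hinv g) hχ₀ hχ,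
      fun hχ => classInner_ne_zero_of_sameBlock K hM h.notDvd
        (IsPBlock.sameBlock (isPBlock_blockOf χ₀) (self_mem_blockOf χ₀) hχ) hχ₀⟩
  have hBblock : IsPBlock M B := hBeq ▸ isPBlock_blockOf χ₀
  -- full defect
  have hdef : ∀ S : Sylow p G, IsDefectGroup p M B S := by
    intro S
    haveI := Fintype.ofFinite ↥(K ⊔ (S : Subgroup G))
    have hidx : ∃ j : ℕ, (K.subgroupOf (K ⊔ (S : Subgroup G))).index = p ^ j := by
      have h1 : (K.subgroupOf (K ⊔ (S : Subgroup G))).index ∣ Nat.card (S : Subgroup G) := by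
        show K.relIndex (K ⊔ (S : Subgroup G)) ∣ _
        rw [Subgroup.relIndex_sup_left]
        exact Subgroup.relIndex_dvd_card _ _
      obtain ⟨j, hj⟩ := S.isPGroup'.exists_card_eq
      rw [hj] at h1
      obtain ⟨i, -, hi⟩ := (Nat.dvd_prime_pow hM.1).1 h1
      exact ⟨i, hi⟩
    obtain ⟨j, hj⟩ := hidx
    obtain ⟨χ, hχ, hdeg⟩ := exists_not_dvd_over K hM h.notDvd le_sup_left hj
      (fun hd => S.not_dvd_index (hd.trans (Subgroup.index_dvd_of_le le_sup_right)))
      (θ := θ) (fun g _ => hinv g)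
    obtain ⟨D, hD⟩ := exists_isDefectGroup hM hBblock
    have h0 : sInf ((fun η : IrrCharacter G => (charDegree (η : G → ℂ)).factorization p) '' B) = 0 :=
      Nat.le_zero.1 (Nat.sInf_le ⟨χ, (hB χ).2 hχ, Nat.factorization_eq_zero_of_not_dvd hdeg⟩)
    have hcard : Nat.card D = Nat.card (S : Subgroup G) := by
      rw [IsDefectGroup.card_eq hM hBblock hD, blockDefect, h0, Nat.sub_zero,
        ← S.card_eq_multiplicity]
    obtain ⟨T, hT⟩ := (IsDefectGroup.isPGroup hD).exists_le_sylow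
    have hDT : D = (T : Subgroup G) := Subgroup.eq_of_le_of_card_ge hT
      (le_of_eq (by rw [hcard, T.card_eq_multiplicity, S.card_eq_multiplicity]))
    obtain ⟨a, ha⟩ := MulAction.exists_smul_eq G T S
    have := IsDefectGroup.map_conj hD a
    rw [← ha, Sylow.coe_subgroup_smul]
    rw [hDT] at this
    exact this
  refine ⟨hBblock, hdef, fun R hR => ?_⟩
  simp only [isInducedBlock_iff_isBrauerPairOf hM hR]
  -- existence
  obtain ⟨S, hRS⟩ := hR.exists_le_sylow
  obtain ⟨g₀, hg₀, T₀, hT₀⟩ := id (hdef S)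
  have hg₀C : g₀ ∈ Subgroup.centralizer ((S : Subgroup G) : Set G) :=
    hT₀ ▸ mem_centralizer_sylowSub T₀
  obtain ⟨e, he⟩ := exists_pair_of_unit hM hR hBblock
    (Subgroup.centralizer_le hRS hg₀C) hg₀.2.1
  refine ⟨e, he, fun f hf => ?_⟩
  haveI := Fintype.ofFinite (Subgroup.centralizer (R : Set G))
  haveI := Fintype.ofFinite (K.subgroupOf (Subgroup.centralizer (R : Set G)))
  obtain ⟨h0, hSN⟩ := h.inf_sylow S
  obtain ⟨ξ, hξ⟩ := IsPBlock.nonempty hf.1.2
  obtain ⟨ξ', hξ'⟩ := IsPBlock.nonempty he.1.2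
  obtain ⟨β, hβ⟩ := exists_constituent_restrict (K.subgroupOf (Subgroup.centralizer (R : Set G))) ξ
  obtain ⟨β', hβ'⟩ := exists_constituent_restrict (K.subgroupOf (Subgroup.centralizer (R : Set G))) ξ'
  have hu := exists_unique_below K R hM h.notDvd hR hinv hB
  obtain rfl := hu f e hf he ξ hξ ξ' hξ' β β' hβ hβ'
  have hmem : ξ' ∈ f := by
    rw [IsPBlock.eq_blockOf hf.1.2 hξ]
    exact sameBlock_centralizer K R hM h0 hR (hRS.trans hSN)
      (fun g => hu f f hf hf ξ hξ ξ hξ β' _ hβ (by rwa [classInner_restrict_conjIrrN])) hβ hβ'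
  exact IsPBlock.eq_of_mem hf.1.2 he.1.2 hmem hξ'

end Cfsg.Agent.Lib.BlockHeights
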