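import Cfsg.Agent.Lib.BlockHeights.PiKernel

/-!
# The Brauer correspondent and kernels of local blocks
-/

set_option autoImplicit false
set_option linter.unusedSectionVars false
set_option linter.style.haveILetI false

namespace Cfsg.Agent.Lib.BlockHeights

open Cfsg Cfsg.Agent.Lib.Blocks Cfsg.Agent.Lib.Characters Cfsg.Agent.Lib.BrauerPairs
open Cfsg.Agent.Lib.Cores

universe u

variable {G : Type u} [Group G] [Fintype G] {M : Ideal AlgInt} [hMp : M.IsPrime] {p : ℕ}
  {π : Set ℕ} {B : Set (IrrCharacter G)} {D : Subgroup G}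

/-- The kernel condition on the correspondent, read off a maximal pair. -/
theorem exists_maximal_ker_iff (hM : IsPModular p M) (hpπ : p ∈ π)
    [Fintype (Subgroup.normalizer (D : Set G))] (hBD : IsDefectGroup p M B D)
    {B₁ : Set (IrrCharacter (Subgroup.normalizer (D : Set G)))}
    (hB₁ : IsInducedBlock M (Subgroup.normalizer (D : Set G)) B₁ B)
    (hB₁D : IsDefectGroup p M B₁ (D.subgroupOf (Subgroup.normalizer (D : Set G)))) :
    ∃ e : Set (IrrCharacter (Subgroup.centralizer (D : Set G))),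
      IsMaximalBrauerPair p M B D e ∧
      ((∀ n : Subgroup.normalizer (D : Set G),
          n ∈ piCore {q | q ∉ π} (Subgroup.normalizer (D : Set G)) → n ∈ blockKer B₁) ↔
        TrivOn e (piC π D)) := by
  haveI := Fact.mk hM.1
  obtain ⟨e', hmax'⟩ := exists_maximal_defect hM hB₁.1 hB₁D
  have hmap : (D.subgroupOf (Subgroup.normalizer (D : Set G))).map
      (Subgroup.normalizer (D : Set G)).subtype = D :=
    Subgroup.map_subgroupOf_eq_of_le Subgroup.le_normalizer
  obtain ⟨⟨V, e⟩, hpush⟩ := exists_push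
    (⟨_, e'⟩ : BrauerPairIdx (Subgroup.normalizer (D : Set G)))
    (by show Subgroup.centralizer ((Subgroup.map _ _ : Subgroup G) : Set G) ≤ _
        rw [hmap]; exact centralizer_le_normalizer' D)
  obtain rfl : D = V := hmap.symm.trans hpush.1
  have hpair := isBrauerPairOf_push_induced hM hB₁ hpush (centralizer_le_normalizer' D) hmax'.1
  obtain ⟨R, e'', hmax, hle⟩ := exists_maximal_above hpair
  obtain rfl : D = R := Subgroup.eq_of_le_of_card_ge (subpairLE_le hle)
    (le_of_eq ((IsDefectGroup.card_eq hM hpair.2.1 (isDefectGroup_of_isMaximal hM hmax)).trans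
      (IsDefectGroup.card_eq hM hpair.2.1 hBD).symm))
  obtain rfl : e = e'' := subpairLE_unique hM hmax.1.1 hle Relation.ReflTransGen.refl
  refine ⟨e, hmax, ?_⟩
  have hK : ¬ p ∣ Nat.card (piCore {q | q ∉ π} (Subgroup.normalizer (D : Set G))) := fun h =>
    mem_of_prime_dvd_card_piCore (π := {q | q ∉ π}) hM.1 h hpπ
  rw [← map_piCore_normalizer_eq hM.1 hpπ (IsDefectGroup.isPGroup hBD),
    trivOn_push hpush (centralizer_le_normalizer' D),
    show ((piCore {q | q ∉ π} (Subgroup.normalizer (D : Set G))).map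
        (Subgroup.normalizer (D : Set G)).subtype).subgroupOf (Subgroup.normalizer (D : Set G)) = _
      from Subgroup.comap_map_eq_self_of_injective (Subgroup.subtype_injective _) _,
    ← trivial_iff_of_pair hM _ hK hmax'.1]
  exact ⟨fun h χ hχ n hn => h n hn χ hχ, fun h n hn χ hχ => h χ hχ n hn⟩

/-- **Descent to local blocks.** -/
theorem ker_descends (hM : IsPModular p M) (hpπ : p ∈ π)
    [Fintype (Subgroup.normalizer (D : Set G))] (hBD : IsDefectGroup p M B D)
    {B₁ : Set (IrrCharacter (Subgroup.normalizer (D : Set G)))}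
    (hB₁ : IsInducedBlock M (Subgroup.normalizer (D : Set G)) B₁ B)
    (hB₁D : IsDefectGroup p M B₁ (D.subgroupOf (Subgroup.normalizer (D : Set G))))
    (hker : ∀ n : Subgroup.normalizer (D : Set G),
      n ∈ piCore {q | q ∉ π} (Subgroup.normalizer (D : Set G)) → n ∈ blockKer B₁)
    {G₀ : Subgroup G} [Fintype G₀] {B₀ : Set (IrrCharacter G₀)}
    (hB₀ : IsInducedBlock M G₀ B₀ B) {D₀ : Subgroup G₀} (hD₀ : IsDefectGroup p M B₀ D₀)
    (hC : Subgroup.centralizer ((D₀.map G₀.subtype : Subgroup G) : Set G) ≤ G₀) :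
    ∀ x : G₀, x ∈ piCore {q | q ∉ π} G₀ → x ∈ blockKer B₀ := by
  haveI := Fact.mk hM.1
  obtain ⟨e, hmax, hiff⟩ := exists_maximal_ker_iff hM hpπ hBD hB₁ hB₁D
  obtain ⟨f', hmax'⟩ := exists_maximal_defect hM hB₀.1 hD₀
  obtain ⟨⟨V, f⟩, hpush⟩ := exists_push (⟨D₀, f'⟩ : BrauerPairIdx G₀) hC
  have hV : D₀.map G₀.subtype = V := hpush.1
  subst hV
  have hpair := isBrauerPairOf_push_induced hM hB₀ hpush hC hmax'.1
  obtain ⟨x, hle⟩ := exists_conj_subpairLE hM hmax hpair
  have h1 := (trivOn_conjBlock_iff x).1 (trivOn_of_subpairLE_down hM hpπ hle (hiff.1 hker))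
  have h2 : TrivOn f' ((piC π (D₀.map G₀.subtype)).subgroupOf G₀) :=
    (trivOn_push hpush hC).1 h1
  have hK : ¬ p ∣ Nat.card (piCore {q | q ∉ π} G₀) := fun h =>
    mem_of_prime_dvd_card_piCore (π := {q | q ∉ π}) hM.1 h hpπ
  have h3 := (trivial_iff_of_pair hM _ hK hmax'.1).2 fun η hη y hy => h2 η hη y
    (Subgroup.mem_subgroupOf.2 (map_inf_centralizer_le_piC hC
      ⟨⟨(y : G₀), hy, rfl⟩, mem_centralizer_map_subtype.2 y.2⟩))
  exact fun z hz χ hχ => h3 χ hχ z hz

/-- **The local kernel condition ascends to the correspondent.** -/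
theorem ker_ascends (hM : IsPModular p M) (hpπ : p ∈ π)
    [Fintype (Subgroup.normalizer (D : Set G))] (hBD : IsDefectGroup p M B D)
    {B₁ : Set (IrrCharacter (Subgroup.normalizer (D : Set G)))}
    (hB₁ : IsInducedBlock M (Subgroup.normalizer (D : Set G)) B₁ B)
    (hB₁D : IsDefectGroup p M B₁ (D.subgroupOf (Subgroup.normalizer (D : Set G))))
    {D₀ : Subgroup G} (hD₀ : IsPGroup p D₀) {H₀ : Subgroup G} [Fintype H₀]
    (hH₀ : H₀ = D₀ ⊔ Subgroup.centralizer (D₀ : Set G)) {b : Set (IrrCharacter H₀)}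
    (hb : IsInducedBlock M H₀ b B) (hH : HallC π D₀) (hbK : TrivOn b (piC π D₀)) :
    ∀ n : Subgroup.normalizer (D : Set G),
      n ∈ piCore {q | q ∉ π} (Subgroup.normalizer (D : Set G)) → n ∈ blockKer B₁ := by
  haveI := Fact.mk hM.1
  obtain ⟨e, hmax, hiff⟩ := exists_maximal_ker_iff hM hpπ hBD hB₁ hB₁D
  refine hiff.2 ?_
  have hD₀H : D₀ ≤ H₀ := hH₀ ▸ le_sup_left
  have hCH : Subgroup.centralizer (D₀ : Set G) ≤ H₀ := hH₀ ▸ le_sup_right
  have hHN : H₀ ≤ Subgroup.normalizer (D₀ : Set G) :=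
    hH₀ ▸ sup_le Subgroup.le_normalizer (centralizer_le_normalizer' D₀)
  have hD₀' : IsPGroup p (D₀.subgroupOf H₀) :=
    hD₀.of_equiv (Subgroup.subgroupOfEquivOfLe hD₀H).symm
  haveI : (D₀.subgroupOf H₀).Normal := ⟨fun n hn g => by
    rw [Subgroup.mem_subgroupOf] at hn ⊢
    exact (Subgroup.mem_normalizer_iff.1 (hHN g.2) _).1 hn⟩
  obtain ⟨R, hR⟩ := exists_isDefectGroup hM hb.1
  have hle : D₀.subgroupOf H₀ ≤ R := le_of_isDefectGroup hM hD₀' hb.1 hR
  obtain ⟨r, hmaxR⟩ := exists_maximal_defect hM hb.1 hR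
  obtain ⟨f', hf', hfle⟩ := exists_subpairLE hM hmaxR.1.1 hle
  have hf'B : IsBrauerPairOf p M b (D₀.subgroupOf H₀) f' :=
    (isBrauerPairOf_iff_of_subpairLE hM hmaxR.1.1 hfle hb.1).1 hmaxR.1
  have hmap : (D₀.subgroupOf H₀).map H₀.subtype = D₀ := Subgroup.map_subgroupOf_eq_of_le hD₀H
  obtain ⟨⟨V, f⟩, hpush⟩ := exists_push (⟨_, f'⟩ : BrauerPairIdx H₀)
    (by show Subgroup.centralizer ((Subgroup.map _ _ : Subgroup G) : Set G) ≤ _
        rw [hmap]; exact hCH)
  obtain rfl : D₀ = V := hmap.symm.trans hpush.1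
  haveI : ((piC π D₀).subgroupOf H₀).Normal := ⟨fun n hn g => by
    rw [Subgroup.mem_subgroupOf] at hn ⊢
    exact (Subgroup.mem_normalizer_iff.1 (normalizer_le_normalizer_piC D₀ (hHN g.2)) _).1 hn⟩
  have hcard : ¬ p ∣ Nat.card ((piC π D₀).subgroupOf H₀) := by
    rw [Nat.card_congr (Subgroup.subgroupOfEquivOfLe ((piC_le D₀).trans hCH)).toEquiv]
    exact not_dvd_card_piC hM.1 hpπ D₀
  have hf : TrivOn f (piC π D₀) := (trivOn_push hpush hCH).2
    ((trivial_iff_of_pair hM _ hcard hf'B).1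
      fun χ hχ n hn => hbK χ hχ n (Subgroup.mem_subgroupOf.1 hn))
  obtain ⟨x, hxle⟩ := exists_conj_subpairLE hM hmax
    (isBrauerPairOf_push_induced hM hb hpush hCH hf'B)
  exact trivOn_of_subpairLE_up hM hpπ hxle (hH.conj x) ((trivOn_conjBlock_iff x).2 hf)

/-- **Constancy on cosets.** -/
theorem apply_mul_eq_of_ker (hM : IsPModular p M) (hpπ : p ∈ π)
    [Fintype (Subgroup.normalizer (D : Set G))] (hBD : IsDefectGroup p M B D)
    {B₁ : Set (IrrCharacter (Subgroup.normalizer (D : Set G)))}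
    (hB₁ : IsInducedBlock M (Subgroup.normalizer (D : Set G)) B₁ B)
    (hB₁D : IsDefectGroup p M B₁ (D.subgroupOf (Subgroup.normalizer (D : Set G))))
    (hker : ∀ n : Subgroup.normalizer (D : Set G),
      n ∈ piCore {q | q ∉ π} (Subgroup.normalizer (D : Set G)) → n ∈ blockKer B₁)
    {y : G} (hy : ∃ k : ℕ, orderOf y = p ^ k) {χ : IrrCharacter G} (hχ : χ ∈ B)
    {x : Subgroup.centralizer ({y} : Set G)}
    (hx : x ∈ piCore {q | q ∉ π} (Subgroup.centralizer ({y} : Set G))) :
    (χ : G → ℂ) (y * x) = (χ : G → ℂ) y := by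
  classical
  haveI := Fact.mk hM.1
  haveI := Fintype.ofFinite (Subgroup.centralizer ({y} : Set G))
  haveI := Fintype.ofFinite (IrrCharacter (Subgroup.centralizer ({y} : Set G)))
  have hθ := isClassFunction_sectionFun (x := y) (irr_isClassFunction χ)
  have hxreg : ¬ p ∣ orderOf x := fun h =>
    mem_of_prime_dvd_card_piCore (π := {q | q ∉ π}) (G := Subgroup.centralizer ({y} : Set G))
      hM.1 (h.trans (Subgroup.orderOf_dvd_natCard _ hx)) hpπ
  have h1reg : ¬ p ∣ orderOf (1 : Subgroup.centralizer ({y} : Set G)) := by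
    rw [orderOf_one]; exact fun h => hM.1.ne_one (Nat.dvd_one.1 h)
  have hval : sectionFun y (χ : G → ℂ) x = sectionFun y (χ : G → ℂ) 1 := by
    rw [← sum_blockPart (M := M) hθ x, ← sum_blockPart (M := M) hθ 1]
    refine Finset.sum_congr rfl fun b hb => ?_
    obtain ⟨η, -, rfl⟩ := Finset.mem_image.1 hb
    by_cases hind : IsInducedBlock M (Subgroup.centralizer ({y} : Set G))
        (blockOf M (η : Subgroup.centralizer ({y} : Set G) → ℂ)) B
    · obtain ⟨R, hR⟩ := exists_isDefectGroup hM hind.1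
      have hyC : y ∈ Subgroup.centralizer ({y} : Set G) :=
        Subgroup.mem_centralizer_singleton_iff.2 rfl
      let Z : Subgroup (Subgroup.centralizer ({y} : Set G)) := Subgroup.zpowers ⟨y, hyC⟩
      haveI : Z.Normal := ⟨by
        rintro _ ⟨n, rfl⟩ g
        have hc : Commute g (⟨y, hyC⟩ : Subgroup.centralizer ({y} : Set G)) :=
          Subtype.ext (commute_of_mem_centralizer g).eq
        refine ⟨n, ?_⟩
        show (⟨y, hyC⟩ : Subgroup.centralizer ({y} : Set G)) ^ n = g * _ * g⁻¹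
        rw [(hc.zpow_right n).eq, mul_inv_cancel_right]⟩
      have hZ : IsPGroup p Z := isPGroup_zpowers_of_orderOf (by
        obtain ⟨k, hk⟩ := hy
        exact ⟨k, by rw [← hk, ← Subgroup.orderOf_coe]⟩)
      have hyR : (⟨y, hyC⟩ : Subgroup.centralizer ({y} : Set G)) ∈ R :=
        le_of_isDefectGroup hM hZ hind.1 hR (Subgroup.mem_zpowers _)
      have hCR : Subgroup.centralizer ((R.map (Subgroup.centralizer ({y} : Set G)).subtype :
          Subgroup G) : Set G) ≤ Subgroup.centralizer ({y} : Set G) := fun c hc =>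
        Subgroup.mem_centralizer_singleton_iff.2
          (Subgroup.mem_centralizer_iff.1 hc y ⟨⟨y, hyC⟩, hyR, rfl⟩).symm
      have hk := ker_descends hM hpπ hBD hB₁ hB₁D hker hind hR hCR x hx
      simp only [blockPart, finsum_irr_eq_sum_ite]
      refine Finset.sum_congr rfl fun ζ _ => ?_
      by_cases hζ : ζ ∈ blockOf M (η : Subgroup.centralizer ({y} : Set G) → ℂ)
      · rw [if_pos hζ, if_pos hζ, hk ζ hζ]
      · rw [if_neg hζ, if_neg hζ]
    · exact (blockPart_eq_zero hM hy hB₁.2.1 hχ (isPBlock_blockOf η) hind hxreg).trans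
        (blockPart_eq_zero hM hy hB₁.2.1 hχ (isPBlock_blockOf η) hind h1reg).symm
  simpa [sectionFun] using hval

end Cfsg.Agent.Lib.BlockHeights
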