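import Cfsg.Agent.Lib.BlockHeights.RegularPart
import Cfsg.Agent.Lib.Blocks.DefectZero

/-!
# The regular rank of a block as a trace
-/

set_option autoImplicit false
set_option linter.unusedSectionVars false
set_option linter.style.haveILetI false

namespace Cfsg.Agent.Lib.BlockHeights

open Cfsg Cfsg.Agent.Lib.Blocks Cfsg.Agent.Lib.Characters
open scoped ComplexConjugate

universe u

variable {G : Type u} [Group G] [Fintype G] {p : ℕ} {M : Ideal AlgInt} [M.IsPrime]

/-- The inner product of two characters on the regular elements. -/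
noncomputable def regInner (p : ℕ) (χ ψ : IrrCharacter G) : ℂ :=
  classInner (pRegularPart p (χ : G → ℂ)) (ψ : G → ℂ)

theorem regInner_eq_zero (hM : IsPModular p M) {B : Set (IrrCharacter G)} (hB : IsPBlock M B)
    {χ ψ : IrrCharacter G} (hχ : χ ∈ B) (hψ : ψ ∉ B) : regInner p χ ψ = 0 := by
  rw [regInner, classInner_pRegularPart hM.1, pairing_eq_zero hM hB hχ hψ, Int.cast_zero, zero_div]

theorem isClassFunction_pRegularPart (p : ℕ) {f : G → ℂ} (hf : IsClassFunction G f) :
    IsClassFunction G (pRegularPart p f) := fun x y => by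
  simp only [pRegularPart_eq, isClassFunction_regInd p x y, hf x y]

theorem pRegularPart_expand (hM : IsPModular p M) {B : Set (IrrCharacter G)} (hB : IsPBlock M B)
    [Fintype {χ // χ ∈ B}] {χ : IrrCharacter G} (hχ : χ ∈ B) :
    pRegularPart p (χ : G → ℂ) =
      ∑ ψ : {χ // χ ∈ B}, regInner p χ ψ.1 • (ψ.1 : G → ℂ) := by
  classical
  haveI := Fintype.ofFinite (IrrCharacter G)
  conv_lhs => rw [eq_sum_classInner (isClassFunction_pRegularPart p (irr_isClassFunction χ))]
  rw [← Finset.sum_subset (Finset.subset_univ (Finset.univ.filter (· ∈ B))) fun ψ _ hψ => by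
    rw [show classInner (pRegularPart p (χ : G → ℂ)) (ψ : G → ℂ) = 0 from
      regInner_eq_zero hM hB hχ (by simpa using hψ), zero_smul]]
  exact Finset.sum_subtype (p := (· ∈ B)) _ (fun x => by simp)
    fun ψ => regInner p χ ψ • (ψ : G → ℂ)

/-- The linear combinations of the members of `B`. -/
noncomputable def blockLin (B : Set (IrrCharacter G)) [Fintype {χ // χ ∈ B}] :
    ({χ // χ ∈ B} → ℂ) →ₗ[ℂ] (G → ℂ) :=
  Fintype.linearCombination ℂ fun χ => (χ.1 : G → ℂ)

theorem blockLin_apply (B : Set (IrrCharacter G)) [Fintype {χ // χ ∈ B}]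
    (c : {χ // χ ∈ B} → ℂ) : blockLin B c = ∑ χ, c χ • (χ.1 : G → ℂ) :=
  Fintype.linearCombination_apply ℂ _ c

theorem classInner_blockLin (B : Set (IrrCharacter G)) [Fintype {χ // χ ∈ B}]
    (c : {χ // χ ∈ B} → ℂ) (ψ : {χ // χ ∈ B}) :
    classInner (blockLin B c) (ψ.1 : G → ℂ) = c ψ := by
  classical
  rw [blockLin_apply, classInner_sum_left, Finset.sum_eq_single ψ]
  · rw [classInner_smul_left, IsIrrCharacter.classInner_self ψ.1.2, mul_one]
  · intro χ _ hne
    rw [classInner_smul_left, IsIrrCharacter.classInner_ne χ.1.2 ψ.1.2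
      (fun h => hne (Subtype.ext (Subtype.ext h))), mul_zero]
  · simp

theorem blockLin_injective (B : Set (IrrCharacter G)) [Fintype {χ // χ ∈ B}] :
    Function.Injective (blockLin B) := fun c c' h => funext fun ψ => by
  rw [← classInner_blockLin B c ψ, h, classInner_blockLin]

/-- The matrix of the restriction to the regular elements. -/
noncomputable def regMatrix (p : ℕ) (B : Set (IrrCharacter G)) :
    Matrix {χ // χ ∈ B} {χ // χ ∈ B} ℂ :=
  Matrix.of fun ψ χ => regInner p χ.1 ψ.1

theorem blockLin_mulVec (hM : IsPModular p M) {B : Set (IrrCharacter G)} (hB : IsPBlock M B)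
    [Fintype {χ // χ ∈ B}] (c : {χ // χ ∈ B} → ℂ) :
    blockLin B ((regMatrix p B).mulVec c) = pRegularPart p (blockLin B c) := by
  classical
  rw [blockLin_apply, blockLin_apply]
  have h : pRegularPart p (∑ χ, c χ • (χ.1 : G → ℂ)) =
      ∑ χ, c χ • pRegularPart p (χ.1 : G → ℂ) := by
    funext g
    simp only [pRegularPart_eq, Finset.sum_apply, Pi.smul_apply, smul_eq_mul, Finset.mul_sum]
    exact Finset.sum_congr rfl fun χ _ => by ring
  rw [h]
  simp only [pRegularPart_expand hM hB (Subtype.prop _), Finset.smul_sum, smul_smul]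
  rw [Finset.sum_comm]
  refine Finset.sum_congr rfl fun ψ _ => ?_
  rw [← Finset.sum_smul, Matrix.mulVec, dotProduct]
  exact congrArg (· • (ψ.1 : G → ℂ)) (Finset.sum_congr rfl fun χ _ => mul_comm _ _)

theorem blockRank_eq_finrank_range (hM : IsPModular p M) {B : Set (IrrCharacter G)}
    (hB : IsPBlock M B) [Fintype {χ // χ ∈ B}] :
    blockRank p B = Module.finrank ℂ (LinearMap.range (regMatrix p B).mulVecLin) := by
  classical
  rw [(Submodule.equivMapOfInjective (blockLin B)
    (blockLin_injective B) (LinearMap.range (regMatrix p B).mulVecLin)).finrank_eq]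
  rw [blockRank]
  suffices h : Submodule.span ℂ ((fun χ : IrrCharacter G => pRegularPart p (χ : G → ℂ)) '' B) =
      Submodule.map (blockLin B) (LinearMap.range (regMatrix p B).mulVecLin) by rw [h]
  apply le_antisymm
  · refine Submodule.span_le.2 ?_
    rintro _ ⟨χ, hχ, rfl⟩
    refine ⟨_, ⟨Pi.single ⟨χ, hχ⟩ 1, rfl⟩, ?_⟩
    rw [Matrix.mulVecLin_apply, blockLin_mulVec hM hB]
    congr 1
    rw [blockLin, Fintype.linearCombination_apply_single, one_smul]
  · rintro _ ⟨_, ⟨c, rfl⟩, rfl⟩
    rw [Matrix.mulVecLin_apply, blockLin_mulVec hM hB, blockLin_apply]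
    have h : pRegularPart p (∑ χ, c χ • (χ.1 : G → ℂ)) =
        ∑ χ, c χ • pRegularPart p (χ.1 : G → ℂ) := by
      funext g
      simp only [pRegularPart_eq, Finset.sum_apply, Pi.smul_apply, smul_eq_mul, Finset.mul_sum]
      exact Finset.sum_congr rfl fun χ _ => by ring
    rw [h]
    exact Submodule.sum_mem _ fun χ _ => Submodule.smul_mem _ _
      (Submodule.subset_span ⟨χ.1, χ.2, rfl⟩)

theorem regMatrix_mulVec_idem (hM : IsPModular p M) {B : Set (IrrCharacter G)}
    (hB : IsPBlock M B) [Fintype {χ // χ ∈ B}] (c : {χ // χ ∈ B} → ℂ) :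
    (regMatrix p B).mulVec ((regMatrix p B).mulVec c) = (regMatrix p B).mulVec c := by
  apply blockLin_injective B
  rw [blockLin_mulVec hM hB, blockLin_mulVec hM hB]
  funext g
  simp only [pRegularPart_eq]
  rw [← mul_assoc, regInd_mul_self]

/-- **The regular rank is the sum of the diagonal inner products.** -/
theorem blockRank_eq_sum_regInner (hM : IsPModular p M) {B : Set (IrrCharacter G)}
    (hB : IsPBlock M B) [Fintype {χ // χ ∈ B}] :
    (blockRank p B : ℂ) = ∑ χ : {χ // χ ∈ B}, regInner p χ.1 χ.1 := by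
  classical
  rw [blockRank_eq_finrank_range hM hB]
  have hproj : LinearMap.IsProj (LinearMap.range (regMatrix p B).mulVecLin)
      (regMatrix p B).mulVecLin :=
    ⟨fun x => LinearMap.mem_range_self _ x, fun x ⟨z, hz⟩ => by
      rw [← hz]
      exact regMatrix_mulVec_idem hM hB z⟩
  rw [← hproj.trace, ← Matrix.toLin'_apply', Matrix.trace_toLin'_eq]
  rfl

theorem blockRank_le_card (hM : IsPModular p M) {B : Set (IrrCharacter G)} (hB : IsPBlock M B) :
    blockRank p B ≤ Nat.card B := by
  classical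
  haveI : Fintype {χ // χ ∈ B} := Fintype.ofFinite _
  rw [blockRank_eq_finrank_range hM hB]
  refine (Submodule.finrank_le _).trans (le_of_eq ?_)
  rw [Module.finrank_fintype_fun_eq_card, ← Nat.card_eq_fintype_card]

theorem pRegularPart_eq_self_of_rank_eq (hM : IsPModular p M) {B : Set (IrrCharacter G)}
    (hB : IsPBlock M B) (h : Nat.card B = blockRank p B) {χ : IrrCharacter G} (hχ : χ ∈ B) :
    pRegularPart p (χ : G → ℂ) = (χ : G → ℂ) := by
  classical
  haveI : Fintype {χ // χ ∈ B} := Fintype.ofFinite _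
  have htop : LinearMap.range (regMatrix p B).mulVecLin = ⊤ := by
    refine Submodule.eq_top_of_finrank_eq ?_
    rw [← blockRank_eq_finrank_range hM hB, ← h, Module.finrank_fintype_fun_eq_card,
      ← Nat.card_eq_fintype_card]
  obtain ⟨c, hc⟩ := (htop ▸ Submodule.mem_top :
    (Pi.single ⟨χ, hχ⟩ 1 : {χ // χ ∈ B} → ℂ) ∈ LinearMap.range (regMatrix p B).mulVecLin)
  have h1 := blockLin_mulVec hM hB c
  rw [← Matrix.mulVecLin_apply, hc, blockLin, Fintype.linearCombination_apply_single, one_smul] at h1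
  rw [h1]
  funext g
  simp only [pRegularPart_eq]
  rw [← mul_assoc, regInd_mul_self]

theorem card_mul_blockRank (hM : IsPModular p M) {B : Set (IrrCharacter G)} (hB : IsPBlock M B) :
    (Nat.card G : ℂ) * (blockRank p B : ℂ) =
      ∑ x : G, ∑ᶠ χ ∈ B, pRegularPart p (χ : G → ℂ) x * (χ : G → ℂ) x⁻¹ := by
  classical
  haveI : Fintype {χ // χ ∈ B} := Fintype.ofFinite _
  rw [blockRank_eq_sum_regInner hM hB, Finset.mul_sum]
  have h : ∀ x : G, ∑ᶠ χ ∈ B, pRegularPart p (χ : G → ℂ) x * (χ : G → ℂ) x⁻¹ =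
      ∑ χ : {χ // χ ∈ B}, pRegularPart p (χ.1 : G → ℂ) x * (χ.1 : G → ℂ) x⁻¹ := fun x => by
    rw [← finsum_eq_sum_of_fintype]
    exact (finsum_set_coe_eq_finsum_mem B).symm
  simp only [h]
  rw [Finset.sum_comm]
  refine Finset.sum_congr rfl fun χ _ => ?_
  rw [regInner, classInner, mul_inv_cancel_left₀ natCard_ne_zero_complex]
  exact Finset.sum_congr rfl fun x _ => by rw [IsCharacter.apply_inv (irr_isCharacter χ.1)]

theorem blockRank_pos (hM : IsPModular p M) {B : Set (IrrCharacter G)} (hB : IsPBlock M B) :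
    0 < blockRank p B := by
  obtain ⟨χ, hχ⟩ := IsPBlock.nonempty hB
  refine Nat.pos_of_ne_zero fun h => ?_
  have h1 : pRegularPart p (χ : G → ℂ) ∈
      Submodule.span ℂ ((fun χ : IrrCharacter G => pRegularPart p (χ : G → ℂ)) '' B) :=
    Submodule.subset_span ⟨χ, hχ, rfl⟩
  rw [Submodule.finrank_eq_zero.1 h, Submodule.mem_bot] at h1
  have h2 := congrFun h1 1
  rw [pRegularPart_eq] at h2
  simp only [regInd_of_regular (isPRegular_one hM.1), one_mul, Pi.zero_apply] at h2
  exact IsIrrCharacter.apply_one_ne_zero χ.2 h2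

/-- `l ≤ k`, with equality exactly for blocks of defect zero. -/
theorem blockRank_defect_zero (hM : IsPModular p M) {B : Set (IrrCharacter G)}
    (hB : IsPBlock M B) :
    blockRank p B ≤ Nat.card B ∧
      (blockDefect p B = 0 ↔ (Nat.card B = 1 ∧ blockRank p B = 1)) ∧
      (blockDefect p B = 0 ↔ Nat.card B = blockRank p B) := by
  classical
  haveI := Fact.mk hM.1
  have hle := blockRank_le_card hM hB
  have hpos := blockRank_pos hM hB
  have h01 : blockDefect p B = 0 → Nat.card B = 1 ∧ blockRank p B = 1 := by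
    intro h0
    obtain ⟨χ, hχ, hmin⟩ := exists_nu_eq_minExp (p := p) (IsPBlock.nonempty hB)
    have h1 := blockDefect_add_minExp (p := p) hB
    rw [h0, zero_add, ← hmin] at h1
    have hnd : ¬ p ∣ Nat.card G / charDegree (χ : G → ℂ) := by
      obtain ⟨n, hn⟩ := Cfsg.Agent.Lib.Blocks.charDegree_dvd_card χ
      rw [hn, Nat.mul_div_cancel_left n (Cfsg.Agent.Lib.Blocks.charDegree_pos χ)]
      intro hd
      have hn0 : n ≠ 0 := by rintro rfl; rw [mul_zero] at hn; exact Nat.card_pos.ne' hn
      have h2 := congrArg (fun m => m.factorization p) hn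
      simp only [Nat.factorization_mul (Cfsg.Agent.Lib.Blocks.charDegree_pos χ).ne' hn0,
        Finsupp.coe_add, Pi.add_apply] at h2
      have h3 := hM.1.factorization_pos_of_dvd hn0 hd
      simp only [nu] at h1
      omega
    have h2 : Nat.card B = 1 := by
      rw [IsPBlock.eq_blockOf hB hχ, blockOf_eq_singleton hM χ hnd]
      simp
    exact ⟨h2, by omega⟩
  have hk : Nat.card B = blockRank p B → blockDefect p B = 0 := by
    intro h
    obtain ⟨χ, hχ⟩ := IsPBlock.nonempty hB
    have hv : ∀ x : G, p ∣ orderOf x → (χ : G → ℂ) x = 0 := fun x hx => by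
      rw [← pRegularPart_eq_self_of_rank_eq hM hB h hχ]
      simp only [pRegularPart_eq]
      rw [regInd_of_singular (fun hreg => hreg hx), zero_mul]
    have hnd := not_dvd_card_div_of_vanish χ hv
    rw [IsPBlock.eq_blockOf hB hχ, blockOf_eq_singleton hM χ hnd]
    obtain ⟨n, hn⟩ := Cfsg.Agent.Lib.Blocks.charDegree_dvd_card χ
    rw [hn, Nat.mul_div_cancel_left n (Cfsg.Agent.Lib.Blocks.charDegree_pos χ)] at hnd
    have hn0 : n ≠ 0 := fun h => hnd (h ▸ dvd_zero p)
    simp only [blockDefect, Set.image_singleton, csInf_singleton]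
    rw [hn, Nat.factorization_mul (Cfsg.Agent.Lib.Blocks.charDegree_pos χ).ne' hn0,
      Finsupp.coe_add, Pi.add_apply, Nat.factorization_eq_zero_of_not_dvd hnd]
    omega
  exact ⟨hle, ⟨h01, fun h => hk (h.1.trans h.2.symm)⟩,
    ⟨fun h => (h01 h).1.trans (h01 h).2.symm, hk⟩⟩

end Cfsg.Agent.Lib.BlockHeights
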