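import Cfsg.Agent.Lib.BlockHeights.SectionCount
import Cfsg.Agent.Lib.BlockHeights.HarrisKnorrCore

/-!
# Regular ranks of unions of blocks and the count `k - l`
-/

set_option autoImplicit false
set_option linter.unusedSectionVars false
set_option linter.style.haveILetI false

namespace Cfsg.Agent.Lib.BlockHeights

open Cfsg Cfsg.Agent.Lib.Blocks Cfsg.Agent.Lib.Characters Cfsg.Agent.Lib.BrauerPairs
open scoped ComplexConjugate

universe u

variable {G : Type u} [Group G] [Fintype G] {p : ℕ} {M : Ideal AlgInt} [M.IsPrime]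

theorem disjoint_span_of_notMem (hM : IsPModular p M) {B : Set (IrrCharacter G)}
    (hB : IsPBlock M B) {S : Set (IrrCharacter G)} (hS : ∀ χ ∈ S, χ ∉ B) :
    Disjoint (Submodule.span ℂ ((fun χ : IrrCharacter G => pRegularPart p (χ : G → ℂ)) '' B))
      (Submodule.span ℂ ((fun χ : IrrCharacter G => pRegularPart p (χ : G → ℂ)) '' S)) := by
  classical
  haveI := Fintype.ofFinite (IrrCharacter G)
  let L : (G → ℂ) →ₗ[ℂ] (G → ℂ) :=
    { toFun := fun f => blockPart B f
      map_add' := fun f f' => by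
        funext g
        simp only [blockPart, finsum_irr_eq_sum_ite, Pi.add_apply, classInner_add_left, add_mul,
          ← Finset.sum_add_distrib]
        exact Finset.sum_congr rfl fun η _ => by split_ifs <;> simp
      map_smul' := fun c f => by
        funext g
        simp only [blockPart, finsum_irr_eq_sum_ite, Pi.smul_apply, classInner_smul_left,
          smul_eq_mul, RingHom.id_apply, Finset.mul_sum]
        exact Finset.sum_congr rfl fun η _ => by split_ifs <;> simp [mul_assoc] }
  have hval : ∀ χ : IrrCharacter G, L (pRegularPart p (χ : G → ℂ)) =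
      if χ ∈ B then pRegularPart p (χ : G → ℂ) else 0 := fun χ => by
    show blockPart B (pRegularPart p (χ : G → ℂ)) = _
    rw [blockPart_pRegularPart hM hB (irr_isClassFunction χ), blockPart_irr]
    split_ifs
    · rfl
    · funext g; simp [pRegularPart_eq]
  rw [Submodule.disjoint_def]
  intro v hv hv'
  have h1 : L v = v := by
    refine LinearMap.eqOn_span (f := L) (g := LinearMap.id) ?_ hv
    rintro _ ⟨χ, hχ, rfl⟩
    show L _ = _
    rw [hval, if_pos hχ]
    rfl
  have h2 : L v = 0 := by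
    refine LinearMap.eqOn_span (f := L) (g := 0) ?_ hv'
    rintro _ ⟨χ, hχ, rfl⟩
    show L _ = _
    rw [hval, if_neg (hS χ hχ)]
    rfl
  rw [← h1, h2]

/-- The rank of a union of blocks. -/
theorem blockRank_union (hM : IsPModular p M) (T : Finset (Set (IrrCharacter G)))
    (hT : ∀ β ∈ T, IsPBlock M β) :
    blockRank p {χ : IrrCharacter G | ∃ β ∈ T, χ ∈ β} = ∑ β ∈ T, blockRank p β := by
  classical
  induction T using Finset.induction_on with
  | empty =>
    rw [Finset.sum_empty, blockRank,
      show {χ : IrrCharacter G | ∃ β ∈ (∅ : Finset (Set (IrrCharacter G))), χ ∈ β} = ∅ by simp,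
      Set.image_empty, Submodule.span_empty, finrank_bot]
  | @insert β T hβT ih =>
    rw [Finset.sum_insert hβT, ← ih fun γ hγ => hT γ (Finset.mem_insert_of_mem hγ)]
    have hβ := hT β (Finset.mem_insert_self β T)
    have hdis := disjoint_span_of_notMem (p := p) hM hβ
      (S := {χ : IrrCharacter G | ∃ γ ∈ T, χ ∈ γ}) fun χ ⟨γ, hγ, hχ⟩ hχβ =>
        hβT (IsPBlock.eq_of_mem hβ (hT γ (Finset.mem_insert_of_mem hγ)) hχβ hχ ▸ hγ)
    have hset : {χ : IrrCharacter G | ∃ γ ∈ insert β T, χ ∈ γ} =
        β ∪ {χ : IrrCharacter G | ∃ γ ∈ T, χ ∈ γ} := by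
      ext χ; simp
    haveI : Module.Finite ℂ (G → ℂ) := Module.Finite.pi
    rw [blockRank, blockRank, blockRank, hset, Set.image_union, Submodule.span_union]
    have h := Submodule.finrank_sup_add_finrank_inf_eq
      (Submodule.span ℂ ((fun χ : IrrCharacter G => pRegularPart p (χ : G → ℂ)) '' β))
      (Submodule.span ℂ ((fun χ : IrrCharacter G => pRegularPart p (χ : G → ℂ)) ''
        {χ : IrrCharacter G | ∃ γ ∈ T, χ ∈ γ}))
    rwa [disjoint_iff.1 hdis, finrank_bot, add_zero] at h

/-- A sum over the group by `p`-parts. -/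
theorem sum_eq_sum_pElements (hp : p.Prime) (f : G → ℂ) [DecidablePred fun u : G =>
      ∃ k : ℕ, orderOf u = p ^ k] :
    ∑ g, f g = ∑ u ∈ Finset.univ.filter (fun u : G => ∃ k : ℕ, orderOf u = p ^ k),
      ∑ᶠ s ∈ {s : Subgroup.centralizer ({u} : Set G) | IsPRegular p s}, f (u * (s : G)) := by
  classical
  choose part hpart using fun g : G => exists_isPPart hp g
  have hpel : ∀ g, part g ∈ Finset.univ.filter (fun u : G => ∃ k : ℕ, orderOf u = p ^ k) :=
    fun g => by
      obtain ⟨y, -, -, hk, -⟩ := hpart g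
      exact Finset.mem_filter.2 ⟨Finset.mem_univ _, hk⟩
  rw [← Finset.sum_fiberwise_of_maps_to (g := part) fun g _ => hpel g]
  refine Finset.sum_congr rfl fun u hu => ?_
  rw [Finset.mem_filter] at hu
  rw [finsum_mem_eq_finite_toFinset_sum _ (Set.toFinite _)]
  symm
  refine Finset.sum_bij (fun s _ => u * (s : G)) (fun s hs => ?_) (fun s _ t _ h => ?_)
    (fun g hg => ?_) (fun _ _ => rfl)
  · rw [Set.Finite.mem_toFinset] at hs
    refine Finset.mem_filter.2 ⟨Finset.mem_univ _, isPPart_unique hp (hpart _) ?_⟩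
    exact ⟨(s : G), rfl, (Subgroup.mem_centralizer_singleton_iff.1 s.2).symm, hu.2,
      by rw [Subgroup.orderOf_coe]; exact hs⟩
  · exact Subtype.ext (mul_left_cancel h)
  · rw [Finset.mem_filter] at hg
    obtain ⟨y, hy, hc, -, hreg⟩ := hpart g
    rw [hg.2] at hy hc
    refine ⟨⟨y, Subgroup.mem_centralizer_singleton_iff.2 hc.eq.symm⟩, ?_, hy⟩
    rw [Set.Finite.mem_toFinset]
    show ¬ p ∣ orderOf _
    rwa [← Subgroup.orderOf_coe]

open Classical in
/-- **`k - l` through nontrivial subsections.** -/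
theorem card_mul_sub_blockRank (hM : IsPModular p M) {B : Set (IrrCharacter G)}
    (hB : IsPBlock M B) :
    (Nat.card G : ℤ) * ((Nat.card B : ℤ) - (blockRank p B : ℤ)) =
      ∑ u ∈ Finset.univ.filter (fun u : G => u ≠ 1 ∧ ∃ k : ℕ, orderOf u = p ^ k),
        (Nat.card (Subgroup.centralizer ({u} : Set G)) : ℤ) *
          ((∑ᶠ γ ∈ {γ : Set (IrrCharacter (Subgroup.centralizer ({u} : Set G))) |
            IsInducedBlock M (Subgroup.centralizer ({u} : Set G)) γ B}, blockRank p γ : ℕ) : ℤ) := by
  haveI := Fintype.ofFinite (IrrCharacter G)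
  set X := Finset.univ.filter (fun u : G => ∃ k : ℕ, orderOf u = p ^ k) with hX
  set s := Finset.univ.filter (· ∈ B) with hs
  set φ : IrrCharacter G → G → ℂ := fun χ u =>
    ∑ᶠ t ∈ {t : Subgroup.centralizer ({u} : Set G) | IsPRegular p t},
      (χ : G → ℂ) (u * (t : G)) * conj ((χ : G → ℂ) (u * (t : G))) with hφ
  -- each nontrivial element
  have hu : ∀ u : G, (∃ k : ℕ, orderOf u = p ^ k) → ∑ χ ∈ s, φ χ u =
      (Nat.card (Subgroup.centralizer ({u} : Set G)) : ℂ) *
      ((∑ᶠ γ ∈ {γ : Set (IrrCharacter (Subgroup.centralizer ({u} : Set G))) |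
        IsInducedBlock M (Subgroup.centralizer ({u} : Set G)) γ B}, blockRank p γ : ℕ) : ℂ) := by
    intro u hup
    set S := {γ : Set (IrrCharacter (Subgroup.centralizer ({u} : Set G))) |
        IsInducedBlock M (Subgroup.centralizer ({u} : Set G)) γ B}
    have hterm : ∀ χ ∈ s, φ χ u = (Nat.card (Subgroup.centralizer ({u} : Set G)) : ℂ) *
        ∑ᶠ γ ∈ S, classInner (sect p u γ (χ : G → ℂ)) (sect p u γ (χ : G → ℂ)) := by
      intro χ hχ
      rw [classInner_section_split hM hup hB (Finset.mem_filter.1 hχ).2, classInner,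
        mul_inv_cancel_left₀ natCard_ne_zero_complex, hφ]
      show ∑ᶠ t ∈ {t : Subgroup.centralizer ({u} : Set G) | IsPRegular p t}, _ = _
      rw [finsum_mem_eq_finite_toFinset_sum _ (Set.toFinite _)]
      rw [← Finset.sum_subset (Finset.subset_univ
        (Set.toFinite {t : Subgroup.centralizer ({u} : Set G) | IsPRegular p t}).toFinset)
        fun t _ ht => by
          rw [Set.Finite.mem_toFinset] at ht
          simp [pRegularPart_eq, regInd_of_singular ht]]
      refine Finset.sum_congr rfl fun t ht => ?_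
      rw [Set.Finite.mem_toFinset] at ht
      simp [pRegularPart_eq, shiftRes, regInd_of_regular ht]
    rw [Finset.sum_congr rfl hterm, ← Finset.mul_sum]
    simp only [finsum_mem_eq_finite_toFinset_sum _ (Set.toFinite S)]
    rw [Finset.sum_comm, Nat.cast_sum, Finset.mul_sum, Finset.mul_sum]
    refine Finset.sum_congr rfl fun γ hγ => ?_
    rw [Set.Finite.mem_toFinset] at hγ
    have hC : ∀ g, g ∈ Subgroup.centralizer ({u} : Set G) ↔ Commute u g := fun g =>
      ⟨fun h => (Subgroup.mem_centralizer_singleton_iff.1 h).symm,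
        fun h => Subgroup.mem_centralizer_singleton_iff.2 h.eq.symm⟩
    have h4 := sum_sect_norm hM hC hup (e := γ) (B := B) hγ
    rw [finsum_mem_eq_finite_toFinset_sum _ (Set.toFinite B),
      show (Set.toFinite B).toFinset = s by ext; simp [hs]] at h4
    simp only [classInner, ← Finset.mul_sum]
    rw [h4, inv_mul_cancel_left₀ natCard_ne_zero_complex]
  -- the identity element
  have h1 : ∑ χ ∈ s, φ χ 1 = (Nat.card G : ℂ) * (blockRank p B : ℂ) := by
    rw [card_mul_blockRank hM hB,
      show ∑ x : G, ∑ᶠ χ ∈ B, pRegularPart p (χ : G → ℂ) x * (χ : G → ℂ) x⁻¹ =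
          ∑ x : G, ∑ χ ∈ s, pRegularPart p (χ : G → ℂ) x * (χ : G → ℂ) x⁻¹ from
        Finset.sum_congr rfl fun x _ => by
          rw [finsum_mem_eq_finite_toFinset_sum _ (Set.toFinite B),
            show (Set.toFinite B).toFinset = s by ext; simp [hs]],
      Finset.sum_comm]
    refine Finset.sum_congr rfl fun χ _ => ?_
    show ∑ᶠ t ∈ {t : Subgroup.centralizer ({(1 : G)} : Set G) | IsPRegular p t}, _ = _
    rw [finsum_mem_eq_finite_toFinset_sum _ (Set.toFinite _),
      ← Finset.sum_subset (Finset.subset_univ (Finset.univ.filter (IsPRegular (G := G) p)))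
        fun x _ hx => by simp at hx; simp [pRegularPart_eq, regInd_of_singular hx]]
    refine Finset.sum_bij (fun t _ => (t : G)) (fun t ht => ?_) (fun a _ b _ h => Subtype.ext h)
      (fun x hx => ?_) (fun t ht => ?_)
    · rw [Set.Finite.mem_toFinset] at ht
      refine Finset.mem_filter.2 ⟨Finset.mem_univ _, ?_⟩
      show ¬ p ∣ orderOf (t : G)
      rw [Subgroup.orderOf_coe]; exact ht
    · refine ⟨⟨x, Subgroup.mem_centralizer_singleton_iff.2 (by simp)⟩, ?_, rfl⟩
      rw [Set.Finite.mem_toFinset]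
      show ¬ p ∣ orderOf _
      rw [← Subgroup.orderOf_coe]
      exact (Finset.mem_filter.1 hx).2
    · rw [Set.Finite.mem_toFinset] at ht
      have ht' : IsPRegular p (t : G) := by
        show ¬ p ∣ orderOf (t : G)
        rw [Subgroup.orderOf_coe]; exact ht
      simp [pRegularPart_eq, regInd_of_regular ht', IsCharacter.apply_inv (irr_isCharacter χ)]
  -- the norms
  have htot : (Nat.card G : ℂ) * (Nat.card B : ℂ) = ∑ u ∈ X, ∑ χ ∈ s, φ χ u := by
    rw [Finset.sum_comm]
    have hnorm : ∀ χ ∈ s, (Nat.card G : ℂ) = ∑ u ∈ X, φ χ u := fun χ _ => by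
      have h1 := IsIrrCharacter.classInner_self χ.2
      rw [classInner, inv_mul_eq_one₀ natCard_ne_zero_complex] at h1
      rw [h1]
      exact sum_eq_sum_pElements hM.1 fun g => (χ : G → ℂ) g * conj ((χ : G → ℂ) g)
    rw [← Finset.sum_congr rfl hnorm, Finset.sum_const, nsmul_eq_mul, mul_comm,
      Nat.card_eq_fintype_card (α := B), Fintype.card_subtype]
  have hsplit : X = insert 1 (Finset.univ.filter
      (fun u : G => u ≠ 1 ∧ ∃ k : ℕ, orderOf u = p ^ k)) := by
    ext u
    simp only [hX, Finset.mem_filter, Finset.mem_univ, true_and, Finset.mem_insert]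
    refine ⟨fun h => (_root_.em (u = 1)).imp_right fun hn => ⟨hn, h⟩, ?_⟩
    rintro (rfl | h)
    · exact ⟨0, by rw [orderOf_one, pow_zero]⟩
    · exact h.2
  rw [hsplit, Finset.sum_insert (by simp), h1,
    Finset.sum_congr rfl fun u hu' => hu u (Finset.mem_filter.1 hu').2.2] at htot
  have hfin : ((((Nat.card G : ℤ) * ((Nat.card B : ℤ) - (blockRank p B : ℤ))) : ℤ) : ℂ) =
      (((∑ u ∈ Finset.univ.filter (fun u : G => u ≠ 1 ∧ ∃ k : ℕ, orderOf u = p ^ k),
        (Nat.card (Subgroup.centralizer ({u} : Set G)) : ℤ) *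
          ((∑ᶠ γ ∈ {γ : Set (IrrCharacter (Subgroup.centralizer ({u} : Set G))) |
            IsInducedBlock M (Subgroup.centralizer ({u} : Set G)) γ B}, blockRank p γ : ℕ) : ℤ))
              : ℤ) : ℂ) := by
    simp only [Int.cast_mul, Int.cast_sub, Int.cast_natCast, Int.cast_sum]
    linear_combination htot
  exact_mod_cast hfin

end Cfsg.Agent.Lib.BlockHeights
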