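import Cfsg.Agent.Lib.Blocks.FixedSum
import Cfsg.Agent.Lib.Blocks.Defect
import Cfsg.Agent.Lib.BlockHeights.Heights

/-!
# Two-blocks of full defect stable under inversion on the odd-order elements

Such a block is the principal block; in particular a real irreducible character of odd degree
lies in the principal block.
-/

set_option autoImplicit false
set_option linter.unusedSectionVars false
set_option linter.style.haveILetI false

namespace Cfsg.Agent.Lib.BlockHeights

open Cfsg Cfsg.Agent.Lib.Blocks Cfsg.Agent.Lib.Characters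
open scoped ComplexConjugate

universe u

variable {G : Type u} [Group G] [Fintype G]

/-- The complex conjugate of an irreducible character is irreducible. -/
theorem isIrrCharacter_conj (χ : IrrCharacter G) :
    IsIrrCharacter G (fun g => conj ((χ : G → ℂ) g)) := by
  rw [IsCharacter.isIrr_iff (IsCharacter.conjugate (irr_isCharacter χ)), classInner_conj_conj,
    IsIrrCharacter.classInner_self χ.2]

/-- The complex conjugate of an irreducible character. -/
noncomputable def conjIrr (χ : IrrCharacter G) : IrrCharacter G :=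
  ⟨fun g => conj ((χ : G → ℂ) g), isIrrCharacter_conj χ⟩

theorem conjIrr_apply (χ : IrrCharacter G) (g : G) :
    (conjIrr χ : G → ℂ) g = (χ : G → ℂ) g⁻¹ :=
  (IsCharacter.apply_inv (irr_isCharacter χ) g).symm

theorem centralizer_inv_singleton (g : G) :
    Subgroup.centralizer ({g⁻¹} : Set G) = Subgroup.centralizer ({g} : Set G) := by
  ext x
  simp only [Subgroup.mem_centralizer_singleton_iff]
  exact (Commute.inv_right_iff (a := x) (b := g))

theorem centralChar_conjIrr (χ : IrrCharacter G) (g : G) :
    centralChar (conjIrr χ : G → ℂ) g = centralChar (χ : G → ℂ) g⁻¹ := by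
  rw [centralChar, centralChar, conjIrr_apply, conjIrr_apply, inv_one, centralizer_inv_singleton]

/-- A set of characters stable under a substitution has invariant idempotent coefficients. -/
theorem blockCoeff_apply_of_stable {B : Set (IrrCharacter G)} (e : G → G)
    (he : Function.Surjective e) (he1 : e 1 = 1)
    (hst : ∀ χ ∈ B, ∃ ψ ∈ B, ∀ g : G, (ψ : G → ℂ) g = (χ : G → ℂ) (e g)) (g : G) :
    blockCoeff B (e g) = blockCoeff B g := by
  classical
  haveI := Fintype.ofFinite (IrrCharacter G)
  choose! φ hφ hφv using hst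
  have hmaps : Set.MapsTo φ (Finset.univ.filter (· ∈ B) : Finset (IrrCharacter G))
      (Finset.univ.filter (· ∈ B) : Finset (IrrCharacter G)) := fun χ hχ => by
    simp only [Finset.coe_filter, Finset.mem_univ, true_and, Set.mem_ofPred_eq] at hχ ⊢
    exact hφ χ hχ
  have hinj : Set.InjOn φ (Finset.univ.filter (· ∈ B) : Finset (IrrCharacter G)) := by
    intro χ hχ χ' hχ' h
    simp only [Finset.coe_filter, Finset.mem_univ, true_and, Set.mem_ofPred_eq] at hχ hχ'
    refine Subtype.ext (funext fun x => ?_)
    obtain ⟨y, rfl⟩ := he x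
    rw [← hφv χ hχ, ← hφv χ' hχ', h]
  have hsurj := Finset.surjOn_of_injOn_of_card_le φ hmaps hinj le_rfl
  simp only [blockCoeff, finsum_irr_eq_sum_ite, ← Finset.sum_filter]
  congr 1
  refine Finset.sum_nbij φ (fun χ hχ => hmaps hχ) hinj hsurj fun χ hχ => ?_
  have hχB := (Finset.mem_filter.1 hχ).2
  rw [hφv χ hχB, hφv χ hχB, he1]

variable {M : Ideal AlgInt} [M.IsPrime]

/-- Sum congruence for a class function vanishing off the odd-order elements and symmetric under
inversion on the centralizer of a Sylow 2-subgroup. -/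
theorem memLocalIdeal_sum_sub_apply_one (hM : IsPModular 2 M) (P : Sylow 2 G) {F : G → ℂ}
    (hR : ∀ x, MemLocalRing M (F x)) (hcl : IsClassFunction G F)
    (hsing : ∀ x, ¬ IsPRegular 2 x → F x = 0)
    (hsym : ∀ x ∈ Subgroup.centralizer ((P : Subgroup G) : Set G), IsPRegular 2 x →
      MemLocalIdeal M (F x⁻¹ - F x)) :
    MemLocalIdeal M (∑ x, F x - F 1) := by
  classical
  haveI := resField_charP (M := M) hM
  have h1 := memLocalIdeal_sum_sub_sum_centralizer hM (P : Subgroup G) P.2 F hR
    (isPInv_of_isClassFunction _ hcl)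
  set S := Finset.univ.filter fun x : G =>
    x ∈ Subgroup.centralizer ((P : Subgroup G) : Set G) ∧ x ≠ 1 with hS
  have h2 : MemLocalIdeal M (∑ x ∈ S, F x) := by
    let F' : G → locSubring M := fun x => ⟨F x, hR x⟩
    have h : red M (∑ x ∈ S, F' x) = 0 := by
      rw [map_sum]
      refine Finset.sum_involution (fun x _ => x⁻¹) (fun x hx => ?_) (fun x hx hne => ?_)
        (fun x hx => ?_) (fun x _ => inv_inv x)
      · obtain ⟨hxC, -⟩ := (Finset.mem_filter.1 hx).2
        by_cases hreg : IsPRegular 2 x
        · have heq : red M (F' x⁻¹) = red M (F' x) := by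
            rw [← sub_eq_zero, ← map_sub, red_eq_zero_iff]
            exact hsym x hxC hreg
          rw [heq, CharTwo.add_self_eq_zero]
        · have hreg' : ¬ IsPRegular 2 x⁻¹ := by rwa [IsPRegular, orderOf_inv]
          have e1 : F' x = 0 := Subtype.ext (hsing x hreg)
          have e2 : F' x⁻¹ = 0 := Subtype.ext (hsing _ hreg')
          rw [e1, e2, map_zero, add_zero]
      · intro hxx
        obtain ⟨-, hx1⟩ := (Finset.mem_filter.1 hx).2
        apply hne
        have hsq : x ^ 2 = 1 := by
          rw [pow_two]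
          nth_rewrite 1 [← hxx]
          exact inv_mul_cancel x
        have hnr : ¬ IsPRegular 2 x := by
          rw [IsPRegular, not_not, orderOf_eq_prime hsq hx1]
        have e1 : F' x = 0 := Subtype.ext (hsing x hnr)
        rw [e1, map_zero]
      · obtain ⟨hxC, hx1⟩ := (Finset.mem_filter.1 hx).2
        simp only [hS, Finset.mem_filter, Finset.mem_univ, true_and]
        exact ⟨inv_mem hxC, inv_ne_one.2 hx1⟩
    rw [red_eq_zero_iff, AddSubmonoidClass.coe_finsetSum] at h
    exact h
  have h3 : ∑ x, (if x ∈ Subgroup.centralizer ((P : Subgroup G) : Set G) then F x else 0) =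
      F 1 + ∑ x ∈ S, F x := by
    rw [← Finset.sum_filter, hS, ← Finset.add_sum_erase _ _
      (show (1 : G) ∈ Finset.univ.filter
        (fun x => x ∈ Subgroup.centralizer ((P : Subgroup G) : Set G)) by simp)]
    congr 1
    refine Finset.sum_congr ?_ fun _ _ => rfl
    ext x
    simp [Finset.mem_erase, and_comm]
  have := memLocalIdeal_add h1 h2
  rw [h3] at this
  convert this using 1
  ring

/-- **A 2-block of full defect stable under inversion on the odd-order elements is principal.** -/
theorem eq_principalBlock_of_inv_stable (hM : IsPModular 2 M) {B : Set (IrrCharacter G)}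
    (hB : IsPBlock M B) (hfull : minExp 2 B = 0)
    (hinv : ∀ χ ∈ B, ∃ ψ ∈ B, (ψ : G → ℂ) 1 = (χ : G → ℂ) 1 ∧
      ∀ x, IsPRegular 2 x → (ψ : G → ℂ) x = (χ : G → ℂ) x⁻¹)
    (hcoef : ∀ x, IsPRegular 2 x → blockCoeff B x⁻¹ = blockCoeff B x) :
    B = principalBlock M G := by
  classical
  haveI := Fact.mk hM.1
  obtain ⟨χ, hχ, hmin⟩ := exists_nu_eq_minExp (p := 2) (IsPBlock.nonempty hB)
  rw [hfull] at hmin
  have hd : ¬ 2 ∣ charDegree (χ : G → ℂ) := fun h =>
    (Nat.Prime.factorization_pos_of_dvd Nat.prime_two (charDegree_irr_pos χ).ne' h).ne' hmin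
  have hunit : ¬ MemLocalIdeal M ((χ : G → ℂ) 1) := by
    rw [irr_apply_one, memLocalIdeal_natCast_iff hM]
    exact hd
  obtain ⟨P⟩ : Nonempty (Sylow 2 G) := inferInstance
  have hfC := isRCentral_blockCoeff hM hB
  have hfsing : ∀ x, ¬ IsPRegular 2 x → blockCoeff B x = 0 := fun x hx =>
    blockCoeff_eq_zero_of_singular hM hB hx
  have hχsym : ∀ x ∈ Subgroup.centralizer ((P : Subgroup G) : Set G), IsPRegular 2 x →
      MemLocalIdeal M ((χ : G → ℂ) x⁻¹ - (χ : G → ℂ) x) := by
    intro x hxC hreg
    obtain ⟨ψ, hψ, hψ1, hψx⟩ := hinv χ hχ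
    have hcong := IsPBlock.sameBlock hB hψ hχ x
    set c : ℂ := ((Subgroup.centralizer ({x} : Set G)).index : ℂ) / (χ : G → ℂ) 1 with hc
    have hcu : ¬ MemLocalIdeal M c := by
      rw [hc, irr_apply_one, memLocalIdeal_div_natCast_iff hM (charDegree_irr_pos χ).ne',
        show (charDegree (χ : G → ℂ)).factorization 2 = 0 from hmin, pow_zero, div_one,
        memLocalIdeal_natCast_iff hM]
      intro h
      refine P.not_dvd_index (h.trans (Subgroup.index_dvd_of_le ?_))
      intro a ha
      rw [Subgroup.mem_centralizer_singleton_iff]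
      exact Subgroup.mem_centralizer_iff.1 hxC a ha
    have hcR : MemLocalRing M c := by
      rw [hc, irr_apply_one, memLocalRing_div_natCast_iff hM (charDegree_irr_pos χ).ne',
        show (charDegree (χ : G → ℂ)).factorization 2 = 0 from hmin, pow_zero, div_one]
      exact memLocalRing_natCast _
    have he : centralChar (ψ : G → ℂ) x - centralChar (χ : G → ℂ) x =
        c * ((χ : G → ℂ) x⁻¹ - (χ : G → ℂ) x) := by
      rw [centralChar, centralChar, hψ1, hψx x hreg, hc]
      ring
    rw [he, memLocalIdeal_mul_iff hcR (memLocalRing_sub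
      (memLocalRing_of_isIntegral' (isIntegral_char χ _))
      (memLocalRing_of_isIntegral' (isIntegral_char χ _)))] at hcong
    exact hcong.resolve_left hcu
  have h1 := memLocalIdeal_sum_sub_apply_one hM P (F := fun x => blockCoeff B x * (χ : G → ℂ) x)
    (fun x => memLocalRing_mul (hfC.2 x) (memLocalRing_of_isIntegral' (isIntegral_char χ x)))
    (fun x h => by show blockCoeff B (h * x * h⁻¹) * _ = _; rw [hfC.1 x h, irr_isClassFunction χ x h])
    (fun x hx => by simp only [hfsing x hx, zero_mul])
    (fun x hxC hreg => by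
      show MemLocalIdeal M (blockCoeff B x⁻¹ * (χ : G → ℂ) x⁻¹ - blockCoeff B x * (χ : G → ℂ) x)
      rw [hcoef x hreg, ← mul_sub]
      exact memLocalIdeal_mul_left (hfC.2 x) (hχsym x hxC hreg))
  have hsum : ∑ x, blockCoeff B x * (χ : G → ℂ) x = (χ : G → ℂ) 1 := by
    rw [← omega_mul_apply_one χ.2, omega_blockCoeff, if_pos hχ, one_mul]
  have h1a : MemLocalIdeal M ((1 - blockCoeff B 1) * (χ : G → ℂ) 1) := by
    rw [sub_mul, one_mul]
    rwa [hsum] at h1
  rw [memLocalIdeal_mul_iff (memLocalRing_sub memLocalRing_one (hfC.2 1))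
      (memLocalRing_of_isIntegral' (isIntegral_char χ 1))] at h1a
  have h1' : MemLocalIdeal M (1 - blockCoeff B 1) := h1a.resolve_right hunit
  have h2 := memLocalIdeal_sum_sub_apply_one hM P (F := blockCoeff B) hfC.2 hfC.1 hfsing
    (fun x _ hreg => by rw [hcoef x hreg, sub_self]; exact memLocalIdeal_zero)
  have htriv : trivIrr G ∈ B := by
    by_contra hn
    have h3 : ∑ x, blockCoeff B x = 0 := by
      have := omega_blockCoeff B (trivIrr G)
      rw [if_neg hn, omega] at this
      simpa [trivIrr] using this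
    rw [h3] at h2
    have := memLocalIdeal_sub h1' h2
    apply not_memLocalIdeal_one (M := M)
    convert this using 1
    ring
  rw [IsPBlock.eq_blockOf hB htriv, principalBlock]
  rfl

/-- A real irreducible character of odd degree lies in the principal 2-block. -/
theorem mem_principalBlock_of_real_odd (hM : IsPModular 2 M) (χ : IrrCharacter G)
    (hreal : ∀ g, ((χ : G → ℂ) g).im = 0) (hodd : Odd (charDegree (χ : G → ℂ))) :
    χ ∈ principalBlock M G := by
  have hB := isPBlock_blockOf (M := M) χ
  have hfull : minExp 2 (blockOf M (χ : G → ℂ)) = 0 := by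
    have h := minExp_le (p := 2) (self_mem_blockOf (M := M) χ)
    have h0 : (charDegree (χ : G → ℂ)).factorization 2 = 0 :=
      Nat.factorization_eq_zero_of_not_dvd fun h => Nat.not_even_iff_odd.2 hodd
        (even_iff_two_dvd.2 h)
    simp only [nu] at h
    omega
  have hst : ∀ χ' ∈ blockOf M (χ : G → ℂ), conjIrr χ' ∈ blockOf M (χ : G → ℂ) := by
    intro χ' hχ' g
    rw [centralChar_conjIrr]
    have hreal' : centralChar (χ : G → ℂ) g⁻¹ = centralChar (χ : G → ℂ) g := by
      rw [centralChar, centralChar, centralizer_inv_singleton,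
        IsCharacter.apply_inv (irr_isCharacter χ), Complex.conj_eq_iff_im.2 (hreal g)]
    rw [← hreal']
    exact hχ' g⁻¹
  rw [← eq_principalBlock_of_inv_stable hM hB hfull
    (fun χ' hχ' => ⟨conjIrr χ', hst χ' hχ', by rw [conjIrr_apply, inv_one],
      fun x _ => conjIrr_apply χ' x⟩)
    (fun x _ => blockCoeff_apply_of_stable (fun g => g⁻¹) inv_surjective inv_one
      (fun χ' hχ' => ⟨conjIrr χ', hst χ' hχ', fun g => conjIrr_apply χ' g⟩) x)]
  exact self_mem_blockOf χ

end Cfsg.Agent.Lib.BlockHeights
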