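import Cfsg.Agent.Lib.BlockHeights.Heights
import Cfsg.Agent.Lib.BlockHeights.WeakOrth
import Cfsg.Agent.Lib.BlockHeights.Galois
import Cfsg.Prelude.Def_BlockRank

/-!
# The `p`-regular part of the combinations of a block
-/

set_option autoImplicit false
set_option linter.unusedSectionVars false
set_option linter.style.haveILetI false

namespace Cfsg.Agent.Lib.BlockHeights

open Cfsg Cfsg.Agent.Lib.Blocks Cfsg.Agent.Lib.Characters
open scoped ComplexConjugate

universe u

variable {G : Type u} [Group G] [Fintype G] {p : ℕ} {M : Ideal AlgInt} [M.IsPrime]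

theorem pRegularPart_eq (χ : G → ℂ) : pRegularPart p χ = fun g => regInd p g * χ g := by
  funext g
  unfold pRegularPart regInd
  split_ifs <;> simp

theorem classInner_pRegularPart (hp : p.Prime) (χ ψ : IrrCharacter G) :
    classInner (pRegularPart p (χ : G → ℂ)) (ψ : G → ℂ) =
      (pairing p χ ψ : ℂ) / (p : ℂ) ^ (Nat.card G).factorization p := by
  have hp0 : (p : ℂ) ≠ 0 := Nat.cast_ne_zero.2 hp.ne_zero
  rw [pairing_spec hp, classInner, natCard_eq_mul (p := p), pRegularPart_eq, mul_inv]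
  simp only [mul_assoc]
  ring

/-- `p ^ d` times the regular part of a member of a block is a combination of the block. -/
theorem exists_pow_pRegularPart (hM : IsPModular p M) {B : Set (IrrCharacter G)}
    (hB : IsPBlock M B) [Fintype (IrrCharacter G)] {χ : IrrCharacter G} (hχ : χ ∈ B) :
    ∃ n : IrrCharacter G → ℤ, (∀ ψ, ψ ∉ B → n ψ = 0) ∧ ∀ g : G,
      (p ^ blockDefect p B : ℂ) * pRegularPart p (χ : G → ℂ) g =
        ∑ ψ : IrrCharacter G, (n ψ : ℂ) * (ψ : G → ℂ) g := by
  classical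
  have hp0 : (p : ℂ) ≠ 0 := Nat.cast_ne_zero.2 hM.1.ne_zero
  have hint : ∀ ψ : IrrCharacter G, ∃ z : ℤ, (p : ℂ) ^ blockDefect p B *
      classInner (pRegularPart p (χ : G → ℂ)) (ψ : G → ℂ) = (z : ℂ) := fun ψ => by
    obtain ⟨c, hc⟩ := pow_nu_dvd_pairing hM ψ χ
    obtain ⟨e, he⟩ : ∃ e, blockDefect p B + nu p (χ : G → ℂ) =
        (Nat.card G).factorization p + e := by
      refine ⟨blockHeight p B (χ : G → ℂ), ?_⟩
      rw [← blockDefect_add_minExp (p := p) hB, ← minExp_add_blockHeight (p := p) hχ]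
      ring
    refine ⟨(p : ℤ) ^ e * c, ?_⟩
    rw [classInner_pRegularPart hM.1, pairing_symm hM.1 χ ψ, hc]
    push_cast
    rw [← mul_div_assoc, ← mul_assoc, ← pow_add, he, pow_add]
    field_simp
  choose n hn using hint
  refine ⟨n, fun ψ hψ => ?_, fun g => ?_⟩
  · have h := hn ψ
    rw [classInner_pRegularPart hM.1, pairing_eq_zero hM hB hχ hψ, Int.cast_zero, zero_div,
      mul_zero] at h
    exact_mod_cast h.symm
  · have hcl : IsClassFunction G (pRegularPart p (χ : G → ℂ)) := fun x y => by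
      simp only [pRegularPart_eq, isClassFunction_regInd p x y, irr_isClassFunction χ x y]
    conv_lhs => rw [eq_sum_classInner hcl]
    simp only [Finset.sum_apply, Pi.smul_apply, smul_eq_mul, Finset.mul_sum, ← mul_assoc]
    exact Finset.sum_congr rfl fun ψ _ => by rw [hn]

theorem finsum_block_eq_sum [Fintype (IrrCharacter G)] (B : Set (IrrCharacter G))
    (f : IrrCharacter G → ℂ) (hf : ∀ ψ, ψ ∉ B → f ψ = 0) :
    ∑ᶠ ψ ∈ B, f ψ = ∑ ψ : IrrCharacter G, f ψ := by
  classical
  rw [finsum_mem_def, finsum_eq_sum_of_fintype]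
  refine Finset.sum_congr rfl fun ψ _ => ?_
  by_cases h : ψ ∈ B
  · rw [Set.indicator_of_mem h]
  · rw [Set.indicator_of_notMem h, hf ψ h]

theorem pow_pRegularPart_combination (hM : IsPModular p M) {B : Set (IrrCharacter G)}
    (hB : IsPBlock M B) (χ : G → ℂ)
    (hχ : ∃ n : IrrCharacter G → ℤ, ∀ g : G, χ g = ∑ᶠ ψ ∈ B, (n ψ : ℂ) * (ψ : G → ℂ) g) :
    ∃ n : IrrCharacter G → ℤ, ∀ g : G, (p ^ blockDefect p B : ℂ) * pRegularPart p χ g =
      ∑ᶠ ψ ∈ B, (n ψ : ℂ) * (ψ : G → ℂ) g := by
  classical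
  haveI := Fintype.ofFinite (IrrCharacter G)
  obtain ⟨a, ha⟩ := hχ
  choose c hc0 hc using fun φ : {φ // φ ∈ B} => exists_pow_pRegularPart hM hB φ.2
  refine ⟨fun ψ => ∑ φ : {φ // φ ∈ B}, a φ.1 * c φ ψ, fun g => ?_⟩
  have hfin : ∀ f : IrrCharacter G → ℂ, ∑ᶠ ψ ∈ B, f ψ = ∑ φ : {φ // φ ∈ B}, f φ.1 := fun f => by
    rw [← finsum_eq_sum_of_fintype, finsum_set_coe_eq_finsum_mem]
  calc (p ^ blockDefect p B : ℂ) * pRegularPart p χ g
      = ∑ φ : {φ // φ ∈ B}, (a φ.1 : ℂ) *
          ((p ^ blockDefect p B : ℂ) * pRegularPart p (φ.1 : G → ℂ) g) := by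
        simp only [pRegularPart_eq, ha g, hfin, Finset.mul_sum]
        exact Finset.sum_congr rfl fun φ _ => by ring
    _ = ∑ ψ : IrrCharacter G, (∑ φ : {φ // φ ∈ B}, (a φ.1 : ℂ) * (c φ ψ : ℂ)) *
          (ψ : G → ℂ) g := by
        simp only [hc, Finset.mul_sum, Finset.sum_mul]
        rw [Finset.sum_comm]
        exact Finset.sum_congr rfl fun ψ _ => Finset.sum_congr rfl fun φ _ => by ring
    _ = _ := by
        rw [finsum_block_eq_sum B (fun ψ => ((∑ φ : {φ // φ ∈ B}, a φ.1 * c φ ψ : ℤ) : ℂ) *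
          (ψ : G → ℂ) g) fun ψ hψ => by simp [hc0 _ ψ hψ]]
        exact Finset.sum_congr rfl fun ψ _ => by push_cast; ring

/-- A generalized character vanishing on the singular elements has degree divisible by the
`p`-part of the order. -/
theorem pow_dvd_of_vanish (hp : p.Prime) {θ : G → ℂ} (hθ : IsGeneralizedCharacter G θ)
    (h : ∀ g, ¬ IsPRegular p g → θ g = 0) :
    ∃ k : ℤ, θ 1 = (p ^ (Nat.card G).factorization p : ℂ) * k := by
  classical
  haveI := Fact.mk hp
  obtain ⟨P⟩ : Nonempty (Sylow p G) := inferInstance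
  haveI := Fintype.ofFinite (P : Subgroup G)
  have hres : IsGeneralizedCharacter (P : Subgroup G) (fun x : (P : Subgroup G) => θ x) :=
    IsGeneralizedCharacter.comp hθ (P : Subgroup G).subtype
  obtain ⟨k, hk⟩ := IsGeneralizedCharacter.exists_classInner_int hres
    (IsCharacter.isGeneralizedCharacter (IsIrrCharacter.isCharacter isIrrCharacter_one))
  refine ⟨k, ?_⟩
  have hcard : ((Nat.card (P : Subgroup G) : ℕ) : ℂ) = (p : ℂ) ^ (Nat.card G).factorization p := by
    rw [Sylow.card_eq_multiplicity]; push_cast; rfl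
  rw [classInner, Finset.sum_eq_single (1 : (P : Subgroup G))] at hk
  · simp only [OneMemClass.coe_one, map_one, mul_one] at hk
    rw [← hk, hcard, mul_inv_cancel_left₀ (pow_ne_zero _ (Nat.cast_ne_zero.2 hp.ne_zero))]
  · intro x _ hx
    rw [h (x : G) ?_, zero_mul]
    intro hreg
    obtain ⟨j, hj⟩ := IsPGroup.iff_orderOf.1 P.isPGroup' x
    rw [← Subgroup.orderOf_coe] at hj
    have : j = 0 := by
      by_contra h0
      exact hreg (hj ▸ dvd_pow_self p h0)
    rw [this, pow_zero, orderOf_eq_one_iff] at hj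
    exact hx (Subtype.ext hj)
  · exact fun h => absurd (Finset.mem_univ _) h

theorem blockCoeff_mem_adjoin (hM : IsPModular p M) {B : Set (IrrCharacter G)}
    (hB : IsPBlock M B) (g : G) :
    blockCoeff B g ∈ IntermediateField.adjoin ℚ ({Complex.exp (2 * Real.pi * Complex.I /
      ((Nat.card G / p ^ (Nat.card G).factorization p : ℕ) : ℂ))} : Set ℂ) := by
  classical
  haveI : NeZero (Nat.card G / p ^ (Nat.card G).factorization p) :=
    ⟨(Nat.ordCompl_pos p Nat.card_pos.ne').ne'⟩
  show blockCoeff B g ∈ cycField (Nat.card G / p ^ (Nat.card G).factorization p)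
  by_cases hg : IsPRegular p g
  · haveI := Fintype.ofFinite (IrrCharacter G)
    rw [blockCoeff, finsum_mem_def, finsum_eq_sum_of_fintype]
    refine mul_mem (inv_mem (natCast_mem _ _)) (sum_mem fun χ _ => ?_)
    by_cases hχ : χ ∈ B
    · rw [Set.indicator_of_mem hχ]
      have hmem : ∀ x : G, IsPRegular p x →
          (χ : G → ℂ) x ∈ cycField (Nat.card G / p ^ (Nat.card G).factorization p) := fun x hx => by
        obtain ⟨ι, hι, μ, hμ, hsum⟩ := exists_eigen_sum (irr_isCharacter χ) x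
        have h1 := hsum 1
        simp only [pow_one] at h1
        rw [h1]
        refine sum_mem fun i _ => mem_cycField_of_pow_eq_one ?_
        obtain ⟨c, hc⟩ := orderOf_dvd_ordCompl hM.1 hx
        rw [hc, pow_mul, hμ i, one_pow]
      refine mul_mem (hmem 1 (isPRegular_one hM.1)) ?_
      rw [← IsCharacter.apply_inv (irr_isCharacter χ) g]
      exact hmem _ (by rwa [IsPRegular, orderOf_inv])
    · rw [Set.indicator_of_notMem hχ]
      exact zero_mem _
  · rw [blockCoeff_eq_zero_of_singular hM hB hg]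
    exact zero_mem _

end Cfsg.Agent.Lib.BlockHeights
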