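import Cfsg.Agent.Lib.BlockHeights.SectionValues

/-!
# Counting characters of a block through subsections
-/

set_option autoImplicit false
set_option linter.unusedSectionVars false
set_option linter.style.haveILetI false

namespace Cfsg.Agent.Lib.BlockHeights

open Cfsg Cfsg.Agent.Lib.Blocks Cfsg.Agent.Lib.Characters Cfsg.Agent.Lib.BrauerPairs
open scoped ComplexConjugate

universe u

variable {G : Type u} [Group G] [Fintype G] {p : ℕ} {M : Ideal AlgInt} [M.IsPrime]

/-- The block of a Brauer pair at a cyclic subgroup is induced to the block. -/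
theorem isInducedBlock_of_isBrauerPairOf_zpowers (hM : IsPModular p M) {x : G}
    {B : Set (IrrCharacter G)}
    {e : Set (IrrCharacter (Subgroup.centralizer (Subgroup.zpowers x : Set G)))}
    (h : IsBrauerPairOf p M B (Subgroup.zpowers x) e) :
    IsInducedBlock M (Subgroup.centralizer (Subgroup.zpowers x : Set G)) e B := by
  classical
  haveI := Fintype.ofFinite (Subgroup.centralizer (Subgroup.zpowers x : Set G))
  obtain ⟨ξ, hξ⟩ := IsPBlock.nonempty h.1.2
  have hPH : Subgroup.zpowers x ≤ Subgroup.centralizer (Subgroup.zpowers x : Set G) :=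
    Subgroup.zpowers_le.2 (mem_centralizer_zpowers_iff.2 (Commute.refl x))
  obtain ⟨χ, hχ⟩ := exists_induced_char hM h.1.1 hPH le_rfl
    (Subgroup.centralizer_le_normalizer _) ξ
  have hind : IsInducedBlock M (Subgroup.centralizer (Subgroup.zpowers x : Set G)) e
      (blockOf M (χ : G → ℂ)) :=
    isInducedBlock_of_pair h.1.2 (isPBlock_blockOf χ) hξ (self_mem_blockOf χ) fun g => by
      have h1 := hχ _ (isRCentral_classIndicator (M := M) g)
      rwa [omega_classIndicator (irr_isClassFunction χ)] at h1
  rwa [(existsUnique_isBrauerPairOf hM h.1).unique h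
    (isBrauerPairOf_of_induced hM h.1.1 hind)]

theorem blockPart_conj_inv {K : Type u} [Group K] [Fintype K] (b : Set (IrrCharacter K))
    (f : K → ℂ) (s : K) :
    blockPart b (fun c => conj (f c⁻¹)) s⁻¹ = conj (blockPart b f s) := by
  classical
  haveI := Fintype.ofFinite (IrrCharacter K)
  simp only [blockPart_eq_sum, Finset.sum_apply, Pi.smul_apply, smul_eq_mul, map_sum, map_mul]
  refine Finset.sum_congr rfl fun η _ => ?_
  rw [IsCharacter.apply_inv (irr_isCharacter η)]
  congr 1
  split_ifs
  · rw [classInner, classInner, map_mul, map_inv₀, map_natCast, map_sum]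
    congr 1
    refine Fintype.sum_equiv (Equiv.inv K) _ _ fun c => ?_
    simp only [Equiv.inv_apply, map_mul, Complex.conj_conj,
      IsCharacter.apply_inv (irr_isCharacter η)]
  · simp

/-- **Norms at a Brauer element.** -/
theorem sum_brauer_element (hM : IsPModular p M) {B : Set (IrrCharacter G)} {x : G}
    (hx : ∃ k : ℕ, orderOf x = p ^ k)
    {e : Set (IrrCharacter (Subgroup.centralizer (Subgroup.zpowers x : Set G)))}
    (hBe : IsBrauerPairOf p M B (Subgroup.zpowers x) e) :
    ∑ᶠ χ ∈ B, ∑ᶠ s : Subgroup.centralizer (Subgroup.zpowers x : Set G),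
      pRegularPart p (blockPart e (fun c : Subgroup.centralizer (Subgroup.zpowers x : Set G) =>
        (χ : G → ℂ) (x * c))) s *
      blockPart e (fun c : Subgroup.centralizer (Subgroup.zpowers x : Set G) =>
        (χ : G → ℂ) (x⁻¹ * c)) s⁻¹ =
      (Nat.card (Subgroup.centralizer (Subgroup.zpowers x : Set G)) : ℂ) *
        (blockRank p e : ℂ) := by
  classical
  haveI := Fintype.ofFinite (Subgroup.centralizer (Subgroup.zpowers x : Set G))
  have hC : ∀ g, g ∈ Subgroup.centralizer (Subgroup.zpowers x : Set G) ↔ Commute x g :=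
    fun g => mem_centralizer_zpowers_iff
  rw [← sum_sect_norm hM hC hx (isInducedBlock_of_isBrauerPairOf_zpowers hM hBe)]
  refine finsum_congr fun χ => finsum_congr fun _ => ?_
  rw [finsum_eq_sum_of_fintype]
  refine Finset.sum_congr rfl fun s _ => ?_
  rw [show (fun c : Subgroup.centralizer (Subgroup.zpowers x : Set G) =>
      (χ : G → ℂ) (x⁻¹ * (c : G))) = fun c : Subgroup.centralizer (Subgroup.zpowers x : Set G) =>
        conj (shiftRes _ x (χ : G → ℂ) c⁻¹) from ?_, blockPart_conj_inv, sect]
  · simp only [pRegularPart_eq, map_mul, conj_regInd]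
    show regInd p s * blockPart e (shiftRes _ x (χ : G → ℂ)) s *
      conj (blockPart e (shiftRes _ x (χ : G → ℂ)) s) = _
    linear_combination (-(blockPart e (shiftRes _ x (χ : G → ℂ)) s *
      conj (blockPart e (shiftRes _ x (χ : G → ℂ)) s))) * regInd_mul_self p s
  · funext c
    rw [shiftRes, ← IsCharacter.apply_inv (irr_isCharacter χ), Subgroup.coe_inv, mul_inv_rev,
      inv_inv, ((hC _).1 c.2).inv_left.eq]

theorem classInner_section_split (hM : IsPModular p M) {x : G}
    (hx : ∃ k : ℕ, orderOf x = p ^ k) [Fintype (Subgroup.centralizer ({x} : Set G))]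
    {B : Set (IrrCharacter G)} (hB : IsPBlock M B) {χ : IrrCharacter G} (hχ : χ ∈ B) :
    ∑ᶠ b ∈ {b : Set (IrrCharacter (Subgroup.centralizer ({x} : Set G))) |
        IsInducedBlock M (Subgroup.centralizer ({x} : Set G)) b B},
      classInner (sect p x b (χ : G → ℂ)) (sect p x b (χ : G → ℂ)) =
    classInner (pRegularPart p (shiftRes (Subgroup.centralizer ({x} : Set G)) x (χ : G → ℂ)))
      (pRegularPart p (shiftRes (Subgroup.centralizer ({x} : Set G)) x (χ : G → ℂ))) := by
  classical
  haveI := Fintype.ofFinite (IrrCharacter (Subgroup.centralizer ({x} : Set G)))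
  have hC : ∀ g, g ∈ Subgroup.centralizer ({x} : Set G) ↔ Commute x g := fun g =>
    ⟨fun h => (Subgroup.mem_centralizer_singleton_iff.1 h).symm,
      fun h => Subgroup.mem_centralizer_singleton_iff.2 h.eq.symm⟩
  set θ := shiftRes (Subgroup.centralizer ({x} : Set G)) x (χ : G → ℂ) with hθ
  have hθc : IsClassFunction _ θ := isClassFunction_shiftRes hC (irr_isClassFunction χ)
  set S : Set (Set (IrrCharacter (Subgroup.centralizer ({x} : Set G)))) :=
    {b | IsInducedBlock M (Subgroup.centralizer ({x} : Set G)) b B} with hS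
  rw [finsum_mem_eq_finite_toFinset_sum _ (Set.toFinite S)]
  have hb : ∀ b ∈ (Set.toFinite S).toFinset,
      classInner (sect p x b (χ : G → ℂ)) (sect p x b (χ : G → ℂ)) =
        ∑ η : IrrCharacter (Subgroup.centralizer ({x} : Set G)), if η ∈ b then
          classInner (pRegularPart p θ) (η : Subgroup.centralizer ({x} : Set G) → ℂ) *
            conj (classInner (pRegularPart p θ) (η : Subgroup.centralizer ({x} : Set G) → ℂ)) else 0 := fun b hb => by
    rw [Set.Finite.mem_toFinset] at hb
    rw [sect, ← blockPart_pRegularPart hM hb.1 hθc, classInner_blockPart_self]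
  rw [Finset.sum_congr rfl hb, Finset.sum_comm,
    classInner_eq_sum_irr (isClassFunction_pRegularPart p hθc)
      (isClassFunction_pRegularPart p hθc)]
  refine Finset.sum_congr rfl fun η _ => ?_
  rw [Finset.sum_eq_single (blockOf M (η : Subgroup.centralizer ({x} : Set G) → ℂ))]
  · rw [if_pos (self_mem_blockOf η)]
  · intro b hb hne
    rw [Set.Finite.mem_toFinset] at hb
    rw [if_neg fun h => hne (IsPBlock.eq_blockOf hb.1 h)]
  · intro hnot
    rw [Set.Finite.mem_toFinset] at hnot
    have h0 : classInner (pRegularPart p θ) (η : Subgroup.centralizer ({x} : Set G) → ℂ) = 0 := by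
      have h1 := classInner_blockPart (blockOf M (η : Subgroup.centralizer ({x} : Set G) → ℂ))
        (pRegularPart p θ) η
      rw [if_pos (self_mem_blockOf η)] at h1
      rw [← h1, blockPart_pRegularPart hM (isPBlock_blockOf η) hθc,
        show pRegularPart p (blockPart (blockOf M (η : Subgroup.centralizer ({x} : Set G) → ℂ)) θ) =
          0 from ?_]
      · simp [classInner]
      · funext y
        rw [pRegularPart_eq]
        by_cases hy : IsPRegular p y
        · show regInd p y * _ = 0
          rw [hθ, show blockPart (blockOf M (η : Subgroup.centralizer ({x} : Set G) → ℂ))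
              (shiftRes (Subgroup.centralizer ({x} : Set G)) x (χ : G → ℂ)) y = 0 from
            blockPart_eq_zero hM hx hB hχ (isPBlock_blockOf η) hnot hy, mul_zero]
        · show regInd p y * _ = 0
          rw [regInd_of_singular hy, zero_mul]
    simp [h0]

open Classical in
/-- A sum over the group by `p`-sections. -/
theorem sum_eq_sum_sections (hp : p.Prime) (X : Finset G) (hX : ∀ x ∈ X, ∃ k : ℕ, orderOf x = p ^ k)
    (hXrep : ∀ g : G, (∃ k : ℕ, orderOf g = p ^ k) → ∃! x, x ∈ X ∧ IsConj g x)
    {f : G → ℂ} (hf : IsClassFunction G f) :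
    ∑ g, f g = ∑ x ∈ X, (Nat.card {a : G // IsConj x a} : ℂ) *
      ∑ s : Subgroup.centralizer ({x} : Set G),
        (if IsPRegular p s then f (x * (s : G)) else 0) := by
  choose part hpart using fun g : G => exists_isPPart hp g
  have hpel : ∀ g, ∃ k : ℕ, orderOf (part g) = p ^ k := fun g => by
    obtain ⟨y, -, -, hk, -⟩ := hpart g; exact hk
  choose rep hrep hrepu using fun g : G => hXrep (part g) (hpel g)
  rw [← Finset.sum_fiberwise_of_maps_to (t := X) (g := rep) fun g _ => (hrep g).1]
  refine Finset.sum_congr rfl fun x hxX => ?_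
  have hset : Finset.univ.filter (fun g => rep g = x) =
      Finset.univ.filter (fun g => IsConj x (part g)) := by
    ext g
    simp only [Finset.mem_filter, Finset.mem_univ, true_and]
    exact ⟨fun h => h ▸ (hrep g).2.symm, fun h => (hrepu g x ⟨hxX, h.symm⟩).symm⟩
  rw [hset, ← Finset.sum_fiberwise_of_maps_to (t := Finset.univ.filter (fun a => IsConj x a))
    (g := part) fun g hg => by simpa using hg]
  have hinner : ∀ a ∈ Finset.univ.filter (fun a => IsConj x a),
      ∑ g ∈ (Finset.univ.filter (fun g => IsConj x (part g))).filter (fun g => part g = a), f g =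
      ∑ s : Subgroup.centralizer ({x} : Set G),
        (if IsPRegular p s then f (x * (s : G)) else 0) := by
    intro a ha
    simp only [Finset.mem_filter, Finset.mem_univ, true_and] at ha
    obtain ⟨t, ht⟩ := isConj_iff.1 ha
    rw [← Finset.sum_filter]
    symm
    refine Finset.sum_bij' (fun s _ => t * (x * (s : G)) * t⁻¹)
      (fun g hg => ⟨x⁻¹ * (t⁻¹ * g * t), ?_⟩) ?_ ?_ ?_ ?_ ?_
    · simp only [Finset.mem_filter, Finset.mem_univ, true_and] at hg
      obtain ⟨y, hy, hc, -, -⟩ := hpart g
      rw [hg.2, ← ht] at hy hc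
      rw [Subgroup.mem_centralizer_singleton_iff, ← hy]
      have hc' : Commute x (t⁻¹ * y * t) := by
        show x * (t⁻¹ * y * t) = t⁻¹ * y * t * x
        calc x * (t⁻¹ * y * t) = t⁻¹ * ((t * x * t⁻¹) * y) * t := by group
          _ = t⁻¹ * (y * (t * x * t⁻¹)) * t := by rw [hc.eq]
          _ = _ := by group
      calc x⁻¹ * (t⁻¹ * (t * x * t⁻¹ * y) * t) * x = (t⁻¹ * y * t) * x := by group
        _ = x * (t⁻¹ * y * t) := hc'.eq.symm
        _ = _ := by group
    · intro s hs
      simp only [Finset.mem_filter, Finset.mem_univ, true_and] at hs ⊢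
      have h1 : IsPPart p (t * (x * (s : G)) * t⁻¹) (t * x * t⁻¹) :=
        IsPPart.conjugate (show IsPPart p (x * (s : G)) x from
          ⟨(s : G), rfl, (Subgroup.mem_centralizer_singleton_iff.1 s.2).symm, hX x hxX, by
            rw [Subgroup.orderOf_coe]; exact hs⟩) t
      rw [ht] at h1
      rw [isPPart_unique hp (hpart _) h1]
      exact ⟨ha, rfl⟩
    · intro g hg
      simp only [Finset.mem_filter, Finset.mem_univ, true_and] at hg ⊢
      obtain ⟨y, hy, hc, -, hpy⟩ := hpart g
      rw [hg.2, ← ht] at hy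
      have he : x⁻¹ * (t⁻¹ * g * t) = t⁻¹ * y * t := by rw [← hy]; group
      rw [IsPRegular, ← Subgroup.orderOf_coe]
      show ¬ p ∣ orderOf (x⁻¹ * (t⁻¹ * g * t))
      have ho := (MulAut.conj t⁻¹).orderOf_eq y
      rw [MulAut.conj_apply, inv_inv] at ho
      rw [he, ho]
      exact hpy
    · intro s _; exact Subtype.ext (by simp [mul_assoc])
    · intro g _; simp [mul_assoc]
    · intro s _; exact (hf _ t).symm
  rw [Finset.sum_congr rfl hinner, Finset.sum_const, nsmul_eq_mul, Nat.card_eq_fintype_card,
    Fintype.card_subtype]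

/-- **Brauer's count of the characters of a block by subsections.** -/
theorem card_block_eq_sum_subsections (hM : IsPModular p M) {B : Set (IrrCharacter G)}
    (hB : IsPBlock M B) (X : Finset G) (hX : ∀ x ∈ X, ∃ k : ℕ, orderOf x = p ^ k)
    (hXrep : ∀ g : G, (∃ k : ℕ, orderOf g = p ^ k) → ∃! x, x ∈ X ∧ IsConj g x) :
    Nat.card B = ∑ x ∈ X, ∑ᶠ b ∈ {b : Set (IrrCharacter (Subgroup.centralizer ({x} : Set G))) |
      IsInducedBlock M (Subgroup.centralizer ({x} : Set G)) b B}, blockRank p b := by
  classical
  haveI := Fintype.ofFinite (IrrCharacter G)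
  set s := Finset.univ.filter (· ∈ B) with hs
  have hkey : ∀ χ ∈ s, (Nat.card G : ℂ) = ∑ x ∈ X, (Nat.card G : ℂ) *
      ∑ᶠ b ∈ {b : Set (IrrCharacter (Subgroup.centralizer ({x} : Set G))) |
        IsInducedBlock M (Subgroup.centralizer ({x} : Set G)) b B},
      classInner (sect p x b (χ : G → ℂ)) (sect p x b (χ : G → ℂ)) := by
    intro χ hχ
    have hχB : χ ∈ B := (Finset.mem_filter.1 hχ).2
    have h1 := IsIrrCharacter.classInner_self χ.2
    rw [classInner, inv_mul_eq_one₀ natCard_ne_zero_complex] at h1
    conv_lhs => rw [h1, sum_eq_sum_sections hM.1 X hX hXrep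
      (f := fun g => (χ : G → ℂ) g * conj ((χ : G → ℂ) g))
      (fun a b => by simp only [irr_isClassFunction χ a b])]
    refine Finset.sum_congr rfl fun x hx => ?_
    rw [classInner_section_split hM (hX x hx) hB hχB, classInner, ← mul_assoc]
    congr 1
    · rw [eq_mul_inv_iff_mul_eq₀ natCard_ne_zero_complex]
      exact_mod_cast card_conj_mul_card_centralizer x
    · refine Finset.sum_congr rfl fun t _ => ?_
      simp only [pRegularPart_eq, shiftRes, map_mul, conj_regInd]
      split_ifs with ht
      · rw [regInd_of_regular ht]; ring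
      · rw [regInd_of_singular ht]; ring
  have h2 := Finset.sum_congr rfl hkey
  rw [Finset.sum_const, nsmul_eq_mul, Finset.sum_comm] at h2
  have hcard : Nat.card B = s.card := by
    rw [Nat.card_eq_fintype_card, Fintype.card_subtype]
  rw [hcard]
  have h3 : (Nat.card G : ℂ) * (s.card : ℂ) = (Nat.card G : ℂ) *
      ∑ x ∈ X, ((∑ᶠ b ∈ {b : Set (IrrCharacter (Subgroup.centralizer ({x} : Set G))) |
        IsInducedBlock M (Subgroup.centralizer ({x} : Set G)) b B}, blockRank p b : ℕ) : ℂ) := by
    rw [mul_comm, h2, Finset.mul_sum]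
    refine Finset.sum_congr rfl fun x hx => ?_
    rw [← Finset.mul_sum]
    congr 1
    set S := {b : Set (IrrCharacter (Subgroup.centralizer ({x} : Set G))) |
        IsInducedBlock M (Subgroup.centralizer ({x} : Set G)) b B}
    simp only [finsum_mem_eq_finite_toFinset_sum _ (Set.toFinite S)]
    rw [Finset.sum_comm, Nat.cast_sum]
    refine Finset.sum_congr rfl fun b hb => ?_
    rw [Set.Finite.mem_toFinset] at hb
    have hC : ∀ g, g ∈ Subgroup.centralizer ({x} : Set G) ↔ Commute x g := fun g =>
      ⟨fun h => (Subgroup.mem_centralizer_singleton_iff.1 h).symm,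
        fun h => Subgroup.mem_centralizer_singleton_iff.2 h.eq.symm⟩
    have h4 := sum_sect_norm hM hC (hX x hx) (e := b) (B := B) hb
    rw [finsum_mem_eq_finite_toFinset_sum _ (Set.toFinite B)] at h4
    have hS : (Set.toFinite B).toFinset = s := by ext; simp [hs]
    rw [hS] at h4
    simp only [classInner, ← Finset.mul_sum]
    rw [h4, ← mul_assoc, inv_mul_cancel₀ natCard_ne_zero_complex, one_mul]
  have h5 := mul_left_cancel₀ natCard_ne_zero_complex h3
  exact_mod_cast h5

theorem sum_classInner_sq {K : Type u} [Group K] [Fintype K] {l : Type*} [Fintype l]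
    (w : l → K → ℂ) :
    ∑ i, ∑ i', classInner (w i) (w i') * conj (classInner (w i) (w i')) =
      (Nat.card K : ℂ)⁻¹ * (Nat.card K : ℂ)⁻¹ * ∑ s, ∑ t,
        (∑ i, w i s * conj (w i t)) * (∑ i', w i' t * conj (w i' s)) := by
  set T : l → l → K → K → ℂ := fun i i' s t =>
    (Nat.card K : ℂ)⁻¹ * (Nat.card K : ℂ)⁻¹ *
      ((w i s * conj (w i t)) * (w i' t * conj (w i' s))) with hT
  calc ∑ i, ∑ i', classInner (w i) (w i') * conj (classInner (w i) (w i'))
      = ∑ i, ∑ i', ∑ s, ∑ t, T i i' s t := by
        refine Finset.sum_congr rfl fun i _ => Finset.sum_congr rfl fun i' _ => ?_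
        rw [classInner, map_mul, map_inv₀, map_natCast, map_sum, mul_mul_mul_comm,
          Finset.sum_mul_sum, Finset.mul_sum]
        refine Finset.sum_congr rfl fun s _ => ?_
        rw [Finset.mul_sum]
        refine Finset.sum_congr rfl fun t _ => ?_
        simp only [hT, map_mul, Complex.conj_conj]
        ring
    _ = ∑ s, ∑ t, ∑ i, ∑ i', T i i' s t := by
        rw [Finset.sum_congr rfl fun i _ => (Finset.sum_comm :
            ∑ i', ∑ s, ∑ t, T i i' s t = ∑ s, ∑ i', ∑ t, T i i' s t), Finset.sum_comm]
        refine Finset.sum_congr rfl fun s _ => ?_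
        rw [Finset.sum_congr rfl fun i _ => (Finset.sum_comm :
            ∑ i', ∑ t, T i i' s t = ∑ t, ∑ i', T i i' s t), Finset.sum_comm]
    _ = _ := by
        simp only [hT, Finset.mul_sum, Finset.sum_mul]
        refine Finset.sum_congr rfl fun s _ => Finset.sum_congr rfl fun t _ => ?_
        rw [Finset.sum_comm]

/-- Two families with the same kernel have the same square sum of mutual inner products. -/
theorem sum_classInner_sq_eq {K : Type u} [Group K] [Fintype K] {ι κ : Type*} [Fintype ι]
    [Fintype κ] (u : ι → K → ℂ) (v : κ → K → ℂ)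
    (h : ∀ s t, ∑ i, u i s * conj (u i t) = ∑ j, v j s * conj (v j t)) :
    ∑ i, ∑ i', classInner (u i) (u i') * conj (classInner (u i) (u i')) =
      ∑ j, ∑ j', classInner (v j) (v j') * conj (classInner (v j) (v j')) := by
  rw [sum_classInner_sq, sum_classInner_sq]
  simp only [h]

set_option maxHeartbeats 1000000 in
/-- **The bound for major subsections.** -/
theorem card_sq_le_of_height_zero (hM : IsPModular p M) {B : Set (IrrCharacter G)}
    (hh : ∀ χ ∈ B, blockHeight p B (χ : G → ℂ) = 0) {x : G} (hx : ∃ k : ℕ, orderOf x = p ^ k)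
    [Fintype (Subgroup.centralizer ({x} : Set G))]
    {b : Set (IrrCharacter (Subgroup.centralizer ({x} : Set G)))}
    (hind : IsInducedBlock M (Subgroup.centralizer ({x} : Set G)) b B) :
    Nat.card B ^ 2 ≤ p ^ (2 * blockDefect p b) * blockRank p b := by
  classical
  haveI : NeZero (Nat.card G) := ⟨Nat.card_pos.ne'⟩
  haveI := Fintype.ofFinite (IrrCharacter G)
  haveI := Fintype.ofFinite (IrrCharacter (Subgroup.centralizer ({x} : Set G)))
  haveI : Fintype {χ // χ ∈ B} := Fintype.ofFinite _
  haveI : Fintype {η // η ∈ b} := Fintype.ofFinite _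
  have hC : ∀ g, g ∈ Subgroup.centralizer ({x} : Set G) ↔ Commute x g := fun g =>
    ⟨fun h => (Subgroup.mem_centralizer_singleton_iff.1 h).symm,
      fun h => Subgroup.mem_centralizer_singleton_iff.2 h.eq.symm⟩
  set d := blockDefect p b with hd
  let a : {χ // χ ∈ B} × {χ // χ ∈ B} → ℂ := fun i => (p : ℂ) ^ d *
    classInner (sect p x b (i.1.1 : G → ℂ)) (sect p x b (i.2.1 : G → ℂ))
  have hspec := fun i : {χ // χ ∈ B} × {χ // χ ∈ B} =>
    contribution_spec hM hC hx hind i.1.2 (hh _ i.1.2) i.2.2 (hh _ i.2.2)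
  have hkernel : ∀ s t, ∑ i : {χ // χ ∈ B}, sect p x b (i.1 : G → ℂ) s *
      conj (sect p x b (i.1 : G → ℂ) t) = ∑ j : {η // η ∈ b},
        pRegularPart p (j.1 : Subgroup.centralizer ({x} : Set G) → ℂ) s * conj (pRegularPart p (j.1 : Subgroup.centralizer ({x} : Set G) → ℂ) t) := fun s t => by
    have h1 := sum_sect_block hM hC hx hind s t
    rw [finsum_irr_eq_sum_ite, ← Finset.sum_filter, ← Finset.sum_filter] at h1
    rw [Finset.sum_subtype (p := (· ∈ B)) _ (fun x => by simp)
      (fun χ => sect p x b (χ : G → ℂ) s * conj (sect p x b (χ : G → ℂ) t)),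
      Finset.sum_subtype (p := (· ∈ b)) _ (fun x => by simp)
      (fun η => pRegularPart p (η : Subgroup.centralizer ({x} : Set G) → ℂ) s * conj (pRegularPart p (η : Subgroup.centralizer ({x} : Set G) → ℂ) t))] at h1
    exact h1
  have hsum : ∑ i, a i * conj (a i) = ((p ^ (2 * d) * blockRank p b : ℕ) : ℂ) := by
    rw [Fintype.sum_prod_type]
    have h1 : ∀ (c : ℂ) (i i' : {χ // χ ∈ B}), (p : ℂ) ^ d * c * conj ((p : ℂ) ^ d * c) =
        (p : ℂ) ^ (2 * d) * (c * conj c) := fun c i i' => by
      rw [map_mul, map_pow, map_natCast, two_mul, pow_add]; ring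
    simp only [a]
    rw [Finset.sum_congr rfl fun i _ => Finset.sum_congr rfl fun i' _ => h1 _ i i']
    simp only [← Finset.mul_sum]
    rw [sum_classInner_sq_eq _ _ hkernel]
    push_cast
    congr 1
    rw [blockRank_eq_sum_regInner hM hind.1]
    refine Finset.sum_congr rfl fun j _ => ?_
    have h2 := classInner_eq_sum_irr (isClassFunction_pRegularPart p (irr_isClassFunction j.1))
      (isClassFunction_pRegularPart p (irr_isClassFunction j.1))
    rw [← regInner_self_right] at h2
    rw [h2, ← Finset.sum_subset (Finset.subset_univ (Finset.univ.filter (· ∈ b))) fun ψ _ hψ => by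
      rw [show classInner (pRegularPart p (j.1 : Subgroup.centralizer ({x} : Set G) → ℂ)) (ψ : Subgroup.centralizer ({x} : Set G) → ℂ) = 0 from
        regInner_eq_zero hM hind.1 j.2 (by simpa using hψ), zero_mul],
      Finset.sum_subtype (p := (· ∈ b)) _ (fun x => by simp)
      (fun ψ => classInner (pRegularPart p (j.1 : Subgroup.centralizer ({x} : Set G) → ℂ)) (ψ : Subgroup.centralizer ({x} : Set G) → ℂ) *
        conj (classInner (pRegularPart p (j.1 : Subgroup.centralizer ({x} : Set G) → ℂ)) (ψ : Subgroup.centralizer ({x} : Set G) → ℂ)))]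
    refine Finset.sum_congr rfl fun j' _ => ?_
    rw [← regInner_self_right, regInner]
  have := card_le_of_sum_sq a (fun i => (hspec i).2.1) (fun i => (hspec i).1)
    (fun i => (hspec i).2.2) _ hsum
  rw [Fintype.card_prod, ← Nat.card_eq_fintype_card] at this
  rwa [sq]

end Cfsg.Agent.Lib.BlockHeights
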