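import Cfsg.Agent.Lib.BlockHeights.Subsection
import Cfsg.Agent.Lib.BlockHeights.PositiveHeight
import Cfsg.Agent.Lib.BlockHeights.RankOne
import Cfsg.Agent.Lib.BlockHeights.GaloisTrace

/-!
# Characters of height zero on subsections
-/

set_option autoImplicit false
set_option linter.unusedSectionVars false
set_option linter.style.haveILetI false

namespace Cfsg.Agent.Lib.BlockHeights

open Cfsg Cfsg.Agent.Lib.Blocks Cfsg.Agent.Lib.Characters
open scoped ComplexConjugate

universe u

variable {G : Type u} [Group G] [Fintype G] {p : ℕ} {M : Ideal AlgInt} [M.IsPrime]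
  {C : Subgroup G} [Fintype C] {x : G}

theorem memLocalIdeal_root_sub_one (hM : IsPModular p M) {ω : ℂ} {k : ℕ} (h : ω ^ p ^ k = 1) :
    MemLocalIdeal M (ω - 1) := by
  have hint : IsIntegral ℤ ω := isIntegral_of_pow_eq_one (pow_ne_zero k hM.1.ne_zero) h
  let w : locSubring M := ⟨ω, memLocalRing_of_isIntegral' hint⟩
  obtain ⟨r, hr⟩ := exists_add_pow_prime_pow_eq hM.1 (w - 1) 1 k
  rw [sub_add_cancel, one_pow, mul_one] at hr
  have hr' := congrArg (Subtype.val : locSubring M → ℂ) hr
  push_cast [show (w : ℂ) = ω from rfl, h] at hr'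
  have hR : MemLocalRing M (ω - 1) :=
    memLocalRing_sub (memLocalRing_of_isIntegral' hint) memLocalRing_one
  rw [← memLocalIdeal_pow_iff hR (pow_ne_zero k hM.1.ne_zero),
    show (ω - 1) ^ p ^ k = (p : ℂ) * (-((ω - 1) * (r : ℂ))) by linear_combination (-1 : ℂ) * hr']
  exact memLocalIdeal_of_p_mul hM (memLocalRing_neg (memLocalRing_mul hR r.2))

/-- The scalar by which `x` acts in a character of its centraliser. -/
noncomputable def centralRoot (x : G) (hxC : x ∈ C) (η : IrrCharacter C) : ℂ :=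
  (η : C → ℂ) ⟨x, hxC⟩ / (η : C → ℂ) 1

theorem apply_central_mul (hC : ∀ g, g ∈ C ↔ Commute x g) (hxC : x ∈ C) (η : IrrCharacter C)
    (c : C) : (η : C → ℂ) (⟨x, hxC⟩ * c) = centralRoot x hxC η * (η : C → ℂ) c := by
  classical
  set z : C := ⟨x, hxC⟩ with hz
  have hzc : ∀ d : C, d * z * d⁻¹ = z := fun d => Subtype.ext (by
    show (d : G) * x * (d : G)⁻¹ = x
    rw [← ((hC _).1 d.2).eq, mul_inv_cancel_right])
  have hf : IsClassFunction C (fun d : C => if d = z then (1 : ℂ) else 0) := fun a b => by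
    by_cases h : a = z
    · subst h; simp [hzc]
    · have : ¬ b * a * b⁻¹ = z := fun h' => h (by
        rw [← hzc b⁻¹, ← h']; group)
      simp [h, this]
  have h1 := sum_classFun_mul_char η hf c
  simp only [ite_mul, one_mul, zero_mul, Finset.sum_ite_eq', Finset.mem_univ, if_true] at h1
  rw [centralRoot, ← h1, show c * z = z * c by
    conv_rhs => rw [← hzc c]
    group]

theorem centralRoot_pow (hC : ∀ g, g ∈ C ↔ Commute x g) (hxC : x ∈ C) (η : IrrCharacter C)
    {m : ℕ} (hm : x ^ m = 1) : centralRoot x hxC η ^ m = 1 := by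
  have h : ∀ j : ℕ, (η : C → ℂ) ((⟨x, hxC⟩ : C) ^ j) =
      centralRoot x hxC η ^ j * (η : C → ℂ) 1 := fun j => by
    induction j with
    | zero => simp
    | succ j ih => rw [pow_succ', apply_central_mul hC, ih, pow_succ']; ring
  have h1 := h m
  rw [show ((⟨x, hxC⟩ : C) ^ m) = 1 from Subtype.ext hm] at h1
  exact mul_right_cancel₀ (IsIrrCharacter.apply_one_ne_zero η.2) (by rw [one_mul, ← h1])

/-- The multiplicity of `η` in the restriction of `χ`. -/
noncomputable def resMult (C : Subgroup G) [Fintype C] (χ : IrrCharacter G) (η : IrrCharacter C) :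
    ℂ :=
  classInner (resFun C (χ : G → ℂ)) (η : C → ℂ)

theorem exists_resMult_nat (χ : IrrCharacter G) (η : IrrCharacter C) :
    ∃ m : ℕ, resMult C χ η = (m : ℂ) :=
  IsCharacter.exists_classInner_nat (IsCharacter.comp (irr_isCharacter χ) C.subtype)
    (irr_isCharacter η)

theorem resFun_eq_sum [Fintype (IrrCharacter C)] (χ : IrrCharacter G) :
    resFun C (χ : G → ℂ) = ∑ η : IrrCharacter C, resMult C χ η • (η : C → ℂ) :=
  eq_sum_classInner fun a b => irr_isClassFunction χ (a : G) (b : G)

theorem classInner_shiftRes (hC : ∀ g, g ∈ C ↔ Commute x g) (hxC : x ∈ C) (χ : IrrCharacter G)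
    (η : IrrCharacter C) :
    classInner (shiftRes C x (χ : G → ℂ)) (η : C → ℂ) =
      centralRoot x hxC η * resMult C χ η := by
  classical
  haveI := Fintype.ofFinite (IrrCharacter C)
  have h : shiftRes C x (χ : G → ℂ) =
      ∑ ξ : IrrCharacter C, (centralRoot x hxC ξ * resMult C χ ξ) • (ξ : C → ℂ) := by
    funext c
    have h1 := congrFun (resFun_eq_sum χ) ((⟨x, hxC⟩ : C) * c)
    simp only [resFun, Finset.sum_apply, Pi.smul_apply, smul_eq_mul, Subgroup.coe_mul] at h1
    show (χ : G → ℂ) (x * (c : G)) = _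
    rw [h1, Finset.sum_apply]
    refine Finset.sum_congr rfl fun ξ _ => ?_
    rw [apply_central_mul hC, Pi.smul_apply, smul_eq_mul]
    ring
  rw [h, classInner_sum_left, Finset.sum_eq_single η]
  · rw [classInner_smul_left, IsIrrCharacter.classInner_self η.2, mul_one]
  · intro ξ _ hne
    rw [classInner_smul_left, IsIrrCharacter.classInner_ne ξ.2 η.2
      (fun e => hne (Subtype.ext e)), mul_zero]
  · simp

theorem isIntegral_resMult (χ : IrrCharacter G) (η : IrrCharacter C) :
    IsIntegral ℤ (resMult C χ η) := by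
  obtain ⟨m, hm⟩ := exists_resMult_nat χ η
  rw [hm]; exact isIntegral_algebraMap (R := ℤ) (x := (m : ℤ))

open Classical in
/-- The degree of the `e`-part of the restriction of `χ`, divided by the least `p`-part of a
degree in `e`. -/
noncomputable def partDeg (p : ℕ) [Fintype (IrrCharacter C)] (e : Set (IrrCharacter C))
    (χ : IrrCharacter G) : ℂ :=
  ∑ η : IrrCharacter C,
    if η ∈ e then resMult C χ η * ((η : C → ℂ) 1 / (p : ℂ) ^ minExp p e) else 0

theorem memLocalRing_scaledDeg (hM : IsPModular p M) {e : Set (IrrCharacter C)}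
    {η : IrrCharacter C} (hη : η ∈ e) :
    MemLocalRing M ((η : C → ℂ) 1 / (p : ℂ) ^ minExp p e) := by
  obtain ⟨c, hc⟩ := (pow_dvd_pow p (minExp_le (p := p) hη)).trans
    (Nat.ordProj_dvd (charDegree (η : C → ℂ)) p)
  rw [irr_apply_one, hc]
  push_cast
  rw [mul_div_cancel_left₀ _ (pow_ne_zero _ (Nat.cast_ne_zero.2 hM.1.ne_zero))]
  exact memLocalRing_natCast c

theorem memLocalRing_partDeg (hM : IsPModular p M) [Fintype (IrrCharacter C)]
    (e : Set (IrrCharacter C)) (χ : IrrCharacter G) : MemLocalRing M (partDeg p e χ) := by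
  refine memLocalRing_sum _ fun η _ => ?_
  split_ifs with h
  · exact memLocalRing_mul (memLocalRing_of_isIntegral' (isIntegral_resMult χ η))
      (memLocalRing_scaledDeg hM h)
  · exact memLocalRing_zero

/-- For `χ` of height zero in the induced block, the restriction pairs to a unit with every
member of `e`. -/
theorem exists_unit_congr (hM : IsPModular p M) [Fintype (IrrCharacter C)]
    {e : Set (IrrCharacter C)} {B : Set (IrrCharacter G)} (hind : IsInducedBlock M C e B)
    {χ : IrrCharacter G} (hχ : χ ∈ B) (hmin : nu p (χ : G → ℂ) = minExp p B) :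
    ∃ U : ℂ, MemLocalRing M U ∧ ¬ MemLocalIdeal M U ∧ ∀ η' ∈ e, MemLocalIdeal M
      ((∑ η : IrrCharacter C, resMult C χ η * ((pairing p η η' : ℂ) / (η' : C → ℂ) 1)) - U) := by
  obtain ⟨χ', hχ'⟩ := IsPBlock.nonempty hind.2.1
  set r : ℂ := (ordPart p G : ℂ) * (ordPart p C : ℂ)⁻¹ with hr
  have hrR : MemLocalRing M r := memLocalRing_mul (memLocalRing_natCast _)
    (memLocalRing_inv_natCast hM (Nat.not_dvd_ordCompl hM.1 Nat.card_pos.ne'))
  have hr0 : ¬ MemLocalIdeal M r := fun h => by
    have h1 := memLocalIdeal_mul_right h (memLocalRing_natCast (M := M) (ordPart p C))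
    rw [hr, mul_assoc, inv_mul_cancel₀ ordPart_ne_zero, mul_one, memLocalIdeal_natCast_iff hM] at h1
    exact Nat.not_dvd_ordCompl hM.1 Nat.card_pos.ne' h1
  have hP := isRCentral_pairFun hM χ
  refine ⟨r * omega (χ' : G → ℂ) (pairFun p χ), memLocalRing_mul hrR (memLocalRing_omega hP χ'),
    not_memLocalIdeal_mul hrR (memLocalRing_omega hP χ') hr0 ?_, fun η' hη' => ?_⟩
  · rw [omega_pairFun hM.1]
    exact pairing_unit_of_minimal hM hind.2.1 hχ hmin hχ'
  have hfun : (∑ η : IrrCharacter C, resMult C χ η • pairFun p η) =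
      r • resFun C (pairFun p χ) := by
    funext y
    have h1 := congrArg conj (congrFun (resFun_eq_sum χ) y)
    simp only [resFun, Finset.sum_apply, Pi.smul_apply, smul_eq_mul, map_sum, map_mul] at h1
    simp only [Finset.sum_apply, Pi.smul_apply, smul_eq_mul, resFun, pairFun, h1, regInd_subgroup,
      Finset.mul_sum, hr]
    refine Finset.sum_congr rfl fun η _ => ?_
    obtain ⟨m, hm⟩ := exists_resMult_nat χ η
    rw [hm, map_natCast]
    field_simp [ordPart_ne_zero (p := p) (G := G), ordPart_ne_zero (p := p) (G := C)]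
  simp only [← omega_pairFun hM.1, ← omega_smul, ← omega_sum, hfun]
  rw [omega_smul, omega_smul, ← mul_sub]
  exact memLocalIdeal_mul_left hrR (IsInducedBlock.omega_congr hind hη' hχ' hP)

/-- **The `e`-part of the restriction of a height zero character has degree of exact `p`-part.** -/
theorem partDeg_unit (hM : IsPModular p M) [Fintype (IrrCharacter C)]
    {e : Set (IrrCharacter C)} {B : Set (IrrCharacter G)} (hind : IsInducedBlock M C e B)
    {χ : IrrCharacter G} (hχ : χ ∈ B) (hmin : nu p (χ : G → ℂ) = minExp p B) :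
    ¬ MemLocalIdeal M (partDeg p e χ) := by
  classical
  obtain ⟨U, -, hU, hcong⟩ := exists_unit_congr hM hind hχ hmin
  obtain ⟨η₀, hη₀, hmin₀⟩ := exists_nu_eq_minExp (p := p) (IsPBlock.nonempty hind.1)
  have hp0 : (p : ℂ) ^ minExp p e ≠ 0 := pow_ne_zero _ (Nat.cast_ne_zero.2 hM.1.ne_zero)
  set h₀ : ℂ := (η₀ : C → ℂ) 1 / (p : ℂ) ^ minExp p e with hh₀
  have hh0 : ¬ MemLocalIdeal M h₀ := by
    rw [hh₀, irr_apply_one, ← Int.cast_natCast (R := ℂ) (charDegree (η₀ : C → ℂ)),
      memLocalIdeal_div_pow_iff hM]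
    intro hd
    have hd' : p ^ (minExp p e + 1) ∣ charDegree (η₀ : C → ℂ) := by exact_mod_cast hd
    rw [hM.1.pow_dvd_iff_le_factorization (charDegree_irr_pos η₀).ne', ← hmin₀] at hd'
    simp only [nu] at hd'
    omega
  have hh0R : MemLocalRing M h₀ := memLocalRing_scaledDeg hM hη₀
  set γ : ℂ := (pairing p η₀ η₀ : ℂ) / (η₀ : C → ℂ) 1 with hγ
  have hγR : MemLocalRing M γ := by
    rw [hγ, ← omega_pairFun hM.1]; exact memLocalRing_omega (isRCentral_pairFun hM η₀) η₀
  intro hZ
  apply hU
  have hL := hcong η₀ hη₀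
  have hinv := memLocalRing_inv hh0R hh0
  have h1 : MemLocalIdeal M
      ((∑ η : IrrCharacter C, resMult C χ η * ((pairing p η η₀ : ℂ) / (η₀ : C → ℂ) 1)) -
        γ * h₀⁻¹ * partDeg p e χ) := by
    rw [partDeg, Finset.mul_sum, ← Finset.sum_sub_distrib]
    refine memLocalIdeal_sum _ fun η _ => ?_
    by_cases hη : η ∈ e
    · rw [if_pos hη, pairing_symm hM.1 η η₀]
      have h2 := pairing_congr hM η₀ (IsPBlock.sameBlock hind.1 hη hη₀)
      have h3 := memLocalIdeal_mul_left (memLocalRing_mul
        (memLocalRing_mul (memLocalRing_of_isIntegral' (isIntegral_resMult χ η)) hinv)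
        (memLocalRing_scaledDeg hM hη)) h2
      convert h3 using 1
      rw [hγ, hh₀]
      field_simp [IsIrrCharacter.apply_one_ne_zero η.2, IsIrrCharacter.apply_one_ne_zero η₀.2]
    · rw [if_neg hη, pairing_symm hM.1, pairing_eq_zero hM hind.1 hη₀ hη]
      simpa using memLocalIdeal_zero
  have h4 : MemLocalIdeal M (∑ η : IrrCharacter C,
      resMult C χ η * ((pairing p η η₀ : ℂ) / (η₀ : C → ℂ) 1)) := by
    have := memLocalIdeal_add h1 (memLocalIdeal_mul_left (memLocalRing_mul hγR hinv) hZ)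
    simpa using this
  simpa using memLocalIdeal_sub h4 hL

/-- **Height zero characters do not vanish on the subsections of their block.** -/
theorem blockPart_shiftRes_one_ne_zero (hM : IsPModular p M) (hC : ∀ g, g ∈ C ↔ Commute x g)
    (hx : ∃ k : ℕ, orderOf x = p ^ k) {e : Set (IrrCharacter C)} {B : Set (IrrCharacter G)}
    (hind : IsInducedBlock M C e B)
    {χ : IrrCharacter G} (hχ : χ ∈ B) (h0 : blockHeight p B (χ : G → ℂ) = 0) :
    blockPart e (shiftRes C x (χ : G → ℂ)) 1 ≠ 0 := by
  classical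
  haveI := Fintype.ofFinite (IrrCharacter C)
  obtain ⟨k, hk⟩ := hx
  have hxk : x ^ p ^ k = 1 := by rw [← hk, pow_orderOf_eq_one]
  have hxC : x ∈ C := (hC x).2 (Commute.refl x)
  have hmin : nu p (χ : G → ℂ) = minExp p B := by
    rw [← minExp_add_blockHeight (p := p) hχ, h0, add_zero]
  have hp0 : (p : ℂ) ^ minExp p e ≠ 0 := pow_ne_zero _ (Nat.cast_ne_zero.2 hM.1.ne_zero)
  intro h
  apply partDeg_unit hM hind hχ hmin
  have h1 : MemLocalIdeal M (blockPart e (shiftRes C x (χ : G → ℂ)) 1 / (p : ℂ) ^ minExp p e -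
      partDeg p e χ) := by
    rw [blockPart_eq_sum, Finset.sum_apply, Finset.sum_div, partDeg, ← Finset.sum_sub_distrib]
    refine memLocalIdeal_sum _ fun η _ => ?_
    by_cases hη : η ∈ e
    · rw [if_pos hη, if_pos hη, Pi.smul_apply, smul_eq_mul, classInner_shiftRes hC hxC]
      have h2 := memLocalIdeal_mul_right (memLocalIdeal_root_sub_one hM
        (centralRoot_pow hC hxC η hxk)) (memLocalRing_mul
          (memLocalRing_of_isIntegral' (isIntegral_resMult χ η)) (memLocalRing_scaledDeg hM hη))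
      convert h2 using 1
      ring
    · rw [if_neg hη, if_neg hη, zero_smul]
      simpa using memLocalIdeal_zero
  rw [h, zero_div, zero_sub] at h1
  simpa using memLocalIdeal_neg h1

theorem classInner_sect (hM : IsPModular p M) [Fintype (IrrCharacter C)]
    (e : Set (IrrCharacter C)) [DecidablePred (· ∈ e)] (f f' : G → ℂ) :
    classInner (sect p x e f) (sect p x e f') =
      ∑ η : IrrCharacter C, ∑ η' : IrrCharacter C, if η ∈ e ∧ η' ∈ e then
        classInner (shiftRes C x f) (η : C → ℂ) * conj (classInner (shiftRes C x f') (η' : C → ℂ)) *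
          regInner p η η' else 0 := by
  have h : ∀ g : G → ℂ, sect p x e g = ∑ η : IrrCharacter C,
      (if η ∈ e then classInner (shiftRes C x g) (η : C → ℂ) else 0) •
        pRegularPart p (η : C → ℂ) := fun g => by
    funext y
    rw [sect, pRegularPart_eq]
    simp only [blockPart_eq_sum, Finset.sum_apply, Pi.smul_apply, smul_eq_mul, Finset.mul_sum,
      pRegularPart_eq]
    refine Finset.sum_congr rfl fun η _ => ?_
    split_ifs <;> ring
  rw [h, h, classInner_sum_left]
  refine Finset.sum_congr rfl fun η _ => ?_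
  rw [classInner_smul_left, classInner_sum_right, Finset.mul_sum]
  refine Finset.sum_congr rfl fun η' _ => ?_
  rw [classInner_smul_right, ← regInner_self_right]
  by_cases h1 : η ∈ e <;> by_cases h2 : η' ∈ e <;> simp [h1, h2]
  ring

/-- The contribution of the subsection `(x, e)` to a pair of characters, times `p ^ d`. -/
noncomputable def contrib (p : ℕ) (x : G) (e : Set (IrrCharacter C)) (χ ψ : IrrCharacter G) : ℂ :=
  (p : ℂ) ^ blockDefect p e * classInner (sect p x e (χ : G → ℂ)) (sect p x e (ψ : G → ℂ))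

open Classical in
/-- The integral coefficient of two characters of a block: `pairing / p ^ k`. -/
noncomputable def contribCoef (p : ℕ) (e : Set (IrrCharacter C)) (η η' : IrrCharacter C) : ℤ :=
  if η ∈ e ∧ η' ∈ e then pairing p η η' / (p : ℤ) ^ minExp p e else 0

theorem contribCoef_mul (hM : IsPModular p M) {e : Set (IrrCharacter C)} {η η' : IrrCharacter C}
    (hη : η ∈ e) (hη' : η' ∈ e) :
    pairing p η η' = (p : ℤ) ^ minExp p e * contribCoef p e η η' := by
  rw [contribCoef, if_pos ⟨hη, hη'⟩, Int.mul_ediv_cancel']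
  exact dvd_trans (pow_dvd_pow _ (minExp_le hη')) (pow_nu_dvd_pairing hM η η')

theorem contribCoef_symm (hp : p.Prime) (e : Set (IrrCharacter C)) (η η' : IrrCharacter C) :
    contribCoef p e η η' = contribCoef p e η' η := by
  classical
  unfold contribCoef
  by_cases h : η ∈ e ∧ η' ∈ e
  · rw [if_pos h, if_pos h.symm, pairing_symm hp]
  · rw [if_neg h, if_neg fun h' => h h'.symm]

/-- **The contribution as an integral combination of roots of unity.** -/
theorem contrib_eq (hM : IsPModular p M) (hC : ∀ g, g ∈ C ↔ Commute x g) (hxC : x ∈ C)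
    [Fintype (IrrCharacter C)] {e : Set (IrrCharacter C)} (he : IsPBlock M e)
    (χ ψ : IrrCharacter G) :
    contrib p x e χ ψ = ∑ η : IrrCharacter C, ∑ η' : IrrCharacter C,
      (centralRoot x hxC η * conj (centralRoot x hxC η')) *
        (resMult C χ η * resMult C ψ η' * (contribCoef p e η η' : ℂ)) := by
  classical
  have hp0 : (p : ℂ) ≠ 0 := Nat.cast_ne_zero.2 hM.1.ne_zero
  simp only [contrib, classInner_sect hM, Finset.mul_sum]
  refine Finset.sum_congr rfl fun η _ => Finset.sum_congr rfl fun η' _ => ?_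
  split_ifs with h
  · rw [classInner_shiftRes hC hxC, classInner_shiftRes hC hxC, map_mul, regInner,
      classInner_pRegularPart hM.1, contribCoef_mul hM h.1 h.2,
      ← blockDefect_add_minExp (p := p) he]
    obtain ⟨n, hn⟩ := exists_resMult_nat (C := C) ψ η'
    simp only [hn, map_natCast]
    push_cast
    field_simp
    ring
  · rw [contribCoef, if_neg h, Int.cast_zero]
    ring

theorem isIntegral_contrib (hM : IsPModular p M) (hC : ∀ g, g ∈ C ↔ Commute x g)
    {e : Set (IrrCharacter C)} (he : IsPBlock M e) (χ ψ : IrrCharacter G) :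
    IsIntegral ℤ (contrib p x e χ ψ) := by
  classical
  haveI := Fintype.ofFinite (IrrCharacter C)
  have hxC : x ∈ C := (hC x).2 (Commute.refl x)
  have hxG : x ^ Nat.card G = 1 := pow_card_eq_one'
  rw [contrib_eq hM hC hxC he]
  refine IsIntegral.sum _ fun η _ => IsIntegral.sum _ fun η' _ => ?_
  exact ((isIntegral_of_pow_eq_one Nat.card_pos.ne' (centralRoot_pow hC hxC η hxG)).mul
    (isIntegral_of_pow_eq_one Nat.card_pos.ne'
      (by rw [← map_pow, centralRoot_pow hC hxC η' hxG, map_one]))).mul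
    (((isIntegral_resMult χ η).mul (isIntegral_resMult ψ η')).mul
      (isIntegral_algebraMap (R := ℤ) (x := contribCoef p e η η')))

theorem contrib_mem_cycField (hM : IsPModular p M) (hC : ∀ g, g ∈ C ↔ Commute x g)
    {e : Set (IrrCharacter C)} (he : IsPBlock M e) {n : ℕ} [NeZero n] (hn : x ^ n = 1)
    (χ ψ : IrrCharacter G) : contrib p x e χ ψ ∈ cycField n := by
  classical
  haveI := Fintype.ofFinite (IrrCharacter C)
  have hxC : x ∈ C := (hC x).2 (Commute.refl x)
  rw [contrib_eq hM hC hxC he]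
  refine sum_mem fun η _ => sum_mem fun η' _ => ?_
  obtain ⟨a, ha⟩ := exists_resMult_nat (C := C) χ η
  obtain ⟨b, hb⟩ := exists_resMult_nat (C := C) ψ η'
  rw [ha, hb]
  exact mul_mem (mul_mem (mem_cycField_of_pow_eq_one (centralRoot_pow hC hxC η hn))
    (mem_cycField_of_pow_eq_one (by rw [← map_pow, centralRoot_pow hC hxC η' hn, map_one])))
    (mul_mem (mul_mem (natCast_mem _ a) (natCast_mem _ b)) (intCast_mem _ _))

/-- Modulo `M` the roots of unity disappear. -/
theorem contrib_congr_sum (hM : IsPModular p M) (hC : ∀ g, g ∈ C ↔ Commute x g) (hxC : x ∈ C)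
    (hx : ∃ k : ℕ, orderOf x = p ^ k) [Fintype (IrrCharacter C)] {e : Set (IrrCharacter C)}
    (he : IsPBlock M e) (χ ψ : IrrCharacter G) :
    MemLocalIdeal M (contrib p x e χ ψ - ∑ η : IrrCharacter C, ∑ η' : IrrCharacter C,
      resMult C χ η * resMult C ψ η' * (contribCoef p e η η' : ℂ)) := by
  obtain ⟨k, hk⟩ := hx
  have hxk : x ^ p ^ k = 1 := by rw [← hk, pow_orderOf_eq_one]
  rw [contrib_eq hM hC hxC he, ← Finset.sum_sub_distrib]
  refine memLocalIdeal_sum _ fun η _ => ?_
  rw [← Finset.sum_sub_distrib]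
  refine memLocalIdeal_sum _ fun η' _ => ?_
  rw [← sub_one_mul]
  refine memLocalIdeal_mul_right (memLocalIdeal_root_sub_one hM (k := k) ?_)
    (memLocalRing_mul (memLocalRing_mul (memLocalRing_of_isIntegral' (isIntegral_resMult χ η))
      (memLocalRing_of_isIntegral' (isIntegral_resMult ψ η'))) (memLocalRing_intCast _))
  rw [mul_pow, centralRoot_pow hC hxC η hxk, ← map_pow, centralRoot_pow hC hxC η' hxk, map_one,
    one_mul]

/-- **The contribution of two characters of height zero is a unit.** -/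
theorem contrib_unit (hM : IsPModular p M) (hC : ∀ g, g ∈ C ↔ Commute x g)
    (hx : ∃ k : ℕ, orderOf x = p ^ k) {e : Set (IrrCharacter C)} {B : Set (IrrCharacter G)}
    (hind : IsInducedBlock M C e B) {χ ψ : IrrCharacter G}
    (hχ : χ ∈ B) (hχ0 : blockHeight p B (χ : G → ℂ) = 0)
    (hψ : ψ ∈ B) (hψ0 : blockHeight p B (ψ : G → ℂ) = 0) :
    ¬ MemLocalIdeal M (contrib p x e χ ψ) := by
  classical
  haveI := Fintype.ofFinite (IrrCharacter C)
  have hxC : x ∈ C := (hC x).2 (Commute.refl x)
  have hmin : ∀ {φ : IrrCharacter G}, φ ∈ B → blockHeight p B (φ : G → ℂ) = 0 →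
      nu p (φ : G → ℂ) = minExp p B := fun hφ h => by
    rw [← minExp_add_blockHeight (p := p) hφ, h, add_zero]
  obtain ⟨U, hUR, hU, hcong⟩ := exists_unit_congr hM hind hχ (hmin hχ hχ0)
  rw [memLocalIdeal_iff_of_sub (contrib_congr_sum hM hC hxC hx hind.1 χ ψ)]
  intro h0
  apply not_memLocalIdeal_mul hUR (memLocalRing_partDeg hM e ψ) hU
    (partDeg_unit hM hind hψ (hmin hψ hψ0))
  refine (memLocalIdeal_iff_of_sub ?_).1 h0
  rw [Finset.sum_comm, partDeg, Finset.mul_sum, ← Finset.sum_sub_distrib]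
  refine memLocalIdeal_sum _ fun η' _ => ?_
  by_cases hη' : η' ∈ e
  · have h2 := memLocalIdeal_mul_left (memLocalRing_mul
      (memLocalRing_of_isIntegral' (isIntegral_resMult ψ η'))
      (memLocalRing_scaledDeg hM hη')) (hcong η' hη')
    rw [if_pos hη']
    convert h2 using 1
    rw [mul_sub, Finset.mul_sum, mul_comm U]
    congr 1
    refine Finset.sum_congr rfl fun η _ => ?_
    by_cases hη : η ∈ e
    · rw [contribCoef_mul hM hη hη']
      push_cast
      field_simp [IsIrrCharacter.apply_one_ne_zero η'.2,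
        (Nat.cast_ne_zero.2 hM.1.ne_zero : (p : ℂ) ≠ 0)]
    · rw [contribCoef, if_neg (fun hh => hη hh.1), pairing_symm hM.1,
        pairing_eq_zero hM hind.1 hη' hη]
      simp
  · rw [if_neg hη', mul_zero, sub_zero]
    refine memLocalIdeal_sum _ fun η _ => ?_
    rw [contribCoef, if_neg (fun hh => hη' hh.2)]
    simpa using memLocalIdeal_zero

/-- **The contributions of a major subsection are nonzero algebraic integers.** -/
theorem contribution_spec (hM : IsPModular p M) (hC : ∀ g, g ∈ C ↔ Commute x g)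
    (hx : ∃ k : ℕ, orderOf x = p ^ k) {e : Set (IrrCharacter C)} {B : Set (IrrCharacter G)}
    (hind : IsInducedBlock M C e B) {χ ψ : IrrCharacter G}
    (hχ : χ ∈ B) (hχ0 : blockHeight p B (χ : G → ℂ) = 0)
    (hψ : ψ ∈ B) (hψ0 : blockHeight p B (ψ : G → ℂ) = 0) :
    let a := (p : ℂ) ^ blockDefect p e *
      classInner (sect p x e (χ : G → ℂ)) (sect p x e (ψ : G → ℂ))
    IsIntegral ℤ a ∧ a ∈ cycField (Nat.card G) ∧ a ≠ 0 := by
  haveI : NeZero (Nat.card G) := ⟨Nat.card_pos.ne'⟩
  exact ⟨isIntegral_contrib hM hC hind.1 χ ψ,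
    contrib_mem_cycField hM hC hind.1 pow_card_eq_one' χ ψ,
    ne_zero_of_not_memLocalIdeal (contrib_unit hM hC hx hind hχ hχ0 hψ hψ0)⟩

end Cfsg.Agent.Lib.BlockHeights
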