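import Cfsg.Agent.Lib.BlockHeights.Heights
import Cfsg.Agent.Lib.Blocks.Defect
import Mathlib.LinearAlgebra.Matrix.Rank
import Mathlib.LinearAlgebra.Matrix.NonsingularInverse
import Mathlib.LinearAlgebra.Matrix.ToLin
import Mathlib.LinearAlgebra.Basis.VectorSpace

/-!
# Blocks attached to classes separated by `p`-elements
-/

set_option autoImplicit false
set_option linter.unusedSectionVars false
set_option linter.style.haveILetI false

namespace Cfsg.Agent.Lib.BlockHeights

open Cfsg Cfsg.Agent.Lib.Blocks Cfsg.Agent.Lib.Characters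
open scoped ComplexConjugate

universe u

variable {G : Type u} [Group G] [Fintype G] {p : ℕ} {M : Ideal AlgInt} [M.IsPrime]

theorem centralizer_singleton_inv (g : G) :
    Subgroup.centralizer ({g⁻¹} : Set G) = Subgroup.centralizer ({g} : Set G) := by
  ext y
  simp only [Subgroup.mem_centralizer_singleton_iff]
  exact Commute.inv_right_iff

theorem centralChar_inv (η : IrrCharacter G) (g : G) :
    centralChar (η : G → ℂ) g⁻¹ =
      ((Subgroup.centralizer ({g} : Set G)).index : ℂ) * conj ((η : G → ℂ) g) / (η : G → ℂ) 1 := by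
  rw [centralChar, centralizer_singleton_inv, IsCharacter.apply_inv (irr_isCharacter η)]

/-- The sum over a Sylow subgroup of a product of class sums. -/
theorem sum_sylow_conv_classes (hp : p.Prime) (S : Sylow p G) [Fintype (S : Subgroup G)] {r : ℕ}
    (x : Fin r → G) (hx : ∀ i j : Fin r, IsConj (x i) (x j) → i = j)
    (hsep : ∀ i j : Fin r, ∀ g h : G, IsConj (x i) g → IsConj (x j) h → ∀ k : ℕ, 0 < k →
      orderOf (g * h⁻¹) ≠ p ^ k)
    (A : Fin r → ℂ) (i : Fin r) :
    ∑ s : (S : Subgroup G),
      conv (∑ j, A j • classIndicator (x j)) (classIndicator (x i)⁻¹) (s : G) =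
      A i * ((Subgroup.centralizer ({x i} : Set G)).index : ℂ) := by
  classical
  haveI := Fact.mk hp
  rw [Finset.sum_eq_single (1 : (S : Subgroup G))]
  · simp only [conv, Subgroup.coe_one, mul_one, Finset.sum_apply, Pi.smul_apply, smul_eq_mul,
      Finset.sum_mul]
    rw [Finset.sum_comm, Finset.sum_eq_single i]
    · have h : ∀ g : G, A i * classIndicator (x i) g * classIndicator (x i)⁻¹ g⁻¹ =
          A i * if IsConj (x i) g then 1 else 0 := fun g => by
        unfold classIndicator
        by_cases hg : IsConj (x i) g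
        · obtain ⟨c, hc⟩ := isConj_iff.1 hg
          rw [if_pos hg, if_pos (isConj_iff.2 ⟨c, by rw [← hc]; group⟩)]
          simp
        · simp only [if_neg hg, mul_zero, zero_mul]
      simp only [h, ← Finset.mul_sum, Finset.sum_boole]
      rw [← card_conj_eq_index, Nat.card_eq_fintype_card, Fintype.card_subtype]
    · intro j _ hji
      refine Finset.sum_eq_zero fun g _ => ?_
      unfold classIndicator
      split_ifs with h1 h2
      · obtain ⟨c, hc⟩ := isConj_iff.1 h2
        refine absurd (hx j i (h1.trans (isConj_iff.2 ⟨c, ?_⟩ : IsConj (x i) g).symm)) hji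
        have h3 := congrArg (·⁻¹) hc
        simpa [mul_assoc] using h3
      all_goals simp
    · simp
  · intro s _ hs
    refine Finset.sum_eq_zero fun g _ => ?_
    rw [Finset.sum_apply, Finset.sum_mul]
    refine Finset.sum_eq_zero fun j _ => ?_
    simp only [Pi.smul_apply, smul_eq_mul]
    unfold classIndicator
    split_ifs with h1 h2
    · obtain ⟨c, hc⟩ := isConj_iff.1 h2
      have hh : IsConj (x i) ((g⁻¹ * (s : G))⁻¹) := isConj_iff.2 ⟨c, by rw [← hc]; group⟩
      obtain ⟨k, hk⟩ := IsPGroup.iff_orderOf.1 S.2 s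
      refine absurd ?_ (hsep j i g _ h1 hh k ?_)
      · rw [inv_inv, mul_inv_cancel_left, Subgroup.orderOf_coe, hk]
      · refine Nat.pos_of_ne_zero fun h0 => hs ?_
        rw [h0, pow_zero, orderOf_eq_one_iff] at hk
        exact hk
    all_goals simp
  · simp

/-- **The class sums are independent modulo `M` on the blocks with defect group `D`.** -/
theorem separated_injective (hM : IsPModular p M) (D : Subgroup G) {r : ℕ} (x : Fin r → G)
    (hx : ∀ i j : Fin r, IsConj (x i) (x j) → i = j)
    (hD : ∀ i : Fin r, ∃ S : Sylow p (Subgroup.centralizer ({x i} : Set G)), sylowSub S = D)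
    (hsep : ∀ i j : Fin r, ∀ g h : G, IsConj (x i) g → IsConj (x j) h → ∀ k : ℕ, 0 < k →
      orderOf (g * h⁻¹) ≠ p ^ k)
    (A : Fin r → ℂ) (hA : ∀ j, MemLocalRing M (A j))
    (h : ∀ B : Set (IrrCharacter G), IsPBlock M B → IsDefectGroup p M B D → ∀ η ∈ B,
      MemLocalIdeal M (∑ j, A j * centralChar (η : G → ℂ) (x j))) (i : Fin r) :
    MemLocalIdeal M (A i) := by
  classical
  haveI := Fact.mk hM.1
  haveI := Fintype.ofFinite (IrrCharacter G)
  obtain ⟨S⟩ : Nonempty (Sylow p G) := inferInstance
  haveI := Fintype.ofFinite (S : Subgroup G)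
  set f : G → ℂ := ∑ j, A j • classIndicator (x j) with hf
  have hfR : IsRCentral M f := IsRCentral.sum _ fun j _ =>
    (isRCentral_classIndicator (x j)).smul (hA j)
  have hωf : ∀ η : IrrCharacter G,
      omega (η : G → ℂ) f = ∑ j, A j * centralChar (η : G → ℂ) (x j) := fun η => by
    simp only [hf, omega_sum, omega_smul, omega_classIndicator (irr_isClassFunction η)]
  have hm' : ∀ η : IrrCharacter G, ∃ n : ℕ, classInner (1 : ↥(S : Subgroup G) → ℂ)
      (fun s : ↥(S : Subgroup G) => (η : G → ℂ) (s : G)) = (n : ℂ) := fun η =>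
    IsCharacter.exists_classInner_nat isCharacter_one
      (IsCharacter.restrict (irr_isCharacter η) (S : Subgroup G))
  choose m hm using hm'
  have hsum : ∀ η : IrrCharacter G, ∑ s : (S : Subgroup G), conj ((η : G → ℂ) (s : G)) =
      (Nat.card (S : Subgroup G) : ℂ) * (m η : ℂ) := fun η => by
    rw [← hm η, classInner, ← mul_assoc, mul_inv_cancel₀ natCard_ne_zero_complex, one_mul]
    exact Finset.sum_congr rfl fun s _ => (one_mul _).symm
  have hSg : (Nat.card G : ℂ) = (Nat.card (S : Subgroup G) : ℂ) * (ordPart p G : ℂ) := by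
    rw [natCard_eq_mul (p := p), S.card_eq_multiplicity, Nat.cast_pow]
  set c := (Subgroup.centralizer ({x i} : Set G)).index with hc
  have hc0 : (c : ℂ) ≠ 0 := Nat.cast_ne_zero.2 Subgroup.index_ne_zero_of_finite
  have hfc : IsClassFunction G (conv f (classIndicator (x i)⁻¹)) :=
    (hfR.conv (isRCentral_classIndicator (x i)⁻¹)).1
  have hkey : A i * (ordPart p G : ℂ) = ∑ η : IrrCharacter G,
      omega (η : G → ℂ) f * conj ((η : G → ℂ) (x i)) * (m η : ℂ) := by
    apply mul_right_cancel₀ hc0
    rw [show A i * (ordPart p G : ℂ) * (c : ℂ) = (ordPart p G : ℂ) * (A i * (c : ℂ)) by ring,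
      ← sum_sylow_conv_classes hM.1 S x hx hsep A i, ← hf]
    simp only [eq_sum_omega hfc, omega_conv (χ := _) (Subtype.prop _) hfR.1,
      omega_classIndicator (irr_isClassFunction _), centralChar_inv, ← hc, Finset.mul_sum]
    rw [Finset.sum_comm, Finset.sum_mul]
    refine Finset.sum_congr rfl fun η _ => ?_
    simp only [← Finset.mul_sum, hsum]
    rw [hSg]
    field_simp [IsIrrCharacter.apply_one_ne_zero η.2, ordPart_ne_zero (p := p) (G := G),
      natCard_ne_zero_complex (G := (S : Subgroup G))]
  have hr : ¬ MemLocalIdeal M (ordPart p G : ℂ) := fun h =>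
    Nat.not_dvd_ordCompl hM.1 Nat.card_pos.ne' ((memLocalIdeal_natCast_iff hM _).1 h)
  by_contra hAi
  apply not_memLocalIdeal_mul (hA i) (memLocalRing_natCast _) hAi hr
  rw [hkey]
  refine memLocalIdeal_sum _ fun η _ => memLocalIdeal_mul_right ?_ (memLocalRing_natCast _)
  have hB := isPBlock_blockOf (M := M) η
  have hR := memLocalRing_of_isIntegral' (M := M) (isIntegral_conj_char η (x i))
  by_cases hj : ∀ j, MemLocalIdeal M (centralChar (η : G → ℂ) (x j))
  · refine memLocalIdeal_mul_right ?_ hR
    rw [hωf]
    exact memLocalIdeal_sum _ fun j _ => memLocalIdeal_mul_left (hA j) (hj j)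
  simp only [not_forall] at hj
  obtain ⟨j, hj⟩ := hj
  obtain ⟨g, hg⟩ := exists_isDefectClass hM hB
  obtain ⟨Dg⟩ : Nonempty (Sylow p (Subgroup.centralizer ({g} : Set G))) := inferInstance
  obtain ⟨Q, hQ⟩ := hD j
  have hle := isConjLE_of_omega hM hB hg Dg Q (self_mem_blockOf η) hj
  rw [hQ] at hle
  by_cases hcard : Nat.card D ≤ Nat.card (sylowSub Dg)
  · obtain ⟨a, ha⟩ := hle.exists_eq hcard
    refine memLocalIdeal_mul_right ?_ hR
    rw [hωf]
    exact h _ hB (ha ▸ IsDefectGroup.map_conj ⟨g, hg, Dg, rfl⟩ a) η (self_mem_blockOf η)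
  · refine memLocalIdeal_mul_left (memLocalRing_omega hfR η) ?_
    obtain ⟨Qi, hQi⟩ := hD i
    have hlt : (Nat.card (Subgroup.centralizer ({g} : Set G))).factorization p <
        (Nat.card (Subgroup.centralizer ({x i} : Set G))).factorization p := by
      rw [← hQi, card_sylowSub, card_sylowSub, not_le] at hcard
      exact (Nat.pow_lt_pow_iff_right hM.1.one_lt).1 hcard
    have hv := sInf_degree_eq_of_defectClass hM hB hg
    have hnu : (Subgroup.centralizer ({g} : Set G)).index.factorization p ≤ nu p (η : G → ℂ) :=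
      hv ▸ minExp_le (self_mem_blockOf η)
    have hidx : ∀ y : G, (Nat.card G).factorization p =
        (Subgroup.centralizer ({y} : Set G)).index.factorization p +
          (Nat.card (Subgroup.centralizer ({y} : Set G))).factorization p := fun y => by
      rw [← (Subgroup.centralizer ({y} : Set G)).index_mul_card, Nat.factorization_mul
        Subgroup.index_ne_zero_of_finite Nat.card_pos.ne', Finsupp.add_apply]
    have h1 := hidx g
    have h2 := hidx (x i)
    rw [← hc] at h2
    have hω := memLocalRing_centralChar (M := M) η (x i)⁻¹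
    rw [centralChar_inv, ← hc] at hω
    have h3 : MemLocalIdeal M (((charDegree (η : G → ℂ) : ℤ) : ℂ) / (c : ℂ)) := by
      rw [memLocalIdeal_div_natCast_iff hM Subgroup.index_ne_zero_of_finite,
        memLocalIdeal_div_pow_iff hM]
      exact_mod_cast (pow_dvd_pow p (show c.factorization p + 1 ≤ nu p (η : G → ℂ) by omega)).trans
        (Nat.ordProj_dvd _ p)
    have h4 := memLocalIdeal_mul_right h3 hω
    convert h4 using 1
    rw [Int.cast_natCast, irr_apply_one η]
    field_simp [Nat.cast_ne_zero.2 (charDegree_irr_pos η).ne']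

/-- **Blocks attached to separated classes, with a nonsingular character matrix.** -/
theorem exists_separated_blocks (hM : IsPModular p M) (D : Subgroup G) {r : ℕ} (x : Fin r → G)
    (hx : ∀ i j : Fin r, IsConj (x i) (x j) → i = j)
    (hD : ∀ i : Fin r, ∃ S : Sylow p (Subgroup.centralizer ({x i} : Set G)), sylowSub S = D)
    (hsep : ∀ i j : Fin r, ∀ g h : G, IsConj (x i) g → IsConj (x j) h → ∀ k : ℕ, 0 < k →
      orderOf (g * h⁻¹) ≠ p ^ k) :
    ∃ B : Fin r → Set (IrrCharacter G), Function.Injective B ∧
      (∀ i : Fin r, IsPBlock M (B i) ∧ IsDefectGroup p M (B i) D) ∧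
      ∀ χ : Fin r → IrrCharacter G,
        (∀ i : Fin r, χ i ∈ B i ∧ blockHeight p (B i) (χ i : G → ℂ) = 0) →
        ¬ MemLocalIdeal M
          (Matrix.det (Matrix.of fun i j : Fin r => (χ i : G → ℂ) (x j))) := by
  classical
  haveI := Fact.mk hM.1
  haveI := Fintype.ofFinite (IrrCharacter G)
  let ι := {B : Set (IrrCharacter G) // IsPBlock M B ∧ IsDefectGroup p M B D}
  choose rep hrep using fun B : ι => IsPBlock.nonempty B.2.1
  let e : IrrCharacter G → G → locSubring M := fun η g =>
    ⟨centralChar (η : G → ℂ) g, memLocalRing_centralChar η g⟩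
  let W : Matrix ι (Fin r) (ResField M) := Matrix.of fun B j => red M (e (rep B) (x j))
  haveI : Fintype ι := Fintype.ofFinite _
  have hinj : Function.Injective W.mulVec := by
    refine (injective_iff_map_eq_zero W.mulVecLin).2 fun v hv => ?_
    choose A hA using fun j => red_surjective (M := M) (v j)
    funext i
    rw [← hA i, Pi.zero_apply, red_eq_zero_iff]
    refine separated_injective hM D x hx hD hsep (fun j => (A j : ℂ)) (fun j => (A j).2)
      (fun B hB hBD η hη => ?_) i
    have h1 := congrFun hv ⟨B, hB, hBD⟩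
    simp only [Matrix.mulVecLin_apply, Matrix.mulVec, dotProduct, W, Matrix.of_apply, ← hA,
      ← map_mul, ← map_sum, Pi.zero_apply, red_eq_zero_iff] at h1
    rw [AddSubmonoidClass.coe_finsetSum] at h1
    have h2 : MemLocalIdeal M
        (∑ j, ((A j : ℂ) * centralChar (η : G → ℂ) (x j) -
          (A j : ℂ) * centralChar (rep ⟨B, hB, hBD⟩ : G → ℂ) (x j))) :=
      memLocalIdeal_sum _ fun j _ => by
        rw [← mul_sub]
        exact memLocalIdeal_mul_left (A j).2 (IsPBlock.sameBlock hB hη (hrep ⟨B, hB, hBD⟩) (x j))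
    rw [Finset.sum_sub_distrib] at h2
    refine (memLocalIdeal_iff_of_sub h2).2 ?_
    simpa [e, mul_comm] using h1
  have hspan : Submodule.span (ResField M) (Set.range W.row) = ⊤ := by
    refine Submodule.eq_top_of_finrank_eq ?_
    rw [← Matrix.rank_eq_finrank_span_row, Matrix.rank,
      LinearMap.finrank_range_of_inj (show Function.Injective W.mulVecLin from hinj)]
  obtain ⟨b, hb, hbspan, hbli⟩ := exists_linearIndependent (ResField M) (Set.range W.row)
  rw [hspan] at hbspan
  let bas := Module.Basis.mk hbli (by rw [Subtype.range_coe_subtype, Set.ofPred_mem_eq, hbspan])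
  haveI : Finite b := ((Set.finite_range _).subset hb).to_subtype
  haveI : Fintype b := Fintype.ofFinite _
  have hcard : Fintype.card b = r := by
    rw [← Module.finrank_eq_card_basis bas, Module.finrank_fin_fun]
  let en : Fin r ≃ b := (finCongr hcard.symm).trans (Fintype.equivFin b).symm
  choose σ hσ using fun i : Fin r => hb (en i).2
  have hσinj : Function.Injective σ := fun i j h =>
    en.injective (Subtype.ext (by rw [← hσ i, ← hσ j, h]))
  refine ⟨fun i => (σ i).1, fun i j h => hσinj (Subtype.ext h), fun i => (σ i).2, fun χ hχ => ?_⟩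
  -- the reduced determinant
  let N : Matrix (Fin r) (Fin r) (locSubring M) := Matrix.of fun i j => e (χ i) (x j)
  have hN : N.map (red M) = Matrix.of fun i => W.row (σ i) := by
    ext i j
    simp only [Matrix.map_apply, N, Matrix.of_apply, W, Matrix.row]
    rw [← sub_eq_zero, ← map_sub, red_eq_zero_iff]
    exact IsPBlock.sameBlock (σ i).2.1 (hχ i).1 (hrep (σ i)) (x j)
  have hdet : ¬ MemLocalIdeal M ((N.det : locSubring M) : ℂ) := by
    intro h0
    rw [← red_eq_zero_iff, RingHom.map_det, RingHom.mapMatrix_apply, hN] at h0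
    have hu : IsUnit (Matrix.of fun i => W.row (σ i)) := by
      have h1 := hbli.comp en en.injective
      have h2 : (Subtype.val ∘ en) = fun i => W.row (σ i) := funext fun i => (hσ i).symm
      rw [h2] at h1
      exact Matrix.linearIndependent_rows_iff_isUnit.1 h1
    exact ((Matrix.isUnit_iff_isUnit_det _).1 hu).ne_zero h0
  -- rescaling to the values
  have hfac : ((N.det : locSubring M) : ℂ) =
      (Matrix.of fun i j : Fin r => (χ i : G → ℂ) (x j)).det *
        ((∏ j, ((Subgroup.centralizer ({x j} : Set G)).index : ℂ)) /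
          ∏ i, (χ i : G → ℂ) 1) := by
    change (locSubring M).subtype N.det = _
    rw [RingHom.map_det, RingHom.mapMatrix_apply]
    have h1 : N.map (locSubring M).subtype = Matrix.diagonal (fun i => ((χ i : G → ℂ) 1)⁻¹) *
        (Matrix.of fun i j : Fin r => (χ i : G → ℂ) (x j)) *
        Matrix.diagonal (fun j => ((Subgroup.centralizer ({x j} : Set G)).index : ℂ)) := by
      ext i j
      rw [Matrix.mul_diagonal, Matrix.diagonal_mul]
      show centralChar (χ i : G → ℂ) (x j) = _
      simp only [centralChar, Matrix.of_apply]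
      ring
    rw [h1, Matrix.det_mul, Matrix.det_mul, Matrix.det_diagonal, Matrix.det_diagonal,
      Finset.prod_inv_distrib]
    ring
  intro hbad
  apply hdet
  rw [hfac]
  refine memLocalIdeal_mul_right hbad ?_
  rw [← Finset.prod_div_distrib]
  refine memLocalRing_prod _ fun i _ => ?_
  obtain ⟨Qi, hQi⟩ := hD i
  have h1 := IsDefectGroup.card_eq hM (σ i).2.1 (σ i).2.2
  replace h1 := (congrArg (fun H : Subgroup G => Nat.card H) hQi).trans h1
  rw [card_sylowSub, pow_right_inj₀ hM.1.pos hM.1.one_lt.ne'] at h1
  have h2 := blockDefect_add_minExp (p := p) (σ i).2.1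
  have h3 := minExp_add_blockHeight (p := p) (hχ i).1
  rw [(hχ i).2, add_zero] at h3
  have h4 : (Nat.card G).factorization p =
      (Subgroup.centralizer ({x i} : Set G)).index.factorization p +
        (Nat.card (Subgroup.centralizer ({x i} : Set G))).factorization p := by
    rw [← (Subgroup.centralizer ({x i} : Set G)).index_mul_card, Nat.factorization_mul
      Subgroup.index_ne_zero_of_finite Nat.card_pos.ne', Finsupp.add_apply]
  have hR : MemLocalRing M
      (((Subgroup.centralizer ({x i} : Set G)).index : ℂ) /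
        (p : ℂ) ^ (charDegree (χ i : G → ℂ)).factorization p) := by
    obtain ⟨t, ht⟩ := (pow_dvd_pow p (show (charDegree (χ i : G → ℂ)).factorization p ≤
      (Subgroup.centralizer ({x i} : Set G)).index.factorization p by
        simp only [nu] at h3; omega)).trans (Nat.ordProj_dvd _ p)
    rw [ht]
    push_cast
    rw [mul_div_cancel_left₀ _ (pow_ne_zero _ (Nat.cast_ne_zero.2 hM.1.ne_zero))]
    exact memLocalRing_natCast t
  rw [irr_apply_one (χ i)]
  exact (memLocalRing_div_natCast_iff hM (charDegree_irr_pos (χ i)).ne' _).2 hR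

end Cfsg.Agent.Lib.BlockHeights
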