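import Cfsg.Agent.Lib.BlockHeights.CoveredStable
import Cfsg.Agent.Lib.Blocks.Reynolds
import Cfsg.Agent.Lib.BrauerPairs.Transport

/-!
# Stable blocks in normal subgroups of `p`-power index
-/

set_option autoImplicit false
set_option linter.unusedSectionVars false
set_option linter.style.haveILetI false

namespace Cfsg.Agent.Lib.BlockHeights

open Cfsg Cfsg.Agent.Lib.Blocks Cfsg.Agent.Lib.Characters
open scoped ComplexConjugate

universe u

variable {G : Type u} [Group G] [Fintype G] {p : ℕ} {M : Ideal AlgInt} [hMp : M.IsPrime]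
  (N : Subgroup G) [hN : N.Normal] [Fintype N]

theorem exists_pow_isPGroup_notMem (hp : p.Prime) {k : ℕ} (hk : N.index = p ^ k) {y : G}
    (hy : y ∉ N) :
    ∃ m : ℕ, IsPGroup p (Subgroup.zpowers (y ^ m)) ∧ y ^ m ∉ N := by
  haveI := Fact.mk hp
  have ho := (orderOf_pos y).ne'
  refine ⟨orderOf y / p ^ (orderOf y).factorization p, ?_, fun hm => hy ?_⟩
  · refine IsPGroup.of_card (n := (orderOf y).factorization p) ?_
    rw [Nat.card_zpowers, orderOf_pow_of_dvd (Nat.ordCompl_pos p ho).ne' (Nat.ordCompl_dvd _ p),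
      Nat.div_div_self (Nat.ordProj_dvd _ p) ho]
  · rw [← QuotientGroup.eq_one_iff] at hm ⊢
    rw [← orderOf_eq_one_iff]
    rw [QuotientGroup.mk_pow] at hm
    have h1 := orderOf_dvd_of_pow_eq_one hm
    have h2 : orderOf (y : G ⧸ N) ∣ p ^ k := by
      rw [← hk, Subgroup.index]; exact orderOf_dvd_natCard _
    have hco : Nat.Coprime (p ^ k) (orderOf y / p ^ (orderOf y).factorization p) :=
      (Nat.coprime_ordCompl hp ho).pow_left k
    exact Nat.eq_one_of_dvd_one (hco ▸ Nat.dvd_gcd h2 h1 :)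

/-- The stabiliser of a set of characters of a normal subgroup. -/
def setStab (c : Set (IrrCharacter N)) : Subgroup G where
  carrier := {g | conjIrrN N g '' c = c}
  one_mem' := by
    show conjIrrN N (1 : G) '' c = c
    rw [show conjIrrN N (1 : G) = id from funext fun θ => Subtype.ext (conjFun_one N _),
      Set.image_id]
  mul_mem' := fun {g h} hg hh => by
    show conjIrrN N (g * h) '' c = c
    rw [show conjIrrN N (g * h) = conjIrrN N h ∘ conjIrrN N g from funext (conjIrrN_mul N g h),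
      Set.image_comp, hg, hh]
  inv_mem' := fun {g} hg => by
    show conjIrrN N g⁻¹ '' c = c
    conv_lhs => rw [← show conjIrrN N g '' c = c from hg]
    rw [Set.image_image]
    simp only [conjIrrN_inv_cancel, Set.image_id']

theorem le_setStab (c : Set (IrrCharacter N)) : N ≤ setStab N c := fun n hn => by
  show conjIrrN N n '' c = c
  rw [show conjIrrN N n = id from funext fun θ => Subtype.ext (funext fun m => by
    show (θ : N → ℂ) _ = (θ : N → ℂ) m
    rw [← irr_isClassFunction θ m ⟨n, hn⟩]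
    rfl), Set.image_id]

theorem blockCoeff_conj_of_mem {c : Set (IrrCharacter N)} {g : G} (hg : g ∈ setStab N c) (n : N) :
    blockCoeff c ⟨g * n * g⁻¹, hN.conj_mem n n.2 g⟩ = blockCoeff c n := by
  rw [← blockCoeff_image_conjIrrN, show conjIrrN N g '' c = c from hg]

theorem centralChar_conjIrrN (g : G) (θ : IrrCharacter N) (n : N) :
    centralChar (conjIrrN N g θ : N → ℂ) n =
      centralChar (θ : N → ℂ) ⟨g * n * g⁻¹, hN.conj_mem n n.2 g⟩ := by
  have h := Cfsg.Agent.Lib.BrauerPairs.centralChar_transIrr (MulAut.conjNormal g : N ≃* N).symm θ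
    ⟨g * n * g⁻¹, hN.conj_mem n n.2 g⟩
  have e1 : Cfsg.Agent.Lib.BrauerPairs.transIrr (MulAut.conjNormal g : N ≃* N).symm θ =
      conjIrrN N g θ := Subtype.ext (funext fun m => congrArg (θ : N → ℂ) (Subtype.ext (by simp)))
  have e2 : (MulAut.conjNormal g : N ≃* N).symm ⟨g * n * g⁻¹, hN.conj_mem n n.2 g⟩ = n :=
    Subtype.ext (by simp [mul_assoc])
  rwa [e1, e2] at h

/-- In a `p`-extension, a stable block lies under a block with defect group outside `N`. -/
theorem exists_defectGroup_not_le (hM : IsPModular p M) {k : ℕ} (hk : N.index = p ^ k)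
    {c : Set (IrrCharacter N)} (hc : IsPBlock M c) {x : G} (hxN : x ∉ N) (hx : x ∈ setStab N c)
    {χ : IrrCharacter G} {θ : IrrCharacter N} (hθ : θ ∈ c)
    (hne : classInner (fun n : N => (χ : G → ℂ) n) (θ : N → ℂ) ≠ 0) :
    ∃ Q : Subgroup G, IsDefectGroup p M (blockOf M (χ : G → ℂ)) Q ∧ ¬ Q ≤ N := by
  classical
  haveI := Fact.mk hM.1
  have he := isRCentral_blockCoeff hM hc
  -- a class of `N` fixed by a `p`-element outside `N`
  obtain ⟨m₀, hm₀p, hm₀N⟩ := exists_pow_isPGroup_notMem N hM.1 hk hxN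
  have ha₀ : x ^ m₀ ∈ setStab N c := pow_mem hx _
  haveI : Finite (ConjClasses N) := Finite.of_surjective _ ConjClasses.mk_surjective
  haveI := Fintype.ofFinite (ConjClasses N)
  have hclass : ∀ f : N → ℂ, IsClassFunction N f → ∀ n : N,
      f (Quotient.out (ConjClasses.mk n)) = f n := fun f hf n => by
    obtain ⟨d, hd⟩ := isConj_iff.1 (ConjClasses.mk_eq_mk_iff_isConj.1
      (Quotient.out_eq (ConjClasses.mk n)))
    exact (hf _ d).symm.trans (congrArg f hd)
  letI : MulAction (Subgroup.zpowers (x ^ m₀)) (ConjClasses N) :=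
    { smul := fun r C => ConjClasses.map (MulAut.conjNormal (r : G) : N ≃* N).toMonoidHom C
      one_smul := fun C => by
        induction C using Quotient.inductionOn with
        | h n =>
          show ConjClasses.mk ((MulAut.conjNormal ((1 : Subgroup.zpowers (x ^ m₀)) : G)) n) =
            ConjClasses.mk n
          simp
      mul_smul := fun r s C => by
        induction C using Quotient.inductionOn with
        | h n =>
          show ConjClasses.mk (MulAut.conjNormal ((r * s : Subgroup.zpowers (x ^ m₀)) : G) n) =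
            ConjClasses.mk (MulAut.conjNormal (r : G) (MulAut.conjNormal (s : G) n))
          simp }
  let g₀ : ConjClasses N → locSubring M := fun C =>
    Function.surjInv red_surjective (red M ⟨centralChar (θ : N → ℂ) (Quotient.out C),
      memLocalRing_centralChar θ _⟩)
  have hg₀ : ∀ C, MemLocalIdeal M ((g₀ C : ℂ) - centralChar (θ : N → ℂ) (Quotient.out C)) :=
    fun C => by
      have h : red M (g₀ C - ⟨centralChar (θ : N → ℂ) (Quotient.out C),
          memLocalRing_centralChar θ _⟩) = 0 := by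
        rw [map_sub, sub_eq_zero]
        exact Function.surjInv_eq red_surjective _
      exact red_eq_zero_iff.1 h
  let F : ConjClasses N → ℂ := fun C => blockCoeff c (Quotient.out C) * (g₀ C : ℂ)
  have hFR : ∀ C, MemLocalRing M (F C) := fun C => memLocalRing_mul (he.2 _) (g₀ C).2
  have hstab : ∀ r : Subgroup.zpowers (x ^ m₀), (r : G) ∈ setStab N c := fun r =>
    (Subgroup.zpowers_le.2 ha₀) r.2
  have hcc : IsClassFunction N (centralChar (θ : N → ℂ)) := fun a d => centralChar_conj θ d a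
  have hFinv : ∀ (r : Subgroup.zpowers (x ^ m₀)) C, F (r • C) = F C := fun r C => by
    induction C using Quotient.inductionOn with
    | h n =>
      show blockCoeff c (Quotient.out (ConjClasses.mk (MulAut.conjNormal (r : G) n))) *
        (g₀ (ConjClasses.mk (MulAut.conjNormal (r : G) n)) : ℂ) =
        blockCoeff c (Quotient.out (ConjClasses.mk n)) * (g₀ (ConjClasses.mk n) : ℂ)
      have hcn : (MulAut.conjNormal (r : G) n : N) =
          ⟨(r : G) * n * (r : G)⁻¹, hN.conj_mem n n.2 (r : G)⟩ := Subtype.ext (by simp)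
      rw [hclass _ he.1, hclass _ he.1, hcn, blockCoeff_conj_of_mem N (hstab r)]
      congr 1
      refine congrArg Subtype.val (congrArg (Function.surjInv red_surjective) ?_)
      rw [← sub_eq_zero, ← map_sub, red_eq_zero_iff]
      show MemLocalIdeal M (centralChar (θ : N → ℂ) _ - centralChar (θ : N → ℂ) _)
      rw [hclass _ hcc, hclass _ hcc, ← centralChar_conjIrrN]
      refine IsPBlock.sameBlock hc ?_ hθ n
      exact (show conjIrrN N (r : G) '' c = c from hstab r) ▸ Set.mem_image_of_mem _ hθ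
  have hsum := Cfsg.Agent.Lib.BrauerPairs.memLocalIdeal_sum_sub_sum_fixed hM hm₀p F hFR hFinv
  have h1 : MemLocalIdeal M (∑ C, F C - 1) := by
    have h := omega_blockCoeff c θ
    rw [if_pos hθ, omega_eq_sum_classes (irr_isClassFunction θ) he.1] at h
    rw [← h, ← Finset.sum_sub_distrib]
    refine memLocalIdeal_sum _ fun C _ => ?_
    show MemLocalIdeal M (blockCoeff c _ * (g₀ C : ℂ) - blockCoeff c _ * _)
    rw [← mul_sub]
    exact memLocalIdeal_mul_left (he.2 _) (hg₀ C)
  obtain ⟨C, hCfix, hCF⟩ : ∃ C, C ∈ MulAction.fixedPoints (Subgroup.zpowers (x ^ m₀))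
      (ConjClasses N) ∧ ¬ MemLocalIdeal M (F C) := by
    by_contra hcon
    refine not_memLocalIdeal_of_sub not_memLocalIdeal_one h1 ?_
    refine (memLocalIdeal_iff_of_sub hsum).2 (memLocalIdeal_sum _ fun C _ => ?_)
    split_ifs with hC
    · by_contra hCF
      exact hcon ⟨C, hC, hCF⟩
    · exact memLocalIdeal_zero
  set w : N := Quotient.out C with hw
  have hwe : ¬ MemLocalIdeal M (blockCoeff c w) := fun h =>
    hCF (memLocalIdeal_mul_right h (g₀ C).2)
  -- a `p`-element outside `N` centralising `w`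
  obtain ⟨d, hd⟩ : ∃ d : N, d * MulAut.conjNormal (x ^ m₀) w * d⁻¹ = w := by
    have hCw : ConjClasses.mk w = C := Quotient.out_eq C
    have h := hCfix ⟨x ^ m₀, Subgroup.mem_zpowers _⟩
    rw [← hCw] at h
    exact isConj_iff.1 (ConjClasses.mk_eq_mk_iff_isConj.1 h)
  set y₁ := (d : G) * x ^ m₀ with hy₁
  have hy₁N : y₁ ∉ N := fun h => hm₀N (by simpa [hy₁] using mul_mem (inv_mem d.2) h)
  obtain ⟨m₁, hm₁p, hm₁N⟩ := exists_pow_isPGroup_notMem N hM.1 hk hy₁N
  set R := Subgroup.zpowers (y₁ ^ m₁) with hR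
  have hRs : R ≤ setStab N c :=
    Subgroup.zpowers_le.2 (pow_mem (mul_mem (le_setStab N c d.2) ha₀) _)
  have hwR : (w : G) ∈ Subgroup.centralizer (R : Set G) := by
    have h : y₁ * (w : G) = (w : G) * y₁ := by
      have h' := congrArg Subtype.val hd
      simp only [Subgroup.coe_mul, Subgroup.coe_inv, MulAut.conjNormal_apply] at h'
      rw [← mul_inv_eq_iff_eq_mul, hy₁, mul_inv_rev]
      simpa only [mul_assoc] using h'
    rw [mem_centralizer_subgroup_iff]
    rintro _ ⟨i, rfl⟩
    exact (((show Commute y₁ (w : G) from h).pow_left m₁).zpow_left i).eq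
  -- the orbit idempotent at a fixed element
  have hcB := IsPBlock.blockOf_subset hc
  have heO := isRCentral_orbitIdem N hM hcB
  have hce : conv (orbitIdem N c) (extendByZero N (blockCoeff c)) =
      extendByZero N (blockCoeff c) := by
    rw [orbitIdem, conv_extZero]
    congr 1
    have hS : IsClassFunction N (blockCoeff (conjClosure N c)) := isClassFunction_blockCoeff _
    refine ext_omega (isClassFunction_conv hS he.1) he.1 fun η => ?_
    rw [omega_conv η.2 hS, omega_blockCoeff, omega_blockCoeff]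
    split_ifs with h1 h2 h3
    · rw [one_mul]
    · rw [mul_zero]
    · exact absurd (subset_conjClosure N c h3) h1
    · rw [mul_zero]
  obtain ⟨z, hzR, hzO⟩ : ∃ z ∈ Subgroup.centralizer (R : Set G),
      ¬ MemLocalIdeal M (orbitIdem N c z) := by
    by_contra hcon
    push Not at hcon
    apply hwe
    rw [← extendByZero_coe N (blockCoeff c) w, ← hce]
    have hloc : ∀ y, MemLocalRing M (extendByZero N (blockCoeff c) y) :=
      memLocalRing_extZero N he.2
    have hinv : ∀ r ∈ R, ∀ y, extendByZero N (blockCoeff c) (r * y * r⁻¹) =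
        extendByZero N (blockCoeff c) y := fun r hr y => by
      by_cases hy : y ∈ N
      · rw [extendByZero_of_mem _ _ hy, extendByZero_of_mem _ _ (hN.conj_mem y hy r)]
        exact blockCoeff_conj_of_mem N (hRs hr) ⟨y, hy⟩
      · rw [extendByZero_of_not_mem _ _ hy, extendByZero_of_not_mem _ _ fun h => hy
          (by simpa [mul_assoc] using hN.conj_mem _ h r⁻¹)]
    have h := memLocalIdeal_sum_sub_sum_centralizer hM R hm₁p
      (fun y => orbitIdem N c y * extendByZero N (blockCoeff c) (y⁻¹ * w))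
      (fun y => memLocalRing_mul (heO.2 y) (hloc _)) (fun r hr y => by
        show orbitIdem N c (r * y * r⁻¹) *
          extendByZero N (blockCoeff c) ((r * y * r⁻¹)⁻¹ * w) = _
        show _ = orbitIdem N c y * extendByZero N (blockCoeff c) (y⁻¹ * w)
        rw [heO.1, ← hinv r hr (y⁻¹ * w)]
        congr 2
        calc (r * y * r⁻¹)⁻¹ * (w : G) = r * y⁻¹ * (r⁻¹ * w) := by group
          _ = r * y⁻¹ * ((w : G) * r⁻¹) := by
            congr 1
            rw [eq_mul_inv_iff_mul_eq, mul_assoc, ← mem_centralizer_subgroup_iff.1 hwR r hr,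
              inv_mul_cancel_left]
          _ = r * (y⁻¹ * w) * r⁻¹ := by group)
    refine (memLocalIdeal_iff_of_sub h).2 (memLocalIdeal_sum _ fun y _ => ?_)
    split_ifs with hy
    · exact memLocalIdeal_mul_right (hcon y hy) (hloc _)
    · exact memLocalIdeal_zero
  -- the orbit idempotent is the block of `χ`
  have hB := isPBlock_blockOf (M := M) χ
  have heq : orbitIdem N c = blockCoeff (blockOf M (χ : G → ℂ)) := by
    refine ext_omega heO.1 (isClassFunction_blockCoeff _) fun η => ?_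
    obtain ⟨ψ, hψ⟩ := exists_constituent_restrict N η
    rw [omega_orbitIdem N c hψ, omega_blockCoeff]
    refine if_congr ⟨?_, fun hη => constituent_mem_conjClosure N hM hcB hη hθ hne hψ⟩ rfl rfl
    rintro ⟨h, θ', hθ', rfl⟩
    rw [classInner_restrict_conjIrrN] at hψ
    exact sameBlock_of_constituents N hM hk (IsPBlock.sameBlock hc hθ hθ') hne hψ
  obtain ⟨Q, hQ⟩ := exists_isDefectGroup hM hB
  obtain ⟨g, hg, S, hS⟩ := id hQ
  obtain ⟨a, ha⟩ := isConjLE_of_coeff hM hB hg S hm₁p hzR (heq ▸ hzO)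
  refine ⟨Q, hQ, fun hQN => hm₁N ?_⟩
  have h2 : a * y₁ ^ m₁ * a⁻¹ ∈ N := hQN (hS ▸ ha ⟨_, Subgroup.mem_zpowers _, rfl⟩)
  simpa [mul_assoc] using hN.conj_mem _ h2 a⁻¹

theorem mem_setStab_iff [Fintype (IrrCharacter N)] (c : Set (IrrCharacter N)) (g : G) :
    g ∈ setStab N c ↔ StabilizesBlock N c g := by
  have key : ∀ h : G, conjIrrN N h '' c ⊆ c → h ∈ setStab N c := fun h hsub =>
    Set.eq_of_subset_of_ncard_le hsub (by
      rw [Set.ncard_image_of_injective _ (conjIrrN_injective N h)]) (Set.toFinite _)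
  constructor
  · intro hg
    refine ⟨by rw [Subgroup.normalizer_eq_top]; exact Subgroup.mem_top g, fun χ hχ =>
      ⟨conjIrrN N g⁻¹ χ, (show conjIrrN N g⁻¹ '' c = c from inv_mem hg) ▸
        Set.mem_image_of_mem _ hχ, fun k k' hk => ?_⟩⟩
    refine congrArg (χ : N → ℂ) (Subtype.ext ?_)
    show g⁻¹ * (k' : G) * g⁻¹⁻¹ = k
    rw [hk]; group
  · rintro ⟨-, h⟩
    rw [← inv_inv g]
    refine inv_mem (key _ ?_)
    rintro _ ⟨χ, hχ, rfl⟩
    obtain ⟨χ', hχ', hcj⟩ := h χ hχ
    suffices e : conjIrrN N g⁻¹ χ = χ' from e ▸ hχ'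
    refine Subtype.ext (funext fun n => (hcj _ n ?_).symm)
    show (n : G) = g * (g⁻¹ * n * g⁻¹⁻¹) * g⁻¹
    group

theorem stab_inf_eq (hM : IsPModular p M) {L : Subgroup G} [hL : L.Normal] [Fintype L]
    (hNL : N ≤ L) {k : ℕ} (hk : (N.subgroupOf L).index = p ^ k) {B : Set (IrrCharacter G)}
    (hB : IsPBlock M B) {c : Set (IrrCharacter N)} (hc : IsPBlock M c)
    (hcov : ∃ χ ∈ B, ∃ θ ∈ c, classInner (fun n : N => (χ : G → ℂ) n) (θ : N → ℂ) ≠ 0)
    {D : Subgroup G} (hD : IsDefectGroup p M B D) (hDN : D ≤ N) :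
    setStab N c ⊓ L = N := by
  classical
  refine le_antisymm (fun x hx => ?_) (le_inf (le_setStab N c) hNL)
  by_contra hxN
  haveI := Fintype.ofFinite (IrrCharacter L)
  haveI := Fintype.ofFinite (N.subgroupOf L)
  obtain ⟨χ, hχ, θ, hθ, hne⟩ := hcov
  have hne' := hne
  rw [classInner_resN_eq_sum N hNL χ (θ : N → ℂ)] at hne'
  obtain ⟨η, -, hη⟩ := Finset.exists_ne_zero_of_sum_ne_zero hne'
  obtain ⟨hη1, hη2⟩ := ne_zero_and_ne_zero_of_mul hη
  have hc' : IsPBlock M (liftN N hNL '' c) :=
    Cfsg.Agent.Lib.BrauerPairs.isPBlock_transBlock (Subgroup.subgroupOfEquivOfLe hNL).symm hc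
  have hxs : (⟨x, hx.2⟩ : L) ∈ setStab (N.subgroupOf L) (liftN N hNL '' c) := by
    show conjIrrN (N.subgroupOf L) _ '' (liftN N hNL '' c) = _
    rw [Set.image_image]
    conv_rhs => rw [← show conjIrrN N x '' c = c from hx.1, Set.image_image]
    exact Set.image_congr fun φ _ => Subtype.ext (conjFun_liftN N hNL ⟨x, hx.2⟩ φ)
  obtain ⟨Q, hQ, hQN⟩ := exists_defectGroup_not_le (N.subgroupOf L) hM hk hc'
    (x := ⟨x, hx.2⟩) (fun h => hxN (Subgroup.mem_subgroupOf.1 h)) hxs
    (Set.mem_image_of_mem _ hθ) (χ := η) (by rwa [classInner_liftN])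
  have hQ' : (Q.map L.subtype).subgroupOf L = Q :=
    Subgroup.comap_map_eq_self_of_injective L.subtype_injective Q
  obtain ⟨P₁, hP₁, hPQ⟩ := exists_defectGroup_inf_eq L hM hB
    (isPBlock_blockOf (M := M) η) ⟨χ, hχ, η, self_mem_blockOf η, hη1⟩
    (Subgroup.map_subtype_le Q) (hQ'.symm ▸ hQ)
  obtain ⟨a, ha⟩ := IsDefectGroup.exists_map_conj_eq hM hB hD hP₁
  apply hQN
  intro q hq
  rw [Subgroup.mem_subgroupOf]
  have h1 : (q : G) ∈ P₁ ⊓ L := hPQ ▸ ⟨q, hq, rfl⟩
  obtain ⟨d, hd, hdq⟩ := ha.symm ▸ h1.1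
  rw [← hdq]
  exact hN.conj_mem d (hDN hd) a

end Cfsg.Agent.Lib.BlockHeights
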