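import Cfsg.Agent.Lib.BlockHeights.Rank
import Cfsg.Agent.Lib.Blocks.SecondMain
import Cfsg.Agent.Lib.Blocks.Principal
import Cfsg.Agent.Lib.BlockHeights.AbelianInertial

/-!
# The generalized decomposition of a character on a section

For a `p`-element `x` with centraliser `C` and a block `e` of `C`, `sect p x e χ` is the `e`-part of
`c ↦ χ (x c)` restricted to the `p`-regular elements of `C`.
-/

set_option autoImplicit false
set_option linter.unusedSectionVars false
set_option linter.style.haveILetI false

namespace Cfsg.Agent.Lib.BlockHeights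

open Cfsg Cfsg.Agent.Lib.Blocks Cfsg.Agent.Lib.Characters
open scoped ComplexConjugate

universe u

/-! ### Projections to a block -/

section Projection

variable {K : Type u} [Group K] [Fintype K] {p : ℕ} {M : Ideal AlgInt} [M.IsPrime]

open Classical in
theorem blockPart_eq_sum [Fintype (IrrCharacter K)] (b : Set (IrrCharacter K)) (f : K → ℂ) :
    blockPart b f = ∑ η : IrrCharacter K,
      (if η ∈ b then classInner f (η : K → ℂ) else 0) • (η : K → ℂ) := by
  funext y
  unfold blockPart
  rw [finsum_irr_eq_sum_ite, Finset.sum_apply]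
  refine Finset.sum_congr rfl fun η _ => ?_
  split_ifs with h
  · rw [Pi.smul_apply, smul_eq_mul]
    congr 2
    congr!
  · simp

open Classical in
theorem classInner_blockPart [Fintype (IrrCharacter K)] (b : Set (IrrCharacter K)) (f : K → ℂ)
    (η : IrrCharacter K) :
    classInner (blockPart b f) (η : K → ℂ) = if η ∈ b then classInner f (η : K → ℂ) else 0 := by
  rw [blockPart_eq_sum, classInner_sum_left, Finset.sum_eq_single η]
  · rw [classInner_smul_left, IsIrrCharacter.classInner_self η.2, mul_one]
  · intro χ _ hne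
    rw [classInner_smul_left, IsIrrCharacter.classInner_ne χ.2 η.2
      (fun h => hne (Subtype.ext h)), mul_zero]
  · simp

theorem isClassFunction_blockPart (b : Set (IrrCharacter K)) (f : K → ℂ) :
    IsClassFunction K (blockPart b f) := by
  haveI := Fintype.ofFinite (IrrCharacter K)
  intro y z
  rw [blockPart_eq_sum]
  simp only [Finset.sum_apply, Pi.smul_apply, irr_isClassFunction _ y z]

theorem ext_classInner {f f' : K → ℂ} (hf : IsClassFunction K f) (hf' : IsClassFunction K f')
    (h : ∀ η : IrrCharacter K, classInner f (η : K → ℂ) = classInner f' (η : K → ℂ)) : f = f' := by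
  haveI := Fintype.ofFinite (IrrCharacter K)
  rw [eq_sum_classInner hf, eq_sum_classInner hf']
  exact Finset.sum_congr rfl fun η _ => by rw [h]

theorem classInner_pRegularPart_comm (f f' : K → ℂ) :
    classInner (pRegularPart p f) f' = classInner f (pRegularPart p f') := by
  rw [classInner, classInner]
  congr 1
  refine Finset.sum_congr rfl fun y _ => ?_
  simp only [pRegularPart_eq, map_mul, conj_regInd]
  ring

/-- The projection to a block commutes with the restriction to the regular elements. -/
theorem blockPart_pRegularPart (hM : IsPModular p M) {b : Set (IrrCharacter K)}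
    (hb : IsPBlock M b) {f : K → ℂ} (hf : IsClassFunction K f) :
    blockPart b (pRegularPart p f) = pRegularPart p (blockPart b f) := by
  classical
  haveI := Fintype.ofFinite (IrrCharacter K)
  refine ext_classInner (isClassFunction_blockPart _ _)
    (isClassFunction_pRegularPart p (isClassFunction_blockPart _ _)) fun η => ?_
  rw [classInner_blockPart, classInner_pRegularPart_comm, classInner_pRegularPart_comm,
    classInner_eq_sum_irr hf (isClassFunction_pRegularPart p (irr_isClassFunction η)),
    classInner_eq_sum_irr (isClassFunction_blockPart b f)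
      (isClassFunction_pRegularPart p (irr_isClassFunction η))]
  simp only [classInner_blockPart]
  split_ifs with hη
  · refine Finset.sum_congr rfl fun ψ _ => ?_
    split_ifs with hψ
    · rfl
    · rw [show classInner (pRegularPart p (η : K → ℂ)) (ψ : K → ℂ) = 0 from
        regInner_eq_zero hM hb hη hψ]
      simp
  · refine (Finset.sum_eq_zero fun ψ _ => ?_).symm
    split_ifs with hψ
    · have : classInner (pRegularPart p (η : K → ℂ)) (ψ : K → ℂ) = 0 := by
        rw [classInner_pRegularPart hM.1, pairing_symm hM.1, pairing_eq_zero hM hb hψ hη,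
          Int.cast_zero, zero_div]
      simp [this]
    · simp

open Classical in
theorem blockPart_irr [Fintype (IrrCharacter K)] (b : Set (IrrCharacter K)) (η : IrrCharacter K) :
    blockPart b (η : K → ℂ) = if η ∈ b then (η : K → ℂ) else 0 := by
  refine ext_classInner (isClassFunction_blockPart _ _) ?_ fun ψ => ?_
  · split_ifs
    · exact irr_isClassFunction η
    · exact fun _ _ => rfl
  rw [classInner_blockPart]
  by_cases h : η = ψ
  · subst h
    split_ifs <;> simp
  · have h0 : classInner (η : K → ℂ) (ψ : K → ℂ) = 0 :=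
      IsIrrCharacter.classInner_ne η.2 ψ.2 fun e => h (Subtype.ext e)
    rw [h0]
    split_ifs <;> simp [h0]

/-- The squared norm of a projection. -/
theorem classInner_blockPart_self [Fintype (IrrCharacter K)]
    (b : Set (IrrCharacter K)) [DecidablePred (· ∈ b)] (f : K → ℂ) :
    classInner (blockPart b f) (blockPart b f) = ∑ η : IrrCharacter K,
      if η ∈ b then classInner f (η : K → ℂ) * conj (classInner f (η : K → ℂ)) else 0 := by
  classical
  rw [classInner_eq_sum_irr (isClassFunction_blockPart b f) (isClassFunction_blockPart b f)]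
  refine Finset.sum_congr rfl fun η _ => ?_
  rw [classInner_blockPart]
  split_ifs <;> simp

end Projection

/-! ### Sections -/

variable {G : Type u} [Group G] [Fintype G] {p : ℕ} {M : Ideal AlgInt} [M.IsPrime]
  {C : Subgroup G} [Fintype C] {x : G}

/-- `c ↦ χ (x c)` on `C`. -/
def shiftRes (C : Subgroup G) (x : G) (χ : G → ℂ) : C → ℂ := fun c => χ (x * (c : G))

/-- The decomposition of `χ` at the subsection `(x, e)`, supported on the regular elements. -/
noncomputable def sect (p : ℕ) (x : G) (e : Set (IrrCharacter C)) (χ : G → ℂ) : C → ℂ :=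
  pRegularPart p (blockPart e (shiftRes C x χ))

theorem isClassFunction_shiftRes (hC : ∀ g, g ∈ C ↔ Commute x g) {χ : G → ℂ}
    (hχ : IsClassFunction G χ) : IsClassFunction C (shiftRes C x χ) := by
  intro c d
  show χ (x * ((d * c * d⁻¹ : C) : G)) = χ (x * (c : G))
  rw [Subgroup.coe_mul, Subgroup.coe_mul, Subgroup.coe_inv, ← hχ (x * (c : G)) (d : G)]
  have hd := ((hC _).1 d.2).eq
  congr 1
  calc x * ((d : G) * c * (d : G)⁻¹) = x * d * c * (d : G)⁻¹ := by group
    _ = d * x * c * (d : G)⁻¹ := by rw [hd]
    _ = _ := by group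

theorem sect_eq_sum (hM : IsPModular p M) (hC : ∀ g, g ∈ C ↔ Commute x g)
    {e : Set (IrrCharacter C)} (he : IsPBlock M e) {χ : G → ℂ} (hχ : IsClassFunction G χ) (s : C) :
    sect p x e χ s =
      ∑ k : C, blockCoeff e (k * s⁻¹) * pRegularPart p (shiftRes C x χ) k := by
  rw [sect, ← blockPart_pRegularPart hM he (isClassFunction_shiftRes hC hχ),
    ← sum_blockCoeff_mul_eq_blockPart e
      (isClassFunction_pRegularPart p (isClassFunction_shiftRes hC hχ)) s]
  refine Fintype.sum_equiv (Equiv.mulRight s) _ _ fun k => ?_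
  simp [Equiv.coe_mulRight]

theorem isConj_shift_iff (hM : IsPModular p M) (hC : ∀ g, g ∈ C ↔ Commute x g)
    (hx : ∃ k : ℕ, orderOf x = p ^ k) {k l : C} (hk : IsPRegular p k) (hl : IsPRegular p l)
    (g : G) : g * (x * (k : G)) * g⁻¹ = x * (l : G) ↔
      ∃ hg : g ∈ C, (⟨g, hg⟩ : C) * k * (⟨g, hg⟩ : C)⁻¹ = l := by
  constructor
  · intro h
    have hpart : ∀ c : C, IsPRegular p c → IsPPart p (x * (c : G)) x := fun c hc =>
      ⟨(c : G), rfl, (hC _).1 c.2, hx, by rw [Subgroup.orderOf_coe]; exact hc⟩
    have hgx : g * x * g⁻¹ = x := by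
      have h1 := IsPPart.conjugate (hpart k hk) g
      rw [h] at h1
      exact isPPart_unique hM.1 h1 (hpart l hl)
    have hg : g ∈ C := (hC g).2 (by
      show x * g = g * x
      conv_lhs => rw [← hgx]
      group)
    refine ⟨hg, Subtype.ext ?_⟩
    show g * (k : G) * g⁻¹ = (l : G)
    have : x * (g * (k : G) * g⁻¹) = x * (l : G) := by
      rw [← h]
      calc x * (g * (k : G) * g⁻¹) = g * x * g⁻¹ * (g * k * g⁻¹) := by rw [hgx]
        _ = _ := by group
    exact mul_left_cancel this
  · rintro ⟨hg, h⟩
    rw [← h]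
    show g * (x * (k : G)) * g⁻¹ = x * (g * (k : G) * g⁻¹)
    have hd := ((hC _).1 hg).eq
    calc g * (x * (k : G)) * g⁻¹ = g * x * k * g⁻¹ := by group
      _ = x * g * k * g⁻¹ := by rw [hd]
      _ = _ := by group

open Classical in
theorem sum_irr_mul_conj_eq_card {K : Type u} [Group K] [Fintype K] [Fintype (IrrCharacter K)]
    (a b : K) : ∑ χ : IrrCharacter K, (χ : K → ℂ) a * conj ((χ : K → ℂ) b) =
      (Nat.card {g : K // g * a * g⁻¹ = b} : ℂ) := by
  rw [sum_irr_mul_conj]
  split_ifs with h
  · obtain ⟨c, hc⟩ := isConj_iff.1 h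
    norm_cast
    refine Nat.card_congr
      { toFun := fun g => ⟨c * g.1, ?_⟩
        invFun := fun g => ⟨c⁻¹ * g.1, ?_⟩
        left_inv := fun g => by simp
        right_inv := fun g => by simp }
    · have hg : a * g.1 = g.1 * a := (Subgroup.mem_centralizer_singleton_iff.1 g.2).symm
      rw [← hc]
      calc c * g.1 * a * (c * g.1)⁻¹ = c * (g.1 * a) * g.1⁻¹ * c⁻¹ := by group
        _ = c * (a * g.1) * g.1⁻¹ * c⁻¹ := by rw [hg]
        _ = _ := by group
    · rw [Subgroup.mem_centralizer_singleton_iff]
      have hg : g.1 * a * g.1⁻¹ = c * a * c⁻¹ := g.2.trans hc.symm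
      calc c⁻¹ * g.1 * a = c⁻¹ * (g.1 * a * g.1⁻¹) * g.1 := by group
        _ = c⁻¹ * (c * a * c⁻¹) * g.1 := by rw [hg]
        _ = _ := by group
  · haveI : IsEmpty {g : K // g * a * g⁻¹ = b} := ⟨fun g => h (isConj_iff.2 ⟨g.1, g.2⟩)⟩
    simp

/-- Second orthogonality inside a section. -/
theorem sum_irr_shift (hM : IsPModular p M) (hC : ∀ g, g ∈ C ↔ Commute x g)
    (hx : ∃ k : ℕ, orderOf x = p ^ k) [Fintype (IrrCharacter G)] [Fintype (IrrCharacter C)]
    {k l : C} (hk : IsPRegular p k) (hl : IsPRegular p l) :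
    ∑ χ : IrrCharacter G, (χ : G → ℂ) (x * (k : G)) * conj ((χ : G → ℂ) (x * (l : G))) =
      ∑ η : IrrCharacter C, (η : C → ℂ) k * conj ((η : C → ℂ) l) := by
  rw [sum_irr_mul_conj_eq_card, sum_irr_mul_conj_eq_card]
  norm_cast
  refine Nat.card_congr
    { toFun := fun g => ⟨⟨g.1, ((isConj_shift_iff hM hC hx hk hl g.1).1 g.2).choose⟩,
        ((isConj_shift_iff hM hC hx hk hl g.1).1 g.2).choose_spec⟩
      invFun := fun c => ⟨c.1.1, (isConj_shift_iff hM hC hx hk hl c.1.1).2 ⟨c.1.2, c.2⟩⟩
      left_inv := fun g => rfl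
      right_inv := fun c => rfl }

open Classical in
/-- **Orthogonality of the decompositions**, over all characters. -/
theorem sum_sect_all (hM : IsPModular p M) (hC : ∀ g, g ∈ C ↔ Commute x g)
    (hx : ∃ k : ℕ, orderOf x = p ^ k) [Fintype (IrrCharacter G)] [Fintype (IrrCharacter C)]
    {e : Set (IrrCharacter C)} (he : IsPBlock M e) (s t : C) :
    ∑ χ : IrrCharacter G, sect p x e (χ : G → ℂ) s * conj (sect p x e (χ : G → ℂ) t) =
      ∑ η : IrrCharacter C, if η ∈ e then
        pRegularPart p (η : C → ℂ) s * conj (pRegularPart p (η : C → ℂ) t) else 0 := by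
  have hR : ∀ η : IrrCharacter C, ∀ u : C, (if η ∈ e then pRegularPart p (η : C → ℂ) u else 0) =
      ∑ k : C, blockCoeff e (k * u⁻¹) * pRegularPart p (η : C → ℂ) k := fun η u => by
    have h1 := congrFun (blockPart_pRegularPart hM he (irr_isClassFunction η)) u
    rw [← sum_blockCoeff_mul_eq_blockPart e
      (isClassFunction_pRegularPart p (irr_isClassFunction η)) u, blockPart_irr] at h1
    have h2 : ∑ k : C, blockCoeff e (k * u⁻¹) * pRegularPart p (η : C → ℂ) k =
        ∑ k : C, blockCoeff e k * pRegularPart p (η : C → ℂ) (k * u) :=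
      (Fintype.sum_equiv (Equiv.mulRight u) _ _ fun k => by simp [Equiv.coe_mulRight]).symm
    rw [h2, h1]
    split_ifs with h
    · rfl
    · simp [pRegularPart_eq]
  have hsplit : ∀ η : IrrCharacter C, (if η ∈ e then
      pRegularPart p (η : C → ℂ) s * conj (pRegularPart p (η : C → ℂ) t) else 0) =
      (∑ k : C, blockCoeff e (k * s⁻¹) * pRegularPart p (η : C → ℂ) k) *
        conj (∑ l : C, blockCoeff e (l * t⁻¹) * pRegularPart p (η : C → ℂ) l) := fun η => by
    rw [← hR, ← hR]
    split_ifs <;> simp
  simp only [hsplit, sect_eq_sum hM hC he (irr_isClassFunction _)]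
  simp only [map_sum, map_mul, Finset.sum_mul_sum]
  rw [Finset.sum_comm]
  conv_rhs => rw [Finset.sum_comm]
  refine Finset.sum_congr rfl fun k _ => ?_
  rw [Finset.sum_comm]
  conv_rhs => rw [Finset.sum_comm]
  refine Finset.sum_congr rfl fun l _ => ?_
  simp only [pRegularPart_eq, map_mul, shiftRes]
  by_cases hk : IsPRegular p k
  · by_cases hl : IsPRegular p l
    · simp only [regInd_of_regular hk, regInd_of_regular hl, map_one, one_mul]
      rw [show ∀ a b : ℂ, ∀ f g : IrrCharacter G → ℂ,
          ∑ i, a * f i * (b * g i) = a * b * ∑ i, f i * g i from fun a b f g => by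
          rw [Finset.mul_sum]; exact Finset.sum_congr rfl fun _ _ => by ring,
        show ∀ a b : ℂ, ∀ f g : IrrCharacter C → ℂ,
          ∑ i, a * f i * (b * g i) = a * b * ∑ i, f i * g i from fun a b f g => by
          rw [Finset.mul_sum]; exact Finset.sum_congr rfl fun _ _ => by ring,
        sum_irr_shift hM hC hx hk hl]
    · simp [regInd_of_singular hl]
  · simp [regInd_of_singular hk]

/-- A character outside the induced block has no decomposition at the subsection. -/
theorem sect_eq_zero (hM : IsPModular p M) (hC : ∀ g, g ∈ C ↔ Commute x g)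
    (hx : ∃ k : ℕ, orderOf x = p ^ k) {e : Set (IrrCharacter C)} {B : Set (IrrCharacter G)}
    (hind : IsInducedBlock M C e B) {χ : IrrCharacter G} (hχ : χ ∉ B) :
    sect p x e (χ : G → ℂ) = 0 := by
  funext s
  rw [sect, pRegularPart_eq]
  by_cases hs : IsPRegular p s
  · have hθ := isClassFunction_shiftRes hC (irr_isClassFunction χ)
    have hxC : x ∈ C := (hC x).2 (Commute.refl x)
    have hle : Subgroup.centralizer ({x} : Set G) ≤ C := fun c hc =>
      (hC c).2 (Subgroup.mem_centralizer_singleton_iff.1 hc).symm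
    have hpart : IsPPart p (((⟨x, hxC⟩ : C) * s : C) : G) x :=
      ⟨(s : G), rfl, (hC _).1 s.2, hx, by rw [Subgroup.orderOf_coe]; exact hs⟩
    have h0 := sum_blockCoeff_mul_eq_zero hM hind hpart hle hχ
    have h1 : blockPart e (shiftRes C x (χ : G → ℂ)) s = 0 := by
      rw [← sum_blockCoeff_mul_eq_blockPart e hθ s, ← h0]
      refine Finset.sum_congr rfl fun k _ => ?_
      congr 1
      show (χ : G → ℂ) (x * ((k * s : C) : G)) = (χ : G → ℂ) ((k : G) * ((⟨x, hxC⟩ * s : C) : G))
      rw [Subgroup.coe_mul, Subgroup.coe_mul, ← mul_assoc, ← mul_assoc, ((hC _).1 k.2).eq]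
    simp [h1]
  · simp [regInd_of_singular hs]

open Classical in
/-- **Orthogonality of the decompositions**, inside the induced block. -/
theorem sum_sect_block (hM : IsPModular p M) (hC : ∀ g, g ∈ C ↔ Commute x g)
    (hx : ∃ k : ℕ, orderOf x = p ^ k) [Fintype (IrrCharacter G)] [Fintype (IrrCharacter C)]
    {e : Set (IrrCharacter C)} {B : Set (IrrCharacter G)} (hind : IsInducedBlock M C e B)
    (s t : C) :
    ∑ᶠ χ ∈ B, sect p x e (χ : G → ℂ) s * conj (sect p x e (χ : G → ℂ) t) =
      ∑ η : IrrCharacter C, if η ∈ e then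
        pRegularPart p (η : C → ℂ) s * conj (pRegularPart p (η : C → ℂ) t) else 0 := by
  rw [finsum_block_eq_sum B _ fun χ hχ => by simp [sect_eq_zero hM hC hx hind hχ],
    sum_sect_all hM hC hx hind.1]

open Classical in
/-- **The norms of the decompositions sum to the regular rank.** -/
theorem sum_sect_norm (hM : IsPModular p M) (hC : ∀ g, g ∈ C ↔ Commute x g)
    (hx : ∃ k : ℕ, orderOf x = p ^ k) {e : Set (IrrCharacter C)} {B : Set (IrrCharacter G)}
    (hind : IsInducedBlock M C e B) :
    ∑ᶠ χ ∈ B, ∑ s : C, sect p x e (χ : G → ℂ) s * conj (sect p x e (χ : G → ℂ) s) =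
      (Nat.card C : ℂ) * (blockRank p e : ℂ) := by
  haveI := Fintype.ofFinite (IrrCharacter G)
  haveI := Fintype.ofFinite (IrrCharacter C)
  rw [finsum_mem_eq_finite_toFinset_sum _ (Set.toFinite B), Finset.sum_comm,
    card_mul_blockRank hM hind.1]
  refine Finset.sum_congr rfl fun s _ => ?_
  rw [← finsum_mem_eq_finite_toFinset_sum _ (Set.toFinite B), sum_sect_block hM hC hx hind,
    finsum_irr_eq_sum_ite]
  refine Finset.sum_congr rfl fun η _ => ?_
  split_ifs
  · simp only [pRegularPart_eq, map_mul, conj_regInd]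
    rw [IsCharacter.apply_inv (irr_isCharacter η)]
    linear_combination ((η : C → ℂ) s * conj ((η : C → ℂ) s)) * regInd_mul_self p s
  · rfl

end Cfsg.Agent.Lib.BlockHeights
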