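import Cfsg.Agent.Lib.BrauerPairs.CentralDefectZero
import Cfsg.Agent.Lib.BrauerPairs.Inertial
import Cfsg.Agent.Lib.Blocks.NormalP
import Cfsg.Agent.Lib.Characters.DegreeRatio
import Cfsg.Agent.Lib.Glauberman.RelativeInertial
import Cfsg.Agent.Lib.Blocks.Transport

/-!
# Pairs carrying a weight
-/

set_option autoImplicit false
set_option linter.unusedSectionVars false
set_option linter.style.haveILetI false

namespace Cfsg.Agent.Lib.BlockHeights

open Cfsg Cfsg.Agent.Lib.Blocks Cfsg.Agent.Lib.Characters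

universe u

variable {G : Type u} [Group G] [Fintype G] {p : ℕ} {M : Ideal AlgInt} [hMp : M.IsPrime]

theorem weight_centric (hM : IsPModular p M) {Q : Subgroup G} (hQ : IsPGroup p Q)
    {e : Set (IrrCharacter (Subgroup.centralizer (Q : Set G)))} (he : IsPBlock M e)
    (T : Subgroup G) [Fintype T] (hCT : Subgroup.centralizer (Q : Set G) ≤ T) (hQT : Q ≤ T)
    (hTN : T ≤ Subgroup.normalizer (Q : Set G)) {F' : Set (IrrCharacter T)}
    (hF'e : ∀ t : T, blockCoeff F' t =
      subgroupBlockCoeff (Subgroup.centralizer (Q : Set G)) e (t : G))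
    {χ : IrrCharacter T} (hχ : χ ∈ F')
    (hker : ∀ t : T, (t : G) ∈ Q → (χ : T → ℂ) t = (χ : T → ℂ) 1)
    (hdeg : (charDegree (χ : T → ℂ)).factorization p + (Nat.card Q).factorization p =
      (Nat.card T).factorization p) :
    IsDefectGroup p M e ((Q ⊓ Subgroup.centralizer (Q : Set G)).subgroupOf
      (Subgroup.centralizer (Q : Set G))) ∧
    ∀ R : Subgroup G, R ≤ T → IsPGroup p R → (∀ t ∈ T, t ∈ Subgroup.normalizer (R : Set G)) →
      R ≤ Q := by
  classical
  haveI := Fact.mk hM.1
  haveI : (Q.subgroupOf T).Normal := subgroupOf_normal_of_le_normalizer hTN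
  haveI hCn : ((Subgroup.centralizer (Q : Set G)).subgroupOf T).Normal := subgroupOf_normal_of_le_normalizer fun t ht =>
    BrauerPairs.normalizer_le_normalizer_centralizer Q (hTN ht)
  haveI := Fintype.ofFinite (T ⧸ Q.subgroupOf T)
  haveI := Fintype.ofFinite (Subgroup.centralizer (Q : Set G))
  obtain ⟨χq, hχq, hχeq⟩ := IsIrrCharacter.exists_quotient χ.2 (Q.subgroupOf T)
    fun t ht => hker t (Subgroup.mem_subgroupOf.1 ht)
  have hQcard : Nat.card (Q.subgroupOf T) = Nat.card Q :=
    Nat.card_congr (Subgroup.subgroupOfEquivOfLe hQT).toEquiv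
  have hdegq : (charDegree χq).factorization p =
      (Nat.card (T ⧸ Q.subgroupOf T)).factorization p := by
    have h1 : charDegree (χ : T → ℂ) = charDegree χq := by simp [charDegree, hχeq]
    have h2 := BrauerPairs.factorization_index hM.1 (Q.subgroupOf T)
    rw [hQcard] at h2
    rw [h1] at hdeg
    omega
  constructor
  swap
  · intro R hRT hR hRN
    -- a block of defect zero of `T/Q`
    let χ₀ : IrrCharacter (T ⧸ Q.subgroupOf T) := ⟨χq, hχq⟩
    have hχ0 : ¬ p ∣ Nat.card (T ⧸ Q.subgroupOf T) / charDegree (χ₀ : T ⧸ Q.subgroupOf T → ℂ) := by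
      obtain ⟨n, hn⟩ := charDegree_dvd_card χ₀
      rw [hn, Nat.mul_div_cancel_left n (charDegree_pos χ₀)]
      intro hd
      have hn0 : n ≠ 0 := by rintro rfl; rw [mul_zero] at hn; exact Nat.card_pos.ne' hn
      have h2 := congrArg (fun m => m.factorization p) hn
      simp only [Nat.factorization_mul (charDegree_pos χ₀).ne' hn0, Finsupp.coe_add,
        Pi.add_apply] at h2
      have h3 := hM.1.factorization_pos_of_dvd hn0 hd
      have h4 : (charDegree (χ₀ : T ⧸ Q.subgroupOf T → ℂ)).factorization p =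
        (Nat.card (T ⧸ Q.subgroupOf T)).factorization p := hdegq
      omega
    have hsing := blockOf_eq_singleton hM χ₀ hχ0
    have hB' : IsPBlock M ({χ₀} : Set (IrrCharacter (T ⧸ Q.subgroupOf T))) :=
      hsing ▸ isPBlock_blockOf χ₀
    obtain ⟨E, hE⟩ := exists_isDefectGroup hM hB'
    have hEcard : Nat.card E = 1 := by
      rw [IsDefectGroup.card_eq hM hB' hE]
      simp [blockDefect, χ₀, hdegq]
    set f := QuotientGroup.mk' (Q.subgroupOf T)
    haveI : (R.subgroupOf T).Normal := subgroupOf_normal_of_le_normalizer hRN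
    haveI : ((R.subgroupOf T).map f).Normal := Subgroup.Normal.map inferInstance _
      (QuotientGroup.mk'_surjective _)
    have hle := le_of_isDefectGroup hM ((hR.of_equiv (Subgroup.subgroupOfEquivOfLe hRT).symm).map f)
      hB' hE
    rw [Subgroup.eq_bot_of_card_eq E hEcard] at hle
    intro r hr
    have h := hle ⟨⟨r, hRT hr⟩, hr, rfl⟩
    rw [Subgroup.mem_bot] at h
    exact Subgroup.mem_subgroupOf.1 ((QuotientGroup.eq_one_iff _).1 h)
  -- the constituent on `(Subgroup.centralizer (Q : Set G))(Q)`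
  let f : (Subgroup.centralizer (Q : Set G)) →* T ⧸ Q.subgroupOf T :=
    (QuotientGroup.mk' (Q.subgroupOf T)).comp (Subgroup.inclusion hCT)
  haveI hfn : f.range.Normal := by
    have : f.range = ((Subgroup.centralizer (Q : Set G)).subgroupOf T).map (QuotientGroup.mk' (Q.subgroupOf T)) := by
      ext x
      constructor
      · rintro ⟨c, rfl⟩; exact ⟨Subgroup.inclusion hCT c, c.2, rfl⟩
      · rintro ⟨t, ht, rfl⟩; exact ⟨⟨t, ht⟩, rfl⟩
    rw [this]
    exact Subgroup.Normal.map hCn _ (QuotientGroup.mk'_surjective _)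
  haveI := Fintype.ofFinite f.range
  obtain ⟨θb, hθb⟩ := exists_constituent_restrict f.range (⟨χq, hχq⟩ : IrrCharacter _)
  obtain ⟨k, hk, hkdvd⟩ := degree_ratio_dvd_index f.range hχq θb.2 hθb
  let θ : IrrCharacter (Subgroup.centralizer (Q : Set G)) := ⟨(θb : f.range → ℂ) ∘ f.rangeRestrict,
    IsIrrCharacter.comp_surjective θb.2 _ f.rangeRestrict_surjective⟩
  have hne : classInner (fun c : (Subgroup.centralizer (Q : Set G)) => (χ : T → ℂ) (Subgroup.inclusion hCT c)) (θ : (Subgroup.centralizer (Q : Set G)) → ℂ) ≠ 0 := by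
    rw [show (fun c : (Subgroup.centralizer (Q : Set G)) => (χ : T → ℂ) (Subgroup.inclusion hCT c)) =
      (fun y : f.range => χq y) ∘ f.rangeRestrict from funext fun c => congrFun hχeq _]
    show classInner _ ((θb : f.range → ℂ) ∘ f.rangeRestrict) ≠ 0
    rw [Cfsg.Agent.Lib.Glauberman.classInner_comp_surjective _ f.rangeRestrict_surjective]
    exact hθb
  have hθe : θ ∈ e := by
    haveI := Fintype.ofFinite ((Subgroup.centralizer (Q : Set G)).subgroupOf T)
    let ε : (Subgroup.centralizer (Q : Set G)).subgroupOf T ≃* (Subgroup.centralizer (Q : Set G)) := Subgroup.subgroupOfEquivOfLe hCT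
    have hsupp : ∀ t : T, t ∉ (Subgroup.centralizer (Q : Set G)).subgroupOf T → blockCoeff F' t = 0 := fun t ht => by
      rw [hF'e, BrauerPairs.subgroupBlockCoeff_of_notMem e fun h => ht (Subgroup.mem_subgroupOf.2 h)]
    let θ' : IrrCharacter ((Subgroup.centralizer (Q : Set G)).subgroupOf T) := ⟨(θ : (Subgroup.centralizer (Q : Set G)) → ℂ) ∘ ε, IsIrrCharacter.comp_equiv θ.2 ε⟩
    have hne' : classInner (fun t : (Subgroup.centralizer (Q : Set G)).subgroupOf T => (χ : T → ℂ) t)
        (θ' : (Subgroup.centralizer (Q : Set G)).subgroupOf T → ℂ) ≠ 0 := by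
      rw [show (fun t : (Subgroup.centralizer (Q : Set G)).subgroupOf T => (χ : T → ℂ) t) =
        (fun c : (Subgroup.centralizer (Q : Set G)) => (χ : T → ℂ) (Subgroup.inclusion hCT c)) ∘ ε from rfl]
      show classInner _ ((θ : (Subgroup.centralizer (Q : Set G)) → ℂ) ∘ ε) ≠ 0
      rwa [classInner_comp_equiv]
    have h := omega_eq_of_constituent ((Subgroup.centralizer (Q : Set G)).subgroupOf T) hne' (isClassFunction_blockCoeff F') hsupp
    rw [omega_blockCoeff, if_pos hχ] at h
    change 1 = omega ((θ : (Subgroup.centralizer (Q : Set G)) → ℂ) ∘ ε) _ at h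
    rw [Cfsg.Agent.Lib.Blocks.omega_comp_equiv, show resFun ((Subgroup.centralizer (Q : Set G)).subgroupOf T) (blockCoeff F') ∘ ε.symm = blockCoeff e from
      funext fun c => (hF'e _).trans (BrauerPairs.subgroupBlockCoeff_of_mem e c.2),
      omega_blockCoeff] at h
    by_contra hn
    rw [if_neg hn] at h
    exact one_ne_zero h
  set Z := (Q ⊓ (Subgroup.centralizer (Q : Set G))).subgroupOf (Subgroup.centralizer (Q : Set G)) with hZ
  have hZc : Z ≤ Subgroup.center (Subgroup.centralizer (Q : Set G)) := fun z hz => Subgroup.mem_center_iff.2 fun c => Subtype.ext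
    (Subgroup.mem_centralizer_iff.1 c.2 _ (Subgroup.mem_subgroupOf.1 hz).1).symm
  haveI : Z.Normal := ⟨fun z hz c => by
    rw [Subgroup.mem_center_iff.1 (hZc hz) c, mul_inv_cancel_right]; exact hz⟩
  have hkerf : f.ker = Z := by
    ext c
    rw [MonoidHom.mem_ker]
    show ((Subgroup.inclusion hCT c : T) : T ⧸ Q.subgroupOf T) = 1 ↔ _
    rw [QuotientGroup.eq_one_iff]
    exact ⟨fun h => Subgroup.mem_subgroupOf.2 ⟨Subgroup.mem_subgroupOf.1 h, c.2⟩,
      fun h => Subgroup.mem_subgroupOf.2 (Subgroup.mem_subgroupOf.1 h).1⟩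
  have hZp : IsPGroup p Z := (hQ.to_le (inf_le_left : Q ⊓ (Subgroup.centralizer (Q : Set G)) ≤ Q)).of_equiv
    (Subgroup.subgroupOfEquivOfLe (inf_le_right : Q ⊓ (Subgroup.centralizer (Q : Set G)) ≤ (Subgroup.centralizer (Q : Set G)))).symm
  have hθker : ∀ z : (Subgroup.centralizer (Q : Set G)), z ∈ Z → (θ : (Subgroup.centralizer (Q : Set G)) → ℂ) z = (θ : (Subgroup.centralizer (Q : Set G)) → ℂ) 1 := fun z hz => by
    show (θb : f.range → ℂ) (f.rangeRestrict z) = (θb : f.range → ℂ) (f.rangeRestrict 1)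
    refine congrArg _ (Subtype.ext ?_)
    rw [MonoidHom.coe_rangeRestrict, MonoidHom.coe_rangeRestrict, map_one,
      ← MonoidHom.mem_ker, hkerf]
    exact hz
  have hθdeg : (charDegree (θ : (Subgroup.centralizer (Q : Set G)) → ℂ)).factorization p + (Nat.card Z).factorization p =
      (Nat.card (Subgroup.centralizer (Q : Set G))).factorization p := by
    have h1 : charDegree (θ : (Subgroup.centralizer (Q : Set G)) → ℂ) = charDegree (θb : f.range → ℂ) := by
      simp [charDegree, θ]
    have hk' : charDegree χq = k * charDegree (θb : f.range → ℂ) := by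
      have h2 := hk
      change ((⟨χq, hχq⟩ : IrrCharacter _) : T ⧸ Q.subgroupOf T → ℂ) 1 = _ at h2
      rw [← charDegree_eq, ← charDegree_eq θb] at h2
      exact_mod_cast h2
    have hi0 : f.range.index ≠ 0 := Subgroup.index_ne_zero_of_finite
    have hk0 : k ≠ 0 := fun h => hi0 (Nat.eq_zero_of_zero_dvd (h ▸ hkdvd))
    have h2 := congrArg (fun m => m.factorization p) hk'
    simp only [Nat.factorization_mul hk0 (charDegree_pos θb).ne', Finsupp.coe_add,
      Pi.add_apply] at h2
    have h3 : k.factorization p ≤ f.range.index.factorization p :=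
      (Nat.factorization_le_iff_dvd hk0 hi0).2 hkdvd p
    have h4 := congrArg (fun m => m.factorization p) f.range.card_mul_index
    simp only [Nat.factorization_mul Nat.card_pos.ne' hi0, Finsupp.coe_add, Pi.add_apply] at h4
    have h5 := congrArg (fun m => m.factorization p) (Subgroup.card_eq_card_quotient_mul_card_subgroup f.ker)
    simp only [Nat.factorization_mul Nat.card_pos.ne' Nat.card_pos.ne', Finsupp.coe_add,
      Pi.add_apply, Nat.card_congr (QuotientGroup.quotientKerEquivRange f).toEquiv] at h5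
    rw [hkerf] at h5
    have h6 : (charDegree (θb : f.range → ℂ)).factorization p ≤
        (Nat.card f.range).factorization p :=
      (Nat.factorization_le_iff_dvd (charDegree_pos θb).ne' Nat.card_pos.ne').2
        (charDegree_dvd_card θb) p
    rw [h1]
    omega
  obtain ⟨D, hD⟩ := exists_isDefectGroup hM he
  have hDle := BrauerPairs.defectGroup_le_of_defectZero hM hZp
    (fun x _ => Subgroup.mem_centralizer_iff.2 fun z hz =>
      (Subgroup.mem_center_iff.1 (hZc hz) x).symm) he hθe hθker hθdeg hD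
  rwa [le_antisymm hDle (le_of_isDefectGroup hM hZp he hD)] at hD

end Cfsg.Agent.Lib.BlockHeights
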